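import Cfsg.Agent.Mg.Z

/-! Essential subgroups of groups of maximal class: the data. -/

set_option autoImplicit false
set_option linter.unusedSectionVars false
set_option linter.unusedVariables false

namespace CF.Mh

open Cfsg Subgroup CF.Fus CF.FusC CF.Mxc CF.Mg Module
open CF.Fgs2 (MaxC)
open scoped commutatorElement

universe u

variable {G : Type u} [Group G] {p t : ℕ} {E H N S Γ : Subgroup G} {L K M : ℕ → Subgroup G} {g u x y γ : G}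

/-- the weights of `g ∈ N(S)` on the levels `M j / M (j + 1)` -/
structure Ws (p t : ℕ) (S : Subgroup G) (K M : ℕ → Subgroup G) (g : G) (μ ν : ℤ) : Prop where
  nm : g ∈ Nm S
  u0 : ¬ (p : ℤ) ∣ μ
  u1 : ¬ (p : ℤ) ∣ ν
  w0 : WtOn g S (M 0) μ
  w1 : ∀ j, j ≤ t + 2 → WtOn g (M j) (M (j + 1)) (ν * μ ^ j)
  wn : K (t + 2) = K 1 → WtOn g (M (t + 3)) ⊥ (ν * μ ^ (t + 3))
  we : K (t + 2) ≠ K 1 → WtOn g (M (t + 3)) ⊥ (ν ^ 2 * μ ^ (t + 2))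

/-- the series `γ₁, γ₂, …` -/
def Mj (L K : ℕ → Subgroup G) : ℕ → Subgroup G
  | 0 => K 1
  | j + 1 => L (j + 1)

/-- a group of maximal class with the series `M j = γ_{j+1}` (`M 0 = K 1`, centre `M (t + 3)`) -/
structure MZ1 (p t : ℕ) (S : Subgroup G) (L K M : ℕ → Subgroup G) : Prop extends MY p t S L K where
  mc : MaxC p (t + 5) S
  m0 : M 0 = K 1
  ms : ∀ {j : ℕ}, 1 ≤ j → M j = L j
  mle : ∀ {j : ℕ}, M j ≤ S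
  manti : ∀ {i j : ℕ}, i ≤ j → M j ≤ M i
  mbot : ∀ {j : ℕ}, t + 4 ≤ j → M j = ⊥
  mch : ∀ {j : ℕ}, Nm S ≤ Nm (M j)
  kch : Nm S ≤ Nm (K (t + 2))
  mcard : ∀ {j k : ℕ}, j + k = t + 4 → Nat.card (M j) = p ^ k
  midx : ∀ {j : ℕ}, j ≤ t + 3 → (M (j + 1)).relIndex (M j) = p
  mlev : ∀ {x : G} {i j : ℕ}, x ∈ M i → x ∉ M j → ∃ r, i ≤ r ∧ r < j ∧ r ≤ t + 3 ∧ x ∈ M r ∧ x ∉ M (r + 1)
  ms1 : ∀ {j : ℕ} {x s : G}, x ∈ M j → s ∈ S → ⁅x, s⁆ ∈ M (j + 1)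
  msn : ∀ {j : ℕ} {x s : G}, j ≤ t + 1 → x ∈ M j → x ∉ M (j + 1) → s ∈ S → s ∉ K 1 → ⁅x, s⁆ ∉ M (j + 2)
  mz2 : ∀ {x s : G}, x ∈ M (t + 2) → x ∉ M (t + 3) → s ∈ S → s ∉ K (t + 2) → ⁅x, s⁆ ≠ 1
  cw : ∀ {i j k : ℕ} {x y : G}, x ∈ M i → y ∈ M j → k ≤ i + j + 1 → ⁅x, y⁆ ∈ M k
  c3 : ∀ {x y : G}, x ∈ M 0 → y ∈ M 0 → ⁅x, y⁆ ∈ M 3
  inv : ∀ {W : Subgroup G} {s : G}, W ≤ M 0 → M (t + 3) ≤ W → s ∈ S → s ∉ K 1 → s ∈ Nm W →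
    ∃ j, j ≤ t + 3 ∧ W = M j

/-- commutators and powers -/
structure MZ0 (p t : ℕ) (S : Subgroup G) (L K M : ℕ → Subgroup G) : Prop extends MZ1 p t S L K M where
  cs : ∀ {i j : ℕ} {x y : G}, x ∈ M i → y ∈ M j → i + j ≤ t + 1 → ⁅x, y⁆ ∈ M (i + j + 2)
  cn : ∀ {i j k : ℕ} {x y : G}, K (t + 2) = K 1 → x ∈ M i → y ∈ M j → k ≤ i + j + 2 → ⁅x, y⁆ ∈ M k
  ce : ∀ {i j : ℕ} {x y : G}, K (t + 2) ≠ K 1 → i + j = t + 2 → x ∈ M i → x ∉ M (i + 1) → y ∈ M j →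
    y ∉ M (j + 1) → ⁅x, y⁆ ≠ 1
  ex : K (t + 2) ≠ K 1 → Odd t ∧ t + 4 ≤ p
  pw0 : ∀ {j : ℕ} {x : G}, 1 ≤ j → x ∈ M j → x ^ p ∈ M (j + p - 1)
  pw1 : ∀ {x : G}, p ≤ t + 3 → x ∈ M 0 → x ^ p = 1 → x ∈ M (t + 5 - p)
  pw2 : ∀ {x : G}, p ≤ t + 3 → x ∈ M 0 → x ∉ M 1 → x ^ p ∉ M p

/-- weights -/
structure MZ (p t : ℕ) (S : Subgroup G) (L K M : ℕ → Subgroup G) : Prop extends MZ0 p t S L K M where
  wt : ∀ {g : G}, g ∈ Nm S → ∃ μ ν, Ws p t S K M g μ ν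

/-- `Γ / E C(E)` is strongly embedded in `N(E) / E C(E)` -/
structure SE (E N Γ : Subgroup G) : Prop where
  le : Γ ≤ Nm E
  nG : N ≤ Γ
  cG : Cn E ≤ Γ
  ex : ∃ ξ ∈ Nm E, ξ ∉ Γ
  g3 : ∀ x ∈ N, x ∉ E → ∀ g ∈ Nm E, g * x * g⁻¹ ∈ Γ → g ∈ Γ

/-- `Ω₁ Z(E)` -/
def Yo (p : ℕ) (E : Subgroup G) : Subgroup G where
  carrier := {y | y ∈ E ∧ y ∈ Cn E ∧ y ^ p = 1}
  one_mem' := ⟨one_mem _, one_mem _, one_pow _⟩
  mul_mem' := fun {a b} ha hb => ⟨mul_mem ha.1 hb.1, mul_mem ha.2.1 hb.2.1, by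
    rw [Commute.mul_pow (hb.2.1 a ha.1), ha.2.2, hb.2.2, one_mul]⟩
  inv_mem' := fun ha => ⟨inv_mem ha.1, inv_mem ha.2.1, by rw [inv_pow, ha.2.2, inv_one]⟩

theorem mem_Yo : y ∈ Yo p E ↔ y ∈ E ∧ y ∈ Cn E ∧ y ^ p = 1 := Iff.rfl

theorem Yo_le : Yo p E ≤ E := fun _ h => h.1

theorem le_Cn_Yo : E ≤ Cn (Yo p E) := Cn_symm fun _ h => h.2.1

theorem conj_Yo (hg : g ∈ Nm E) (hy : y ∈ Yo p E) : g * y * g⁻¹ ∈ Yo p E :=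
  ⟨conj_mem_of_norm hg hy.1, conj_mem_of_norm (norm_Cn hg) hy.2.1, by rw [conj_pow, hy.2.2]; simp⟩

theorem el_Yo : El p ⊥ (Yo p E) :=
  ⟨fun x hx y hy => mem_bot.2 (mem_Cn_comm.1 hy.2.1 x hx.1), fun x hx => mem_bot.2 hx.2.2⟩

theorem norm_Yo [Finite G] : Nm E ≤ Nm (Yo p E) := fun g hg =>
  norm_of_Cj_le (img_le_iff.2 fun _ hy => conj_Yo hg hy)

/-- the configuration of a proper essential subgroup of `γ₁` -/
structure DD (p t : ℕ) (S : Subgroup G) (L K M : ℕ → Subgroup G) (E Γ : Subgroup G) : Prop where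
  m : MZ p t S L K M
  p5 : 5 ≤ p
  sat : Sat (FT S) p
  ess : (FT S).IsEssential p E
  se : SE E (NS S E) Γ
  lt : E < M 0
  nN : NS S E ≤ M 0
  nR : ∀ γ ∈ Nm (M 0), ∀ g ∈ Nm E, γ * g * γ⁻¹ ∈ Nm (M (t + 3)) → g ∈ Γ

/-- automorphisms of `N_S(E)` extend to `γ₁` -/
structure DX (p t : ℕ) (S : Subgroup G) (L K M : ℕ → Subgroup G) (E Γ : Subgroup G) : Prop
    extends DD p t S L K M E Γ where
  hx : ∀ g ∈ Nm (NS S E), ∃ n ∈ Nm (M 0), n⁻¹ * g ∈ Cn (NS S E)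

/-- the quadratic element `z` -/
structure ZD (p t : ℕ) (S : Subgroup G) (M : ℕ → Subgroup G) (E : Subgroup G) (i : ℕ) (z : G) : Prop where
  i2 : 2 ≤ i
  it : i ≤ t + 3
  le : M i ≤ E
  zM : z ∈ M (i - 1)
  zE : z ∉ E
  zN : z ∈ NS S E
  sq : ∀ y ∈ Yo p E, ⁅z, ⁅z, y⁆⁆ = 1

/-- Weyl and torus elements -/
structure TD (p : ℕ) (E N Γ : Subgroup G) (z w h : G) (l m : ℤ) : Prop where
  lm : (p : ℤ) ∣ l * m - 1
  prim : ∀ k : ℕ, (p : ℤ) ∣ l ^ k - 1 → p - 1 ∣ k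
  hE : h ∈ Nm E
  hN : h ∈ Nm N
  wE : w ∈ Nm E
  wG : w ∉ Γ
  a1 : ∀ y ∈ Yo p E, ⁅z, y⁆ = 1 → ∃ v ∈ Yo p E, y⁻¹ * (h * y * h⁻¹) = ⁅z, v⁆
  a2 : ∀ v ∈ Yo p E, h * ⁅z, v⁆ * h⁻¹ = ⁅z, v⁆ ^ l
  b : ∀ y ∈ Yo p E, ⁅z, y⁆ = 1 → h * y * h⁻¹ = y → w * y * w⁻¹ = y
  c : ∀ y ∈ Yo p E, ⁅z, y⁆ = 1 → h * y * h⁻¹ = y ^ l → h * (w * y * w⁻¹) * h⁻¹ = (w * y * w⁻¹) ^ m
  r1 : h ^ (p - 1) ∈ Cn (Yo p E)
  r2 : (z ^ l ^ 2)⁻¹ * (h * z * h⁻¹) ∈ Cn (Yo p E)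
  r3 : h * w * h * w⁻¹ ∈ Cn (Yo p E)
  r4 : ∀ j : ℕ, (w * z ^ m ^ j * w⁻¹ * h ^ j * z ^ m ^ j)⁻¹ * (z ^ (-l ^ j) * w) ∈ Cn (Yo p E)

/-- the linear form of `TD` -/
structure TL {k V : Type*} [Field k] [AddCommGroup V] [Module k V] (p : ℕ) (X P Γ : Subgroup (End k V)ˣ)
    (z w h : (End k V)ˣ) (l : kˣ) : Prop where
  hX : h ∈ X
  hP : h ∈ Nm P
  wX : w ∈ X
  wG : w ∉ Γ
  a1 : ∀ v, (z.val - 1) v = 0 → ∃ u, h.val v - v = (z.val - 1) u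
  a2 : h.val * (z.val - 1) = (l : k) • (z.val - 1)
  b : ∀ v, (z.val - 1) v = 0 → h.val v = v → w.val v = v
  c : ∀ v, (z.val - 1) v = 0 → h.val v = (l : k) • v → h.val (w.val v) = ((l⁻¹ : kˣ) : k) • w.val v
  r1 : h ^ (p - 1) = 1
  r2 : ∀ n : ℤ, (n : k) = (l : k) ^ 2 → h * z * h⁻¹ = z ^ n
  r3 : h * w * h * w⁻¹ = 1
  r4 : ∀ (j : ℕ) (n n' : ℤ), (n : k) = -(l : k) ^ j → (n' : k) = ((l⁻¹ : kˣ) : k) ^ j →
    z ^ n * w = w * z ^ n' * w⁻¹ * h ^ j * z ^ n'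

/-- a self-centralizing Sylow subgroup `⟨s⟩` of order `p` normalizing no `p'`-subgroup -/
structure SG {Q : Type*} [Group Q] (p : ℕ) (X : Subgroup Q) (s : Q) : Prop where
  mem : s ∈ X
  ne : s ≠ 1
  pw : s ^ p = 1
  syl : SylIn p (zpowers s) X
  cen : ∀ g ∈ X, Commute g s → g ∈ zpowers s
  fb : ∀ R, R ≤ X → ¬ p ∣ Nat.card R → s ∈ Nm R → R = ⊥

theorem SE.cj (h : SE E N Γ) (γ : G) : SE (Cj γ E) (Cj γ N) (Cj γ Γ) := by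
  have e : ∀ {A : Subgroup G} {x : G}, x ∈ Cj γ A ↔ γ⁻¹ * x * γ ∈ A := fun {A x} => by
    rw [← mem_Cj_iff (g := γ) (x := γ⁻¹ * x * γ)]; simp [mul_assoc]
  have n : ∀ {x : G}, x ∈ Nm (Cj γ E) ↔ γ⁻¹ * x * γ ∈ Nm E := fun {x} => by
    simp only [mem_normalizer_iff, SetLike.mem_coe]
    refine ⟨fun a y => ?_, fun a y => ?_⟩
    · rw [← mem_Cj_iff (g := γ) (x := y), a, e]; simp [mul_assoc]
    · rw [e, a, e]; simp [mul_assoc]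
  obtain ⟨ξ, a, b⟩ := h.ex
  refine ⟨fun x hx => n.2 (h.le (e.1 hx)), img_mono h.nG, fun x hx => e.2 (h.cG (mem_Cn.2 fun y hy => ?_)),
    ⟨γ * ξ * γ⁻¹, n.2 (by simpa [mul_assoc] using a), fun c => b (mem_Cj_iff.1 c)⟩, fun x hx hx' g hg c => ?_⟩
  · have := mem_Cn.1 hx _ (conj_mem_Cj (g := γ) hy)
    rw [show γ⁻¹ * x * γ * y * (γ⁻¹ * x * γ)⁻¹ = γ⁻¹ * (x * (γ * y * γ⁻¹) * x⁻¹) * γ by group, this]; group
  · exact e.2 (h.g3 _ (e.1 hx) (fun d => hx' (e.2 d)) _ (n.1 hg) (by simpa [mul_assoc] using e.1 c))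

/-- the statement proved by induction on the order of `S` -/
def T1 (p t : ℕ) : Prop := ∀ (G : Type u) [Group G] [Finite G] (S : Subgroup G) (L K M : ℕ → Subgroup G)
  (E : Subgroup G), MZ p t S L K M → Sat (FT S) p → (FT S).IsEssential p E → E ≤ M 0 → E = M 0

variable [Fact p.Prime] [Finite G]

theorem se_of_ess (hF : Sat (FT S) p) (hE : (FT S).IsEssential p E) : ∃ Γ, SE E (NS S E) Γ := by
  have a := (hF.ess_lt hE).le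
  have m : MulOn (cA E) (Nm E) := fun _ hx _ hy => cA_mul hx hy
  have hs := hF.ess_syl hE
  refine ⟨pre (cA E) (Nm E) (Gam ((FT S).autGroup E) (autInducedBy S E) (Inn E)), pre_le, fun x hx => m.mem_pre.2
    ⟨hx.2, le_Gam hs.le (hF.ess_Gam hE).1 (cA_mem_autInducedBy hx.1)⟩, fun x hx => m.mem_pre.2 ⟨Cn_le_Nm hx, by
      rw [(cA_eq_one_iff (Cn_le_Nm hx)).2 hx]; exact one_mem _⟩, ?_, fun x hx hx' g hg h => ?_⟩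
  · obtain ⟨α, hα⟩ := hF.exists_gen hE
    obtain ⟨g, hg, rfl⟩ := (aut_iff a).1 hα.1
    exact ⟨g, hg, fun c => hα.2 (m.mem_pre.1 c).2⟩
  · rw [m.mem_pre] at h ⊢
    rw [cA_conj hg hx.2] at h
    obtain ⟨n, hn⟩ := isPGroup_iff_mem.1 hs.pg _ (cA_mem_autInducedBy (P := E) hx.1)
    obtain ⟨γ, h1, h2⟩ := (hs.mono (le_Gam hs.le (hF.ess_Gam hE).1) Gam_le).exists_conj_elt h.2 (k := n)
      (by rw [conj_pow, hn]; simp)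
    refine ⟨hg, (mul_mem_cancel_left h1).1 (mem_Gam_of_elt hs (Inn_norm _) (Inn_le_autInducedBy a)
      (cA_mem_autInducedBy hx.1) (mt (mem_of_cA_mem_Inn a (hF.ess_centric hE) hx) hx')
      (mul_mem (Gam_le h1) (cA_mem a hg)) ?_)⟩
    simpa only [mul_inv_rev, mul_assoc] using h2

/-- a Sylow subgroup of `N(P)` over `N_S(P)` -/
theorem exists_T (hF : Sat (FT S) p) (hE : (FT S).IsFullyNormalized E) :
    ∃ T, SylIn p T (Nm E) ∧ NS S E ≤ T ∧ ∀ y ∈ T, ∃ s ∈ NS S E, s⁻¹ * y ∈ Cn E := by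
  have a : E ≤ S := hE.1
  obtain ⟨T, h1, h2⟩ := exists_sylIn_ge (NS_le_norm (S := S) (P := E)) (hF.pgroup NS_le)
  refine ⟨T, h2, h1, fun y hy => ?_⟩
  have := (hF.syl_of_fn hE).max (autInducedBy T E) (by rw [← autInducedBy_NS]; exact autInducedBy_mono h1)
    (by rw [autGroup_ofSubgroup _ a]; exact autInducedBy_mono le_top) (pg_aut h2.le fun g hg =>
      (isPGroup_iff_mem.1 h2.pg g hg).imp fun k (e : g ^ p ^ k = 1) => by rw [e]; exact one_mem _)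
  exact (cA_mem_autInducedBy_iff (h2.le hy)).1 (this.le (cA_mem_autInducedBy hy))

/-- a generic conjugate of a central element of `E` whose centralizer lies in `Γ` has centralizer `E` -/
theorem cy (hF : Sat (FT S) p) (hE : (FT S).IsEssential p E) (se : SE E (NS S E) Γ) (hu : u ∈ Cn E)
    (h : ∀ k ∈ Nm E, Commute k u → k ∈ Γ) (hg : g ∈ Nm E) (hg' : g ∉ Γ) (hx : x ∈ S)
    (c : Commute x (g * u * g⁻¹)) : x ∈ E := by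
  have a := (hF.ess_lt hE).le
  have b : E ≤ S ⊓ Cn (zpowers (g * u * g⁻¹)) :=
    le_inf a (Cn_symm (zpowers_le.2 (conj_mem_of_norm (norm_Cn hg) hu)))
  by_contra d
  obtain ⟨k, k1, k2⟩ := SetLike.exists_of_lt (lt_NS ((hF.pgroup le_rfl).to_le inf_le_left)
    (lt_of_le_of_ne b fun e => d (e.ge ⟨hx, fun _ ⟨n, e⟩ => e ▸ (c.symm.zpow_left n).eq⟩)))
  refine hg' (inv_mem_iff.1 (se.g3 k ⟨k1.1.1, k1.2⟩ k2 g⁻¹ (inv_mem hg)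
    (h _ (mul_mem (mul_mem (inv_mem hg) k1.2) (inv_mem (inv_mem hg))) ?_)))
  have := k1.1.2 _ (mem_zpowers _)
  change _ = _
  rw [show g⁻¹ * k * g⁻¹⁻¹ * u = g⁻¹ * (k * (g * u * g⁻¹)) * g by group, ← this]; group

/-- extension of maps along Alperin's fusion theorem -/
theorem ax (hF : Sat (FT S) p) (hN : N ≤ S) (h1 : Nm S ≤ H)
    (h2 : ∀ P γ, (FT S).IsEssential p P → Cj γ N ≤ P → Nm P ≤ H) (hg : Cj g N ≤ S) :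
    ∃ h ∈ H, h⁻¹ * g ∈ Cn N := by
  obtain ⟨h, a, b⟩ := hF.alperin (M := fun P f => ∀ γ, Cj γ N ≤ P → ∃ h ∈ H, ∀ x ∈ Cj γ N, f x = h * x * h⁻¹)
    (fun _ a b c γ d => let ⟨h, e, f⟩ := a γ (d.trans b); ⟨h, e, fun x hx => (c x (d hx)).trans (f x hx)⟩)
    (fun {P Q f g} _ _ a b c γ d => by
      obtain ⟨h, e1, e2⟩ := a γ d
      obtain ⟨k, e3, e4⟩ := b (h * γ) (img_le_iff.2 fun x hx => by
        have := c _ (d (conj_mem_Cj hx))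
        rw [e2 _ (conj_mem_Cj hx)] at this
        simpa [mul_assoc] using this)
      refine ⟨k * h, mul_mem e3 e1, fun x hx => ?_⟩
      obtain ⟨y, hy, rfl⟩ := exists_of_Cj hx
      have := e4 _ (conj_mem_Cj hy)
      rw [Function.comp, e2 _ hx]
      simpa [mul_assoc] using this)
    (fun P hP α hα γ d => by
      obtain ⟨n, hn, rfl⟩ := (aut_iff (hP.elim Eq.le fun h => (hF.ess_lt h).le)).1 hα
      exact ⟨n, hP.elim (fun e => h1 (e ▸ hn)) fun e => h2 P γ e d hn, fun x hx => fn_cA hn (d hx)⟩)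
    N (cj g) (iso_cj' hN hg).mor 1 (Cj_le (one_mem _) le_rfl)
  refine ⟨h, a, mem_Cn.2 fun x hx => ?_⟩
  have := b x (le_Cj (one_mem _) le_rfl hx)
  rw [cj_apply] at this
  rw [show h⁻¹ * g * x * (h⁻¹ * g)⁻¹ = h⁻¹ * (g * x * g⁻¹) * h by group, this]; group

theorem MZ1.cZ' (m : MZ1 p t S L K M) : S ≤ Cn (M (t + 3)) := m.ms (j := t + 3) (by omega) ▸ m.toMX.cZ

theorem MZ1.zp (m : MZ1 p t S L K M) (hu : u ∈ M (t + 3)) : u ^ p = 1 := by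
  have := m.mcard (j := t + 3) (k := 1) rfl
  rw [pow_one] at this
  exact congrArg Subtype.val (this ▸ pow_card_eq_one' (x := (⟨u, hu⟩ : M (t + 3))))

theorem MZ1.zgen (m : MZ1 p t S L K M) (hu : u ∈ M (t + 3)) (h : u ≠ 1) : zpowers u = M (t + 3) := by
  have := m.midx (j := t + 3) le_rfl
  rw [m.mbot le_rfl] at this
  simpa using sup_zpowers_eq this bot_le hu h

theorem MZ1.exZ (m : MZ1 p t S L K M) : ∃ u ∈ M (t + 3), u ≠ 1 := by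
  have := m.midx (j := t + 3) le_rfl
  rw [m.mbot le_rfl] at this
  exact exists_of_prime this

namespace DD

theorem le (d : DD p t S L K M E Γ) : E ≤ S := d.lt.le.trans d.m.mle

theorem cen (d : DD p t S L K M E Γ) (hx : x ∈ S) (h : x ∈ Cn E) : x ∈ E := d.sat.ess_centric d.ess ⟨hx, h⟩

theorem zY' (d : DD p t S L K M E Γ) (hγ : γ ∈ Nm (M 0)) (hu : u ∈ M (t + 3)) : γ * u * γ⁻¹ ∈ Yo p E :=
  have a : γ * u * γ⁻¹ ∈ Cn E := centralizer_le d.lt.le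
    (conj_mem_of_norm (norm_Cn hγ) (Cn_symm (d.m.mle.trans d.m.cZ') hu))
  ⟨d.cen (d.m.mle (conj_mem_of_norm hγ (d.m.manti (Nat.zero_le _) hu))) a, a, by rw [conj_pow, d.m.zp hu]; simp⟩

theorem zY (d : DD p t S L K M E Γ) : M (t + 3) ≤ Yo p E := fun u hu => by simpa using d.zY' (one_mem _) hu

theorem fix (d : DD p t S L K M E Γ) (hγ : γ ∈ Nm (M 0)) (hu : u ∈ M (t + 3)) (h : u ≠ 1) (hg : g ∈ Nm E)
    (c : Commute g (γ * u * γ⁻¹)) : g ∈ Γ := d.nR γ⁻¹ (inv_mem hγ) g hg (d.m.zgen hu h ▸ norm_zpowers (by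
  rw [show γ⁻¹ * g * γ⁻¹⁻¹ * u * (γ⁻¹ * g * γ⁻¹⁻¹)⁻¹ = γ⁻¹ * (g * (γ * u * γ⁻¹) * g⁻¹) * γ by group, c.eq]; group))

theorem kG (d : DD p t S L K M E Γ) (hg : g ∈ Nm E) (h : g ∈ Cn (Yo p E)) : g ∈ Γ :=
  d.nR 1 (one_mem _) g hg (by simpa using Cn_le_Nm (centralizer_le d.zY h))

theorem cY (d : DD p t S L K M E Γ) (hx : x ∈ NS S E) (h : x ∈ Cn (Yo p E)) : x ∈ E := by
  obtain ⟨ξ, a, b⟩ := d.se.ex
  exact by_contra fun c => b (d.se.g3 x hx c ξ a (d.kG (mul_mem (mul_mem a hx.2) (inv_mem a))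
    (conj_mem_of_norm (norm_Cn (norm_Yo a)) h)))

theorem cy' (d : DD p t S L K M E Γ) (hγ : γ ∈ Nm (M 0)) (hu : u ∈ M (t + 3)) (h : u ≠ 1) (hg : g ∈ Nm E)
    (hg' : g ∉ Γ) (hx : x ∈ S) (c : Commute x (g * (γ * u * γ⁻¹) * g⁻¹)) : x ∈ E :=
  cy d.sat d.ess d.se (d.zY' hγ hu).2.1 (fun _ => d.fix hγ hu h) hg hg' hx c

theorem cy1 (d : DD p t S L K M E Γ) (hu : u ∈ M (t + 3)) (h : u ≠ 1) (hg : g ∈ Nm E)
    (hg' : g ∉ Γ) (hx : x ∈ S) (c : Commute x (g * u * g⁻¹)) : x ∈ E :=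
  d.cy' (one_mem _) hu h hg hg' hx (by simpa using c)

/-- `γ₁` is not abelian -/
theorem na (d : DD p t S L K M E Γ) : ∃ a ∈ M 0, ∃ b ∈ M 0, ⁅a, b⁆ ≠ 1 := by
  by_contra c
  push Not at c
  exact d.lt.not_ge fun x hx => d.cen (d.m.mle hx) (mem_Cn_comm.2 fun y hy => c y (d.lt.le hy) x hx)

end DD

end CF.Mh
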