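import Cfsg.Agent.Mh.A
import Cfsg.Agent.Mxc.C

/-! The series `γ₁ > γ₂ > …` of a group of maximal class. -/

set_option autoImplicit false
set_option linter.unusedSectionVars false
set_option linter.unusedVariables false

namespace CF.Mh

open Cfsg Subgroup CF.Fus CF.FusC CF.Mxc CF.Mg Module
open CF.Fgs2 (MaxC)
open scoped commutatorElement

universe u

variable {G : Type u} [Group G] {p t : ℕ} {S : Subgroup G} {L K : ℕ → Subgroup G} [Fact p.Prime] [Finite G]

theorem mz1_of (m : MY p t S L K) (mc : MaxC p (t + 5) S) : MZ1 p t S L K (Mj L K) := by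
  have x := m.toMX
  have pp : p.Prime := Fact.out
  have ms : ∀ {j}, 1 ≤ j → Mj L K j = L j := fun {j} h => by
    obtain ⟨j, rfl⟩ : ∃ i, j = i + 1 := ⟨j - 1, by omega⟩
    rfl
  have lM : ∀ {j}, 1 ≤ j → L j ≤ Mj L K j := fun h => (ms h).ge
  have mle : ∀ {j}, Mj L K j ≤ S := fun {j} => by cases j; exacts [x.kS, x.le]
  have anti : ∀ {i j}, i ≤ j → Mj L K j ≤ Mj L K i := fun {i j} h => by
    cases i <;> cases j
    exacts [le_rfl, x.l1 (by omega), by omega, x.anti h]
  have bot : ∀ {j}, t + 4 ≤ j → Mj L K j = ⊥ := fun {j} h => by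
    rw [ms (by omega)]; exact le_bot_iff.1 ((x.anti h).trans x.bot.le)
  have nl : ∀ i, Nm S ≤ Nm (L i) := fun i g hg => by
    rw [m.lcs]
    induction i with
    | zero => exact hg
    | succ i h => exact norm_commutator h hg
  have nk : ∀ r, Nm S ≤ Nm (K r) := fun r g hg => by
    have : K r = S ⊓ Tr (L r) (L (r + 2)) := Subgroup.ext fun s => by
      rw [x.mk']
      exact ⟨fun a => ⟨a.1, mem_Tr_of_le (x.anti (by omega)) a.2⟩, fun a => ⟨a.1, fun y hy => Tr.comm a.2 hy⟩⟩
    rw [this]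
    exact norm_inf hg (norm_Tr (nl _ hg) (nl _ hg))
  have c0 : Nat.card (K 1) = p ^ (t + 4) := card_dn x.kS (m.kidx le_rfl (by omega)) x.card
  have i0 : (L 1).relIndex (K 1) = p := idx_of_card (x.l1 le_rfl) (x.cl 1 (t + 3) le_rfl (by omega)) c0
  have idx : ∀ {j}, j ≤ t + 3 → (Mj L K (j + 1)).relIndex (Mj L K j) = p := fun {j} h => by
    cases j; exacts [i0, x.idx (by omega) h]
  have ms1 : ∀ {j a s}, a ∈ Mj L K j → s ∈ S → ⁅a, s⁆ ∈ Mj L K (j + 1) := fun {j a s} h hs => by
    cases j; exacts [x.c1 (i := 0) (x.l0.ge (x.kS h)) hs le_rfl, x.c1 h hs le_rfl]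
  have msn : ∀ {j a s}, j ≤ t + 1 → a ∈ Mj L K j → a ∉ Mj L K (j + 1) → s ∈ S → s ∉ K 1 →
      ⁅a, s⁆ ∉ Mj L K (j + 2) := fun {j a s} h a1 a2 s1 s2 => by
    cases j; exacts [fun c => m.gen1 a1 a2 s1 s2 (comm_symm c), x.kn (by omega) h s1 s2 a1 a2]
  have lev : ∀ {a i j}, a ∈ Mj L K i → a ∉ Mj L K j →
      ∃ r, i ≤ r ∧ r < j ∧ r ≤ t + 3 ∧ a ∈ Mj L K r ∧ a ∉ Mj L K (r + 1) := fun {a i j} h => by
    induction j with
    | zero => exact fun c => (c (anti (Nat.zero_le _) h)).elim
    | succ j ih =>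
      intro c
      by_cases e : a ∈ Mj L K j
      · exact ⟨j, by_contra fun f => c (anti (by omega) h), by omega,
          by_contra fun f => c (by rw [bot (by omega), mem_bot] at e; rw [e]; exact one_mem _), e, c⟩
      · obtain ⟨r, a1, a2, a3⟩ := ih e
        exact ⟨r, a1, by omega, a3⟩
  refine ⟨m, mc, rfl, ms, @mle, fun h => anti h, bot, fun {j} => by cases j; exacts [nk 1, nl _], nk _, fun {j k} h => ?_, idx, lev,
    ms1, msn, fun {a s} a1 a2 s1 s2 c => s2 (x.kof (by omega) a1 a2 s1 (c ▸ one_mem _)), fun {i j k a b} ha hb h => ?_,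
    fun {a b} ha hb => ?_, fun {W s} h1 h2 s1 s2 s3 => ?_⟩
  · cases j
    · rw [show k = t + 4 by omega]; exact c0
    · exact x.cl _ _ (by omega) h
  · cases i
    · exact anti (by omega) (comm_symm (ms1 hb (mle ha)))
    cases j
    · exact anti (by omega) (ms1 ha (mle hb))
    · exact anti h (x.cm ha hb le_rfl)
  · obtain ⟨y, y1, y2⟩ := exists_of_prime i0
    exact comm_of_cyc (x.kS.trans x.nm) (sup_zpowers_eq i0 (x.l1 le_rfl) y1 y2)
      (fun u hu v hv => x.kc le_rfl (by omega) hv hu) ha hb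
  · have up : ∀ k j, j + k = t + 3 → ∀ a ∈ W, a ∈ Mj L K j → a ∉ Mj L K (j + 1) → Mj L K j ≤ W := fun k => by
      induction k with
      | zero => exact fun j e _ _ _ _ => (show j = t + 3 by omega) ▸ h2
      | succ k ih =>
        intro j e a a1 a2 a3
        refine le_of_prime (idx (by omega)) (anti (by omega)) ?_ a2 a3 a1
        rcases k with _ | k
        · exact (show j + 1 = t + 3 by omega) ▸ h2
        · exact ih (j + 1) (by omega) _ (comm_mem_left s3 a1) (ms1 a2 s1) (msn (by omega) a2 a3 s1 s2)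
    have : ∀ j, j ≤ t + 3 → W ≤ Mj L K j ∨ ∃ i, i ≤ t + 3 ∧ W = Mj L K i := fun j => by
      induction j with
      | zero => exact fun _ => .inl h1
      | succ j ih =>
        intro e
        rcases ih (by omega) with a | a
        · by_cases b : W ≤ Mj L K (j + 1)
          · exact .inl b
          · obtain ⟨w, w1, w2⟩ := SetLike.not_le_iff_exists.1 b
            exact .inr ⟨j, by omega, a.antisymm (up (t + 3 - j) j (by omega) w w1 (a w1) w2)⟩
        · exact .inr a
    exact (this _ le_rfl).elim (fun a => ⟨_, le_rfl, a.antisymm h2⟩) id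

end CF.Mh
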