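import Cfsg.Agent.Mh.A

/-! Commutators and powers in a group of maximal class. -/

set_option autoImplicit false
set_option linter.unusedSectionVars false
set_option linter.unusedVariables false

namespace CF.Mh

open Cfsg Subgroup CF.Fus CF.FusC CF.Mxc CF.Mg Module
open CF.Fgs2 (LC MaxC engel engel_succ map_engel)
open scoped commutatorElement

universe u

variable {G : Type u} [Group G] {p t i j : ℕ} {S W : Subgroup G} {L K M : ℕ → Subgroup G} {a b x y : G}
  [Fact p.Prime] [Finite G]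

theorem MZ1.gen (m : MZ1 p t S L K M) (ha : a ∈ M i) (ha' : a ∉ M (i + 1)) : M (i + 1) ⊔ zpowers a = M i :=
  have h : i ≤ t + 3 := not_lt.1 fun c => ha' (by rw [m.mbot c, mem_bot] at ha; rw [ha]; exact one_mem _)
  sup_zpowers_eq (m.midx h) (m.manti (Nat.le_succ i)) ha ha'

/-- bilinearity of the commutator on two levels -/
theorem MZ1.bil (m : MZ1 p t S L K M) (hW : S ≤ Nm W) (h : M (i + j + 2) ≤ W) (ha : a ∈ M i) (ha' : a ∉ M (i + 1))
    (hb : b ∈ M j) (hb' : b ∉ M (j + 1)) (e : ⁅a, b⁆ ∈ W) (hx : x ∈ M i) (hy : y ∈ M j) : ⁅x, y⁆ ∈ W :=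
  comm_of_sup (m.mle.trans hW) (m.gen ha ha') (fun _ c => h (m.cw c hy (by omega)))
    (comm_symm (comm_of_sup (m.mle.trans hW) (m.gen hb hb') (fun _ c => h (m.cw c ha (by omega))) (comm_symm e) hy)) hx

theorem MZ1.nm' (m : MZ1 p t S L K M) : S ≤ Nm (M j) := le_normalizer.trans m.mch

theorem MZ1.mz0 (m : MZ1 p t S L K M) : MZ0 p t S L K M := by
  have x := m.toMX
  have h := m.mc
  have pp : p.Prime := Fact.out
  have p2 := pp.two_le
  have inj := S.subtype_injective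
  have hL : ∀ r (a : S), (a : G) ∈ L r ↔ a ∈ LC S r := fun r a => by
    rw [m.lcs, ← map_LC]; exact mem_map_iff_mem inj
  have c : ∀ x y : S, ⁅(x : G), (y : G)⁆ = ((⁅x, y⁆ : S) : G) := fun x y => (map_commutatorElement S.subtype x y).symm
  have hK : ∀ r (a : S), (a : G) ∈ K r ↔ a ∈ KK S r := fun r a => by
    rw [m.mk']
    exact ⟨fun e y hy => (hL _ _).1 (c y a ▸ e.2 y ((hL _ _).2 hy)), fun e => ⟨a.2, fun y hy =>
      c ⟨y, x.le hy⟩ a ▸ (hL _ _).2 (e _ ((hL _ ⟨y, x.le hy⟩).1 hy))⟩⟩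
  obtain ⟨y, y1, y2⟩ := exists_of_prime (m.midx (j := 0) (by omega))
  obtain ⟨s, s1, s2⟩ := exists_of_prime (m.kidx (r := 1) le_rfl (by omega))
  have lv : ∀ i, i ≤ t + 2 → engel s y i ∈ M i ∧ engel s y i ∉ M (i + 1) := fun i => by
    induction i with
    | zero => exact fun _ => ⟨y1, y2⟩
    | succ i ih =>
      intro e
      rw [engel_succ]
      exact ⟨comm_symm (m.ms1 (ih (by omega)).1 s1), fun d =>
        m.msn (by omega) (ih (by omega)).1 (ih (by omega)).2 s1 s2 (comm_symm d)⟩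
  have ps : ∀ {i j a b}, i + j ≤ t + 2 → (∀ r, 1 ≤ r → r ≤ i + j → K r = K 1) → a ∈ M i → b ∈ M j →
      ⁅a, b⁆ ∈ M (i + j + 2) := fun {i j a b} e k ha hb => by
    refine m.bil m.nm' le_rfl (lv i (by omega)).1 (lv i (by omega)).2 (lv j (by omega)).1 (lv j (by omega)).2 ?_ ha hb
    have := (hL _ _).2 (pos (s := (⟨s, s1⟩ : S)) (y := ⟨y, m.mle y1⟩) (i + j)
      (fun r a b => (hK r _).1 ((k r a b).ge (m.m0.le y1))) i j rfl)
    rw [← c, ← m.ms (by omega)] at this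
    exact map_engel S.subtype ⟨s, s1⟩ ⟨y, m.mle y1⟩ i ▸ map_engel S.subtype ⟨s, s1⟩ ⟨y, m.mle y1⟩ j ▸ this
  have c0 : K (t + 2) ≠ K 1 → ∀ {a b}, a ∈ M 0 → a ∉ M 1 → b ∈ M (t + 2) → b ∉ M (t + 3) → ⁅b, a⁆ ≠ 1 :=
    fun e a b a1 a2 b1 b2 => m.mz2 b1 b2 (m.mle a1) fun d => e (deq_of_idx (m.m0.ge.trans (le_of_prime
      (m.midx (j := 0) (by omega)) (m.manti (by omega)) (m.ms le_rfl ▸ x.l1 le_rfl) a1 a2 d)) x.kS
      (m.kidx le_rfl (by omega)) (m.kidx (by omega) le_rfl)).symm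
  have ex : K (t + 2) ≠ K 1 → Odd t ∧ t + 4 ≤ p := fun e => by
    obtain ⟨a, a1, a2⟩ := SetLike.not_le_iff_exists.1 fun d => e (d.antisymm (m.keq d))
    have o := (m.exc a1 a2).1
    refine ⟨o, by_contra fun d => ?_⟩
    rcases (show p = t + 3 ∨ p ≤ t + 2 by omega) with f | f
    · obtain ⟨r, hr⟩ := o
      have := pp.eq_two_or_odd
      omega
    · have := kper h (i := t + 3 - p) (by omega) (by omega)
      rw [show t + 3 - p + p - 1 = t + 2 by omega] at this
      exact a2 ((m.bla (by omega) (by omega)).le ((hK _ ⟨a, x.kS a1⟩).2 (this ((hK _ ⟨a, x.kS a1⟩).1 a1))))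
  have pw2 : ∀ {a}, p ≤ t + 3 → a ∈ M 0 → a ∉ M 1 → a ^ p ∉ M p := fun {a} e a1 a2 => by
    obtain ⟨N, n1, n2, n3, n4, -⟩ := h.exists_fund (by omega)
    have k : K (p - 1) = K 1 := by
      rcases (show p - 1 ≤ t + 1 ∨ p - 1 = t + 2 by omega) with f | f
      · exact m.bla (by omega) f
      · rw [f]; exact by_contra fun d => by have := (ex d).2; omega
    have : N ≤ KK S (p - 1) := fun u hu => by
      by_cases f : u ∈ LC S 1
      · exact l1K f
      · exact h.mem_twoStep_of (by omega) (h.pow_mem_of_le (by omega) le_rfl (by omega) u)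
          (by rw [show p - 1 + 1 = p by omega]; exact n4 u hu f)
          (by rw [commutatorElement_eq_one_iff_commute.2 (Commute.pow_self u p)]; exact one_mem _)
    have := deq_of_idx this le_top (by rw [relIndex_top_right, n1]) (kidx h (by omega) (by omega))
    rw [m.ms pp.one_le]
    rw [m.ms le_rfl] at a2
    exact fun d => n4 ⟨a, m.mle a1⟩ (this ▸ (hK _ _).1 (k.ge (m.m0.le a1))) (fun f => a2 ((hL _ ⟨a, m.mle a1⟩).2 f))
      ((hL _ _).1 d)
  refine ⟨m, fun a b e => ps (by omega) (fun r c d => m.bla c (by omega)) a b, fun {i j k a b} e ha hb f => ?_,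
    fun {i j a b} e f a1 a2 b1 b2 => ?_, ex, fun {j a} e ha => ?_, fun {a} e ha f => by_contra fun d => ?_, pw2⟩
  · by_cases d : i + j ≤ t + 2
    · refine m.manti f (ps d (fun r c g => ?_) ha hb)
      rcases (show r ≤ t + 1 ∨ r = t + 2 by omega) with g | rfl
      exacts [m.bla c g, e]
    · have := m.cw ha hb (k := t + 4) (by omega)
      rw [m.mbot le_rfl, mem_bot] at this
      exact this ▸ one_mem _
  · rcases i with _ | i
    · obtain rfl : j = t + 2 := by omega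
      exact fun d => c0 e a1 a2 b1 b2 (mem_bot.1 (comm_symm (mem_bot.2 d)))
    rcases j with _ | j
    · obtain rfl : i = t + 1 := by omega
      exact c0 e b1 b2 a1 a2
    obtain ⟨w, w1, w2⟩ := SetLike.not_le_iff_exists.1 fun d => e (d.antisymm (m.keq d))
    obtain ⟨u, u1, v, v1, d⟩ := m.exc2 w1 w2 _ _ f
    exact fun g => d (mem_bot.1 (m.bil (fun _ _ => mem_Nm_bot) (m.mbot (by omega)).le a1 a2 b1 b2 (mem_bot.2 g)
      (m.ms (j := i + 1) (by omega) ▸ u1) (m.ms (j := j + 1) (by omega) ▸ v1)))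
  · rw [m.ms e] at ha
    rw [m.ms (by omega)]
    exact (hL _ (⟨a, x.le ha⟩ ^ p)).2 (h.pow_mem_LC e _ ((hL _ ⟨a, x.le ha⟩).1 ha))
  · obtain ⟨r, -, r1, -, r2, r3⟩ := m.mlev ha d
    rcases r with _ | r
    · exact pw2 e r2 r3 (f ▸ one_mem _)
    obtain ⟨N, -, -, -, -, n⟩ := h.exists_fund (by omega)
    rw [m.ms (by omega)] at r2 r3
    exact n (r + 1) (by omega) (by omega) ⟨a, x.le r2⟩ ((hL _ _).1 r2) (fun g => r3 ((hL _ ⟨a, x.le r2⟩).2 g))
      ((hL _ _).1 (show a ^ p ∈ _ from f ▸ one_mem _))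

end CF.Mh
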