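import Cfsg.Agent.Mh.B2

/-! Weights of automorphisms of a group of maximal class. -/

set_option autoImplicit false
set_option linter.unusedSectionVars false
set_option linter.unusedVariables false

namespace CF.Mh

open Cfsg Subgroup CF.Fus CF.FusC CF.Mxc CF.Mg Module
open CF.Fgs2 (MaxC)
open scoped commutatorElement

universe u

variable {G : Type u} [Group G] {p t i j : ℕ} {S W : Subgroup G} {L K M : ℕ → Subgroup G} {a b g x y : G} {μ ν : ℤ}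
  [Fact p.Prime] [Finite G]

theorem MZ1.pm (m : MZ1 p t S L K M) : IsPGroup p (M j) := m.pg.to_le m.mle

theorem MZ1.powm (m : MZ1 p t S L K M) (ha : a ∈ M j) : a ^ p ∈ M (j + 1) := by
  by_cases h : j ≤ t + 3
  · exact (el_of_idx m.pm (m.manti (Nat.le_succ j)) (m.midx h).le).2 a ha
  · rw [m.mbot (by omega), mem_bot] at ha
    rw [ha, one_pow]; exact one_mem _

theorem MZ1.i0 (m : MZ1 p t S L K M) : (M 0).relIndex S = p := m.m0 ▸ m.kidx le_rfl (by omega)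

theorem MZ1.fn (m : MZ1 p t S L K M) : (FT S).IsFullyNormalized (M j) := fn_iff.2 ⟨m.mle, fun _ _ _ => by
  rw [NS_eq_of_norm m.nm']; exact card_le_of_le NS_le⟩

theorem MZ0.mz (m : MZ0 p t S L K M) : MZ p t S L K M := by
  refine ⟨m, fun {g} hg => ?_⟩
  obtain ⟨μ, w0⟩ := exists_wt m.pg m.mle m.i0 hg (m.mch hg)
  have ew : ∀ j, j ≤ t + 3 → ∃ k, WtOn g (M j) (M (j + 1)) k := fun j e =>
    exists_wt m.pm (m.manti (Nat.le_succ j)) (m.midx e) (m.mch hg) (m.mch hg)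
  obtain ⟨ν, w1⟩ := ew 0 (by omega)
  obtain ⟨s, s1, s2⟩ := exists_of_prime m.i0
  have st : ∀ j k, j ≤ t + 2 → (j = t + 2 → K (t + 2) = K 1) → WtOn g (M j) (M (j + 1)) k →
      WtOn g (M (j + 1)) (M (j + 2)) (k * μ) := fun j k e f w => by
    obtain ⟨l, w'⟩ := ew (j + 1) (by omega)
    obtain ⟨a, a1, a2⟩ := exists_of_prime (m.midx (j := j) (by omega))
    refine w'.congr (fun _ => m.powm) (dvd_sub_comm.1 (wt_dvd m.pm (m.mle.trans m.nm') m.nm' (m.mch hg)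
      (m.manti (Nat.le_succ j)) m.mle (fun _ c _ => m.ms1 c) (fun _ c _ d => ?_) (fun _ c _ => m.ms1 c)
      (fun _ c _ d => m.ms1 c (m.mle d)) (fun _ c _ => m.ms1 c) w w0 w' a1 s1 ?_))
    · rcases e.lt_or_eq with e | e
      · exact m.cs c d (by omega)
      · exact m.cn (f e) c d le_rfl
    · rcases e.lt_or_eq with e | rfl
      · exact m.msn (by omega) a1 a2 s1 (m.m0 ▸ s2)
      · rw [m.mbot le_rfl]; exact m.mz2 a1 a2 s1 (f rfl ▸ m.m0 ▸ s2)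
  have wj : ∀ j, j ≤ t + 2 → WtOn g (M j) (M (j + 1)) (ν * μ ^ j) := fun j => by
    induction j with
    | zero => exact fun _ => by simpa using w1
    | succ j ih => exact fun e => by rw [pow_succ, ← mul_assoc]; exact st j _ (by omega) (by omega) (ih (by omega))
  refine ⟨μ, ν, hg, w0.unit m.i0 m.nm' (m.mch hg), w1.unit (m.midx (by omega)) (m.mle.trans m.nm') (m.mch hg), w0, wj,
    fun e => ?_, fun e => ?_⟩
  · rw [pow_succ, ← mul_assoc, ← m.mbot (j := t + 4) le_rfl]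
    exact st _ _ le_rfl (fun _ => e) (wj _ le_rfl)
  · obtain ⟨l, w'⟩ := ew (t + 3) le_rfl
    obtain ⟨a, a1, a2⟩ := exists_of_prime (m.midx (j := 0) (by omega))
    obtain ⟨b, b1, b2⟩ := exists_of_prime (m.midx (j := t + 2) (by omega))
    rw [sq, mul_assoc, ← m.mbot (j := t + 4) le_rfl]
    refine w'.congr (fun _ => m.powm) (dvd_sub_comm.1 (wt_dvd m.pm (m.mle.trans m.nm') (m.mle.trans m.nm') (m.mch hg)
      (m.manti (Nat.le_succ 0)) (m.manti (Nat.le_succ _)) (fun _ c _ d => m.cw c d (by omega))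
      (fun _ c _ d => m.cw c d (by omega)) (fun _ c _ d => m.cw c d (by omega))
      (fun _ c _ d => m.ms1 c (m.mle d)) (fun _ c _ d => m.ms1 c (m.mle d)) w1 (wj _ le_rfl) w' a1 b1 ?_))
    rw [m.mbot le_rfl]
    exact m.ce e (zero_add _) a1 a2 b1 b2

theorem B3.last {Q : ℕ → Prop} {n : ℕ} (h0 : Q 0) (h : ¬ Q n) : ∃ i, Q i ∧ ¬ Q (i + 1) := by
  induction n with
  | zero => exact (h h0).elim
  | succ n ih => exact (em (Q n)).elim (fun a => ⟨n, a, h⟩) ih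

theorem MZ.rel (m : MZ p t S L K M) (h : ∃ a ∈ M 0, ∃ b ∈ M 0, ⁅a, b⁆ ≠ 1 ∧ (K (t + 2) ≠ K 1 → ⁅a, b⁆ ∉ M (t + 3))) :
    ∃ c : ℕ, ∀ g μ ν, Ws p t S K M g μ ν → (p : ℤ) ∣ ν - μ ^ c := by
  obtain ⟨a0, h1, b0, h2, h3, h4⟩ := h
  have one : ∀ {x k}, x ∈ M (t + 4) → x ∈ M k := fun {x k} c => by
    rw [m.mbot le_rfl, mem_bot] at c; exact c ▸ one_mem _
  obtain ⟨r, r1, r2⟩ := B3.last (Q := fun r => ∀ a ∈ M 0, ∀ b ∈ M 0, ⁅a, b⁆ ∈ M r) (n := t + 4)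
    (fun a ha b hb => m.cw ha hb (by omega)) fun c => h3 (mem_bot.1 (m.mbot le_rfl ▸ c _ h1 _ h2))
  push Not at r2
  obtain ⟨i, i1, i2⟩ := B3.last (Q := fun i => ∃ a ∈ M i, ∃ b ∈ M 0, ⁅a, b⁆ ∉ M (r + 1)) (n := t + 4) r2
    fun ⟨a, ha, b, hb, c⟩ => c (one (m.cw ha hb (by omega)))
  obtain ⟨j, ⟨a, ha, b, hb, j1⟩, j2⟩ := B3.last (Q := fun j => ∃ a ∈ M i, ∃ b ∈ M j, ⁅a, b⁆ ∉ M (r + 1)) (n := t + 4) i1
    fun ⟨a, ha, b, hb, c⟩ => c (one (m.cw ha hb (by omega)))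
  push Not at i2 j2
  have z : ∀ {k}, M k ≤ M 0 := fun {k} => m.manti (Nat.zero_le k)
  have e1 : i + j < r := not_le.1 fun c => j1 (m.cw ha hb (by omega))
  have e2 : r ≤ t + 3 := not_lt.1 fun c => j1 (one (m.manti c (r1 _ (z ha) _ (z hb))))
  refine ⟨r - i - j, fun g μ ν w => ?_⟩
  have wr : WtOn g (M r) (M (r + 1)) (ν * μ ^ r) := by
    rcases e2.lt_or_eq with c | rfl
    · exact w.w1 r (by omega)
    · rw [m.mbot le_rfl]
      exact w.wn (by_contra fun c => h4 c (r1 _ h1 _ h2))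
  have := wt_dvd m.pm (m.mle.trans m.nm') (m.mle.trans m.nm') (m.mch w.nm) (m.manti (Nat.le_succ i))
    (m.manti (Nat.le_succ j)) (fun _ c _ d => i2 _ c _ (z d)) (fun _ c _ d => j2 _ c _ d)
    (fun _ c _ d => r1 _ (z c) _ (z d)) (fun _ c _ d => m.ms1 c (m.mle d)) (fun _ c _ d => m.ms1 c (m.mle d))
    (w.w1 i (by omega)) (w.w1 j (by omega)) wr ha hb j1
  obtain ⟨c, rfl⟩ : ∃ c, r = i + j + c := ⟨r - i - j, by omega⟩
  rw [show i + j + c - i - j = c by omega]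
  rw [show ν * μ ^ i * (ν * μ ^ j) - ν * μ ^ (i + j + c) = ν * μ ^ (i + j) * (ν - μ ^ c) by ring] at this
  have pp := Nat.prime_iff_prime_int.1 (Fact.out : p.Prime)
  exact (pp.dvd_or_dvd this).resolve_left fun d => (pp.dvd_or_dvd d).elim w.u1 fun d => w.u0 (pp.dvd_of_dvd_pow d)

theorem MZ.triv (m : MZ p t S L K M) (hF : Sat (FT S) p) (w : Ws p t S K M g μ ν) (h1 : (p : ℤ) ∣ μ - 1)
    (h2 : (p : ℤ) ∣ ν - 1) : g ∈ S ⊔ Cn (M 0) := by
  have d : ∀ a b : ℕ, (p : ℤ) ∣ ν ^ a * μ ^ b - 1 := fun a b => by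
    have := (((Int.modEq_iff_dvd.2 h2).symm.pow a).mul ((Int.modEq_iff_dvd.2 h1).symm.pow b)).symm.dvd
    simpa using this
  have tr : ∀ j, g ∈ Tr (M j) (M (j + 1)) := fun j => by
    refine WtOn.tr ?_ (m.mch w.nm) (m.mch w.nm)
    rcases (show j ≤ t + 2 ∨ j = t + 3 ∨ t + 4 ≤ j by omega) with e | rfl | e
    · exact (w.w1 j e).congr (fun _ => m.powm) (by simpa using d 1 j)
    · rw [m.mbot le_rfl]
      by_cases c : K (t + 2) = K 1
      · exact (w.wn c).congr (fun _ => m.zp) (by simpa using d 1 (t + 3))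
      · exact (w.we c).congr (fun _ => m.zp) (d 2 _)
    · rw [m.mbot e]; exact Cn.wt fun _ e => by rw [mem_bot.1 e]; simp
  rw [← NS_eq_of_norm (m.nm' (j := 0))]
  refine syl_le hF m.fn (O := ⨅ j, Tr (M j) (M (j + 1))) (fun _ c => Tr.n1 (mem_iInf.1 c 0))
    (fun _ c => dnorm_iInf fun j => norm_Tr (m.nm' c.1) (m.nm' c.1)) (fun x hx => ?_) (mem_iInf.2 tr)
  obtain ⟨k, hk⟩ := exists_cop p x
  have : ∀ j, x ^ p ^ k ∈ Tr (M 0) (M (j + 1)) := fun j => by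
    induction j with
    | zero => exact mem_iInf.1 (pow_mem hx _) 0
    | succ j ih => exact hk.tr m.pm ih (mem_iInf.1 (pow_mem hx _) (j + 1))
  exact ⟨k, mem_Tr_bot.1 (m.mbot (j := t + 4) le_rfl ▸ this (t + 3))⟩

end CF.Mh
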