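import Cfsg.Agent.Mh.B3
import Cfsg.Agent.Mxc.C

/-! Essential subgroups not contained in `γ₁`: characteristic chains. -/

set_option autoImplicit false
set_option linter.unusedSectionVars false
set_option linter.unusedVariables false

namespace CF.Mh

open Cfsg Subgroup CF.Fus CF.FusC CF.Mxc CF.Mg Module
open CF.Fgs2 (MaxC)
open scoped commutatorElement

universe u

variable {G : Type u} [Group G] {p t i j k : ℕ} {E S W : Subgroup G} {L K M : ℕ → Subgroup G} {a s x y : G}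
  [Fact p.Prime] [Finite G]

theorem MZ1.zle' (m : MZ1 p t S L K M) (hF : Sat (FT S) p) (hE : (FT S).IsEssential p E) : M (t + 3) ≤ E :=
  fun _ hu => hF.ess_centric hE ⟨m.mle hu, Cn_symm ((hF.ess_lt hE).le.trans m.cZ') hu⟩

theorem MZ1.spl (m : MZ1 p t S L K M) (h : W ≤ S) (hZ : M (t + 3) ≤ W) (hs : s ∈ W) (hs' : s ∉ K 1) :
    ∃ k, k ≤ t + 3 ∧ W = M k ⊔ zpowers s ∧ (M k).relIndex W = p ∧ W ⊓ M 0 = M k := by
  obtain ⟨k, a, b⟩ := m.inv (W := W ⊓ M 0) inf_le_right (le_inf hZ (m.manti (Nat.zero_le _))) (h hs) hs'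
    (norm_inf (le_normalizer hs) (m.nm' (h hs)))
  have i : (M k).relIndex W = p := b ▸ idx_inf m.pg h m.i0 fun c => hs' (m.m0.le (c hs))
  exact ⟨k, a, (sup_zpowers_eq i (b ▸ inf_le_left) hs fun c => hs' (m.m0.le (m.manti (Nat.zero_le _) c))).symm, i, b⟩

theorem MZ1.spow (m : MZ1 p t S L K M) (hs : s ∈ S) (hs' : s ∉ K 1) : s ^ p ∈ M (t + 2) := by_contra fun c => by
  obtain ⟨r, -, r1, -, r2, r3⟩ := m.mlev ((el_of_idx m.pg m.mle m.i0.le).2 s hs) c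
  exact m.msn (by omega) r2 r3 hs hs' (commutatorElement_eq_one_iff_commute.2 (Commute.pow_self s p) ▸ one_mem _)

theorem MZ1.idxT (m : MZ1 p t S L K M) (hs : s ∈ S) (hs' : s ∉ K 1) (h : k ≤ t + 2) :
    (M k).relIndex (M k ⊔ zpowers s) = p := relIndex_sup_zpowers (m.nm' hs) (m.manti h (m.spow hs hs'))
  fun c => hs' (m.m0.le (m.manti (Nat.zero_le _) c))

theorem MZ1.inT (m : MZ1 p t S L K M) (hs : s ∈ S) (hs' : s ∉ K 1) (h : k ≤ t + 2) (hy : y ∈ M k ⊔ zpowers s)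
    (hy' : y ∈ M 0) : y ∈ M k := by_contra fun c => hs' (m.m0.le (le_of_prime (m.idxT hs hs' h) le_sup_left
  (m.manti (Nat.zero_le _)) hy c hy' (mem_sup_right (mem_zpowers s))))

theorem MZ1.nrm1 (m : MZ1 p t S L K M) (hs : s ∈ S) (h : 1 ≤ k) (ha : a ∈ M (k - 1)) (hy : y ∈ M k ⊔ zpowers s) :
    ⁅y, a⁆ ∈ M k :=
  comm_of_sup ((sup_le m.mle (zpowers_le.2 hs)).trans m.nm') rfl (fun _ c => m.cw c ha (by omega))
    (comm_symm (by simpa [Nat.sub_add_cancel h] using m.ms1 ha hs)) hy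

theorem MZ.split (m : MZ p t S L K M) (hF : Sat (FT S) p) (hE : (FT S).IsEssential p E) (hs : s ∈ E) (hs' : s ∉ K 1) :
    ∃ k, 1 ≤ k ∧ k ≤ t + 3 ∧ E = M k ⊔ zpowers s ∧ (M k).relIndex E = p ∧ NS S E = M (k - 1) ⊔ zpowers s := by
  have lt := hF.ess_lt hE
  obtain ⟨k, a, b, c, d⟩ := m.spl lt.le (m.zle' hF hE) hs hs'
  have k1 : 1 ≤ k := Nat.pos_of_ne_zero fun e => lt.ne
    (b.trans (e ▸ sup_zpowers_eq m.i0 m.mle (lt.le hs) (m.m0 ▸ hs')))
  obtain ⟨l, a', b', -, d'⟩ := m.spl NS_le ((m.zle' hF hE).trans (le_NS lt.le)) (le_NS lt.le hs) hs'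
  refine ⟨k, k1, a, b, c, le_antisymm (b'.le.trans (sup_le_sup_right (fun y hy => by_contra fun e => ?_) _))
    (sup_le (fun y hy => ⟨m.mle hy, nm_elt fun v hv => ?_⟩) (zpowers_le.2 (le_NS lt.le hs)))⟩
  · obtain ⟨r, -, r1, -, r2, r3⟩ := m.mlev hy e
    exact m.msn (by omega) r2 r3 (lt.le hs) hs' (m.manti (by omega) (d.le ⟨comm_mem_right (d'.ge hy).1.2 hs,
      m.manti (Nat.zero_le _) (m.ms1 r2 (lt.le hs))⟩))
  · exact (d.ge (m.nrm1 (lt.le hs) k1 hy (b ▸ hv))).1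

theorem C1.fin (m : MZ p t S L K M) (hF : Sat (FT S) p) (hE : (FT S).IsEssential p E) (hs' : s ∉ K 1)
    (e : E = M k ⊔ zpowers s) (k1 : 1 ≤ k) (kt : k ≤ t + 1) (n1 : Nm E ≤ Nm (M k)) (n2 : Nm E ≤ Nm (M (k + 1))) :
    False := by
  have le := (hF.ess_lt hE).le
  have l1 : M k ≤ E := e ▸ le_sup_left
  have hs : s ∈ E := e ▸ mem_sup_right (mem_zpowers s)
  obtain ⟨Γ, es⟩ := es_of_ess hF hE
  obtain ⟨v, v1, v2⟩ := exists_of_prime (m.midx (j := k - 1) (by omega))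
  rw [Nat.sub_add_cancel k1] at v2
  have c : ∀ y ∈ E, ⁅y, v⁆ ∈ M k := fun y hy => m.nrm1 (le hs) k1 v1 (e ▸ hy)
  have vn : v ∈ Nm E := nm_elt fun y hy => l1 (c y hy)
  have f := m.toMX.frT k1 (le hs) hs' (t + 2 - k) (k + 1) (by omega) le_rfl
  rw [← m.ms k1, ← e, ← m.ms (by omega), ← m.ms (by omega)] at f
  have := es.mem_ch (m.manti (Nat.le_succ k)) l1 n2 n1 ⟨m.mle v1, vn⟩ ⟨⟨mem_Tr_of_le l1 c,
    mem_Tr_of_le (m.manti (Nat.le_succ k)) fun y hy => m.cw hy v1 (by omega)⟩,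
    mem_Tr_of_comm (m.nm' (m.mle v1)) (norm_Fr vn) fun y hy => comm_of_sup2
      ((sup_le Fr_le (m.zle' hF hE)).trans (le_normalizer.trans fun _ => norm_Fr))
      (fun _ a => comm_mem_left (norm_Fr vn) a)
      (fun _ a => by rw [mem_Cn_comm.1 (m.cZ' (m.mle v1)) _ a]; exact one_mem _) (f hy)⟩
  exact v2 (m.inT (le hs) hs' (by omega) (e ▸ this) (m.manti (Nat.zero_le _) v1))

/-- the upper central series of `M k ⟨s⟩` -/
theorem C1.cm (m : MZ p t S L K M) (hs : s ∈ S) (hs' : s ∉ K 1) (e : E = M k ⊔ zpowers s) (kt : k ≤ t + 1)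
    (h : k + 2 ≤ i) (hy : y ∈ E) (c : ∀ x ∈ E, ⁅y, x⁆ ∈ M i) (h1 : j ≤ t + 2) (h2 : j < i) : y ∈ M j := by
  obtain ⟨v, v1, v2⟩ := exists_of_prime (m.midx (j := k) (by omega))
  have a : y ∈ M 0 := by_contra fun d => m.msn kt v1 v2 (sup_le m.mle (zpowers_le.2 hs) (e ▸ hy)) (m.m0 ▸ d)
    (m.manti h (comm_symm (c v (e ▸ mem_sup_left v1))))
  by_contra d
  obtain ⟨r, -, r1, -, r2, r3⟩ := m.mlev a d
  exact m.msn (by omega) r2 r3 hs hs' (m.manti (by omega) (c s (e ▸ mem_sup_right (mem_zpowers s))))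

theorem C1.up (m : MZ p t S L K M) (hs : s ∈ S) (hs' : s ∉ K 1) (e : E = M k ⊔ zpowers s) (kt : k ≤ t + 1)
    (h : Nm E ≤ Nm (M (t + 2))) : ∀ r j, j + r = t + 2 → k + 1 ≤ j → Nm E ≤ Nm (M j)
  | 0, j, a, _ => (show j = t + 2 by omega) ▸ h
  | r + 1, j, a, b => fun g hg => by
    have le : E ≤ S := e ▸ sup_le m.mle (zpowers_le.2 hs)
    have : M j = Cm E E (M (j + 1)) := Subgroup.ext fun y => by
      rw [mem_Cm (le.trans m.nm')]
      exact ⟨fun c => ⟨e ▸ mem_sup_left (m.manti (by omega) c), fun x hx => m.ms1 c (le hx)⟩,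
        fun c => C1.cm m hs hs' e kt (by omega) c.1 c.2 (by omega) (by omega)⟩
    rw [this]
    exact norm_Cm (le.trans m.nm') hg hg (C1.up m hs hs' e kt h r (j + 1) (by omega) (by omega) hg)

/-- `M k` is cut out by any characteristic subgroup containing it but not `s` -/
theorem C1.cut (m : MZ p t S L K M) (hs : s ∈ S) (hs' : s ∉ K 1) (e : E = M k ⊔ zpowers s) (kt : k ≤ t + 2)
    (h1 : M k ≤ W) (h2 : s ∉ W) (h3 : Nm E ≤ Nm W) : Nm E ≤ Nm (M k) := fun g hg => by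
  rcases eq_or_eq_of_prime (m.idxT hs hs' kt) (C := E ⊓ W) (le_inf (e ▸ le_sup_left) h1) (e ▸ inf_le_left) with a | a
  · exact a ▸ norm_inf hg (h3 hg)
  · exact (h2 (a.ge (mem_sup_right (mem_zpowers s))).2).elim

theorem MZ.outA (m : MZ p t S L K M) (hF : Sat (FT S) p) (hE : (FT S).IsEssential p E) (h1 : ¬ E ≤ K 1)
    (h2 : ¬ E ≤ K (t + 2)) : Nat.card E = p ^ 2 ∨ (Nat.card E = p ^ 3 ∧ ¬ E ≤ Cn E) := by
  have le := (hF.ess_lt hE).le
  obtain ⟨s, hs, s1, s2⟩ : ∃ s ∈ E, s ∉ K 1 ∧ s ∉ K (t + 2) := by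
    obtain ⟨a, a1, a2⟩ := SetLike.not_le_iff_exists.1 h1
    obtain ⟨b, b1, b2⟩ := SetLike.not_le_iff_exists.1 h2
    by_cases c : a ∈ K (t + 2)
    · by_cases d : b ∈ K 1
      · exact ⟨a * b, mul_mem a1 b1, fun f => a2 ((mul_mem_cancel_right d).1 f), fun f => b2 ((mul_mem_cancel_left c).1 f)⟩
      · exact ⟨b, b1, d, b2⟩
    · exact ⟨a, a1, a2, c⟩
  obtain ⟨k, k1, k2, e, i, -⟩ := m.split hF hE hs s1
  have l1 : M k ≤ E := e ▸ le_sup_left
  obtain ⟨v, v1, v2⟩ := exists_of_prime (m.midx (j := t + 2) (by omega))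
  rcases (show k ≤ t + 1 ∨ k = t + 2 ∨ k = t + 3 by omega) with kt | rfl | rfl
  · have z : ∀ {y}, y ∈ E → (∀ x ∈ E, ⁅y, x⁆ ∈ M (t + 4)) → y ∈ M (t + 3) := fun {y} a b => by_contra fun c =>
      m.mz2 (C1.cm m (le hs) s1 e kt (by omega) a b le_rfl (by omega)) c (le hs) s2
        (mem_bot.1 (m.mbot le_rfl ▸ b s hs))
    have n3 : Nm E ≤ Nm (M (t + 3)) := fun g hg => by
      have : M (t + 3) = E ⊓ Cn E := le_antisymm (le_inf (m.zle' hF hE) (Cn_symm (le.trans m.cZ'))) fun y hy =>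
        z hy.1 fun x hx => by rw [mem_Cn_comm.1 (Cn_symm (zpowers_le.2 hy.2) hx) y (mem_zpowers y)]; exact one_mem _
      exact this ▸ norm_inf hg (norm_Cn hg)
    have n2 : Nm E ≤ Nm (M (t + 2)) := fun g hg => by
      have : M (t + 2) = Cm E E (M (t + 3)) := Subgroup.ext fun y => by
        rw [mem_Cm (le.trans m.nm')]
        exact ⟨fun c => ⟨l1 (m.manti (by omega) c), fun x hx => m.ms1 c (le hx)⟩,
          fun c => C1.cm m (le hs) s1 e kt (by omega) c.1 c.2 le_rfl (by omega)⟩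
      exact this ▸ norm_Cm (le.trans m.nm') hg hg (n3 hg)
    exact (C1.fin m hF hE s1 e k1 kt (C1.cut m (le hs) s1 e (by omega) (W := Cn (M (t + 2)))
      (fun y hy => mem_Cn_comm.2 fun x hx => mem_bot.1 (m.mbot le_rfl ▸ m.cw hx hy (by omega)))
      (fun c => m.mz2 v1 v2 (le hs) s2 (mem_Cn_comm.1 c v v1)) fun _ hg => norm_Cn (n2 hg))
      (C1.up m (le hs) s1 e kt n2 (t + 1 - k) _ (by omega) le_rfl)).elim
  · exact .inr ⟨card_up l1 i (m.mcard rfl), fun c => m.mz2 v1 v2 (le hs) s2 (mem_Cn_comm.1 (c hs) v (l1 v1))⟩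
  · exact .inl (card_up l1 i (m.mcard rfl))

theorem MZ.cenC (m : MZ p t S L K M) (hx : x ∈ K (t + 2)) (hx' : x ∉ K 1) (e : E = M k ⊔ zpowers x) (k1 : 1 ≤ k)
    (kt : k ≤ t + 1) : M (t + 2) = E ⊓ Cn E := by
  have xs := m.toMX.kS hx
  refine le_antisymm (le_inf (e ▸ (m.manti (by omega)).trans le_sup_left) (Cn_symm (e ▸ sup_le (fun y hy =>
    mem_Cn_comm.2 fun x hx => mem_bot.1 (m.mbot le_rfl ▸ m.cw hx hy (by omega))) (zpowers_le.2 ?_)))) fun y hy =>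
    C1.cm m xs hx' e kt (i := t + 4) (by omega) hy.1 (fun x hx => ?_) le_rfl (by omega)
  · exact m.ms (j := t + 2) (by omega) ▸ (m.toMX.mM.1 hx).2
  · rw [mem_Cn_comm.1 (Cn_symm (zpowers_le.2 hy.2) hx) y (mem_zpowers y)]; exact one_mem _

theorem MZ.chain (m : MZ p t S L K M) (hF : Sat (FT S) p) (hE : (FT S).IsEssential p E) (hx : x ∈ K (t + 2))
    (hx' : x ∉ K 1) (e : E = M k ⊔ zpowers x) (k1 : 1 ≤ k) (kt : k ≤ t) (h : k = 1 → 2 ≤ t) : False := by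
  have xs := m.toMX.kS hx
  have up := C1.up m xs hx' e (by omega) fun g hg => m.cenC hx hx' e k1 (by omega) ▸ norm_inf hg (norm_Cn hg)
  refine C1.fin m hF hE hx' e k1 (by omega) ?_ (up (t + 1 - k) _ (by omega) le_rfl)
  rcases kt.lt_or_eq with kt | rfl
  · obtain ⟨v, v1, v2⟩ := exists_of_prime (m.midx (j := t) (by omega))
    exact C1.cut m xs hx' e (by omega) (W := Tr (M t) (M (t + 2)))
      (fun y hy => mem_Tr_of_le (m.manti (by omega)) fun x hx => m.cw hx hy (by omega))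
      (fun c => m.msn (by omega) v1 v2 xs hx' (Tr.comm c v1))
      fun _ hg => norm_Tr (up 2 _ rfl (by omega) hg) (up 0 _ rfl (by omega) hg)
  · obtain ⟨v, v1, v2⟩ := exists_of_prime (m.midx (j := k + 1) (by omega))
    exact C1.cut m xs hx' e (by omega) (W := Cn (M (k + 1)))
      (fun y hy => mem_Cn_comm.2 fun x hx => mem_bot.1 (m.mbot le_rfl ▸ m.cw hx hy (by omega)))
      (fun c => m.msn le_rfl v1 v2 xs hx' (mem_Cn_comm.1 c v v1 ▸ one_mem _))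
      fun _ hg => norm_Cn (up 1 _ rfl le_rfl hg)

end CF.Mh
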