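import Cfsg.Agent.Mh.Q

/-! Essential subgroups not contained in `γ₁`: the two `SL₂` cases. -/

set_option autoImplicit false
set_option linter.unusedSectionVars false
set_option linter.unusedVariables false

namespace CF.Mh

open Cfsg Subgroup CF.Fus CF.FusC CF.Mxc CF.Mg Module
open CF.Fgs2 (MaxC)
open scoped commutatorElement

universe u

variable {G : Type u} [Group G] {p t j : ℕ} {A B E S : Subgroup G} {L K M : ℕ → Subgroup G} {a e g x τ : G} {k l : ℤ}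
  [Fact p.Prime] [Finite G]

theorem wt_eq (hA : IsPGroup p A) (ha : a ∈ A) (ha' : a ∉ B) (h1 : Wt g B a k) (h2 : Wt g B a l) :
    (k : ZMod p) = l := (ZMod.intCast_eq_intCast_iff_dvd_sub k l p).2 (by_contra fun c => ha' (h1.mem hA ha h2 c))

theorem C2.fin (m : MZ p t S L K M) (hF : Sat (FT S) p) (hE : (FT S).IsEssential p E) (ex : K (t + 2) ≠ K 1)
    (h : ∀ P γ, (FT S).IsEssential p P → ¬ Cj γ (NS S E) ≤ P) (hτ : τ ∈ Nm (NS S E)) (hx : x ∈ NS S E)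
    (hx' : x ∉ M 0) (w0 : Wt τ (M 0) x (-1)) (he : e ∈ NS S E) (jt : j ≤ t + 2) (e1 : e ∈ M j) (e2 : e ∉ M (j + 1))
    (w1 : Wt τ (M (j + 1)) e (-1)) (hz : τ ∈ Cn (M (t + 3))) : False := by
  obtain ⟨n, hn, c⟩ := ax (H := Nm S) hF NS_le le_rfl (fun P γ a b => (h P γ a b).elim) ((Cj_eq hτ).le.trans NS_le)
  obtain ⟨μ, ν, w⟩ := m.wt hn
  have tr : ∀ {B y k}, y ∈ NS S E → Wt τ B y k → Wt n B y k := fun a b => by rwa [Wt, same_of_Cn c a]
  obtain ⟨u, u1, u2⟩ := m.exZ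
  have a1 := wt_eq m.pg hx.1 hx' (w.w0 x hx.1) (tr hx w0)
  have a2 := wt_eq m.pm e1 e2 (w.w1 j jt e e1) (tr he w1)
  have a3 := wt_eq m.pm u1 (mt mem_bot.1 u2) (w.we ex u u1)
    (tr (le_NS (hF.ess_lt hE).le (m.zle' hF hE u1)) (Cn.wt hz u u1))
  push_cast at a1 a2 a3
  rw [a1] at a2 a3
  rw [((m.ex ex).1.add_even even_two).neg_one_pow] at a3
  have b : ((-1 : ZMod p) ^ j) ^ 2 = 1 := by rw [← pow_mul, mul_comm, pow_mul]; simp
  refine neg_two (p := p) (by have := (m.ex ex).2; omega) ((ZMod.intCast_zmod_eq_zero_iff_dvd _ p).1 ?_)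
  push_cast
  linear_combination a3 - (ν : ZMod p) ^ 2 * b + ((ν : ZMod p) * (-1) ^ j - 1) * a2

theorem MZ.c2 (m : MZ p t S L K M) (hF : Sat (FT S) p) (hE : (FT S).IsEssential p E) (hx : x ∈ K (t + 2))
    (hx' : x ∉ K 1) (e : E = M (t + 1) ⊔ zpowers x)
    (h : 2 ≤ t → ∀ P γ, (FT S).IsEssential p P → ¬ Cj γ (NS S E) ≤ P) : False := by
  have pp : p.Prime := Fact.out
  have ex : K (t + 2) ≠ K 1 := fun c => hx' (c ▸ hx)
  obtain ⟨⟨r, hr⟩, p4⟩ := m.ex ex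
  have le := (hF.ess_lt hE).le
  have pE := hF.pgroup le
  have xE : x ∈ E := e ▸ mem_sup_right (mem_zpowers x)
  have xS := le xE
  have l1 : M (t + 1) ≤ E := e ▸ le_sup_left
  have i1 : (M (t + 1)).relIndex E = p := e ▸ m.idxT xS hx' (by omega)
  have cE : Nat.card E = p ^ 4 := card_up l1 i1 (m.mcard rfl)
  have z2 := m.cenC hx hx' e (by omega) le_rfl
  have l2 : M (t + 2) ≤ E := z2.le.trans inf_le_left
  have n2 : Nm E ≤ Nm (M (t + 2)) := fun g hg => z2 ▸ norm_inf hg (norm_Cn hg)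
  have eN : NS S E = M t ⊔ zpowers x := by
    obtain ⟨k, k1, k2, a, b, c⟩ := m.split hF hE xE hx'
    have := card_up (a ▸ le_sup_left) b (m.mcard (k := t + 4 - k) (by omega))
    rw [cE, Nat.pow_right_inj pp.one_lt] at this
    rw [c, show k - 1 = t by omega]
  obtain ⟨s, s1, s2⟩ := exists_of_prime (m.midx (j := t) (by omega))
  have sN : s ∈ NS S E := eN ▸ mem_sup_left s1
  have sE : s ∉ E := fun c => s2 (m.inT xS hx' (by omega) (e ▸ c) (m.manti (Nat.zero_le _) s1))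
  obtain ⟨v, v1, v2⟩ := exists_of_prime (m.midx (j := t + 1) (by omega))
  have c1 := m.ms1 v1 xS
  have c2 := m.msn le_rfl v1 v2 xS hx'
  have cN : NS S E ≤ Cn (M (t + 2)) := eN ▸ sup_le
    (fun y hy => mem_Cn_comm.2 fun x hx => mem_bot.1 (m.mbot le_rfl ▸ m.cw hx hy (by omega)))
    (zpowers_le.2 (Cn_symm (z2.le.trans inf_le_right) xE))
  have rk : (Fr E).relIndex E ≤ p ^ 3 := by
    have a := idx_mul (bot_le (a := Fr E)) Fr_le
    have b := le_idx (pE.to_le Fr_le) (bot_lt_iff_ne_bot.2 fun c => c2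
      (mem_bot.1 (c ▸ (el_Fr pE).1 v (l1 v1) x xE) ▸ one_mem _))
    rw [relIndex_bot_left, cE, pow_succ'] at a
    exact Nat.le_of_mul_le_mul_left (a ▸ Nat.mul_le_mul_right _ b) pp.pos
  rcases ess_dich hF (by omega) hE rk with j | ⟨C, D, q⟩
  · have f : Fr E ≤ M (t + 1) := (el_of_idx pE l1 i1.le).Fr_le le_rfl
    rcases j.irr (Fr E ⊔ M (t + 2)) le_sup_left (sup_le Fr_le l2) fun g hg => norm_sup' (norm_Fr hg) (n2 hg) with a | a
    · obtain ⟨y, hy, b⟩ := j.j3 s sN sE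
      exact b (a.le (mem_sup_right (m.cw (m.nrm1 (k := t + 1) xS (by omega) s1 (e ▸ hy)) s1 (by omega))))
    · exact not_le_of_prime i1 (a.ge.trans (sup_le f (m.manti (by omega))))
  have zD : M (t + 2) ≤ D := fun y hy => q.cen (q.le (l2 hy)) fun _ c => bot_of_Cn (cN c) hy
  have eC : M (t + 2) = C := eq_of_le_of_card_ge (by_contra fun c => not_le_of_prime q.i1 ((q.irr le_sup_left
    (sup_le q.ce l2) (fun g hg => norm_sup' (q.nc hg) (n2 hg)) fun d => c (le_sup_right.trans d)).ge.trans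
      (sup_le q.cd zD))) (by
    have := q.card
    rw [cE, show 4 = 2 + 2 from rfl, pow_add, mul_left_inj' (pow_pos pp.pos 2).ne'] at this
    rw [← this, m.mcard (k := 2) rfl])
  have eD : M (t + 1) = D := deq_of_idx (m.gen (m.ms1 s1 xS) (m.msn (by omega) s1 s2 xS hx') ▸
    sup_le zD (zpowers_le.2 (comm_symm (q.ed xE sN)))) q.de i1 q.i1
  subst eC eD
  obtain ⟨τ, t1, t2, t3, -, w1, w2, w3⟩ := q.neg
  have tc : τ ∈ Cn (M (t + 2)) := LL_le cN (centralizer_le l2) (fun g hg => norm_Cn (n2 hg)) t1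
  rcases Nat.lt_or_ge t 2 with t2' | t2'
  swap
  · exact C2.fin m hF hE ex (h t2') t3 (q.le xE) (m.m0 ▸ hx') ((w2 x xE).mono (m.manti (Nat.zero_le _)))
      (q.le (l1 v1)) (by omega) v1 v2 (w1 v v1) (centralizer_le (m.manti (by omega)) tc)
  obtain rfl : t = 1 := by omega
  have cW : Cn (M 3) ≤ Nm (zpowers ⁅v, x⁆) := (centralizer_le (zpowers_le.2 c1)).trans Cn_le_Nm
  have nW := cN.trans cW
  refine neg_two (p := p) (by omega) (by
    simpa using wt_dvd (W := zpowers ⁅v, x⁆) m.pm ((l1.trans q.le).trans nW) nW (cW tc) q.cd q.le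
      (fun u hu y hy => bot_of_Cn (cN hy) hu)
      (fun a ha y hy => comm_symm (comm_of_sup (q.le.trans nW) e.symm
        (fun b hb => bot_le (a := zpowers _) (m.mbot (j := 5) le_rfl ▸ m.cw hb ha le_rfl))
        (comm_symm (comm_of_sup ((l1.trans q.le).trans nW) (m.gen v1 v2)
          (fun b hb => bot_of_Cn (cN (q.le xE)) hb) (mem_zpowers _) ha)) hy))
      (fun a ha y hy => m.ms1 ha hy.1) (fun z hz y hy => bot_of_Cn (cN (q.le (l1 hy))) hz)
      (fun z hz y hy => bot_of_Cn (cN hy) hz) w1 w3 (Cn.wt tc) v1 sN fun c => c2 (zpowers_le.2 (m.cw v1 s1 le_rfl)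
        (mem_zpowers_of_prime (p := p) (mem_bot.1 (m.mbot (j := 3 + p - 1) (by omega) ▸ m.pw0 (by omega) c1)) c
          (m.ce (i := 2) ex rfl v1 v2 s1 s2))))

theorem MZ.nopearl (m : MZ p t S L K M) (hF : Sat (FT S) p) (hE : (FT S).IsEssential p E) (ex : K (t + 2) ≠ K 1)
    (h1 : ¬ E ≤ K 1) (h2 : ¬ E ≤ K (t + 2)) (hc : Nat.card E = p ^ 3)
    (h : ∀ P γ, (FT S).IsEssential p P → ¬ Cj γ (NS S E) ≤ P) : False := by
  have pp : p.Prime := Fact.out
  have p4 := (m.ex ex).2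
  have le := (hF.ess_lt hE).le
  have pE := hF.pgroup le
  obtain ⟨x, xE, s1, s2⟩ : ∃ s ∈ E, s ∉ K 1 ∧ s ∉ K (t + 2) := by
    obtain ⟨a, a1, a2⟩ := SetLike.not_le_iff_exists.1 h1
    obtain ⟨b, b1, b2⟩ := SetLike.not_le_iff_exists.1 h2
    by_cases c : a ∈ K (t + 2)
    · by_cases d : b ∈ K 1
      · exact ⟨a * b, mul_mem a1 b1, fun f => a2 ((mul_mem_cancel_right d).1 f), fun f => b2 ((mul_mem_cancel_left c).1 f)⟩
      · exact ⟨b, b1, d, b2⟩
    · exact ⟨a, a1, a2, c⟩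
  have xS := le xE
  obtain ⟨k, k1, k2, e, i1, eN⟩ := m.split hF hE xE s1
  have l1 : M k ≤ E := e ▸ le_sup_left
  obtain rfl : k = t + 2 := by
    have := card_up l1 i1 (m.mcard (k := t + 4 - k) (by omega))
    rw [hc, Nat.pow_right_inj pp.one_lt] at this
    omega
  obtain ⟨s, a1, a2⟩ := exists_of_prime (m.midx (j := t + 1) (by omega))
  have sN : s ∈ NS S E := eN ▸ mem_sup_left a1
  have sE : s ∉ E := fun c => a2 (m.inT xS s1 le_rfl (e ▸ c) (m.manti (Nat.zero_le _) a1))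
  obtain ⟨v, v1, v2⟩ := exists_of_prime (m.midx (j := t + 2) (by omega))
  have zF : M (t + 3) ≤ Fr E := m.zgen (m.ms1 v1 xS) (m.mz2 v1 v2 xS s2) ▸ zpowers_le.2 ((el_Fr pE).1 v (l1 v1) x xE)
  rcases ess_dich hF (by omega) hE (hc ▸ Nat.le_of_dvd Nat.card_pos (relIndex_dvd_card _ _)) with j | ⟨C, D, q⟩
  · obtain ⟨y, hy, b⟩ := j.j3 s sN sE
    exact b (zF (m.cw (m.nrm1 (k := t + 2) xS (by omega) a1 (e ▸ hy)) a1 (by omega)))
  have eC : M (t + 3) = C := eq_of_le_of_card_ge (zF.trans q.fc) (by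
    have := q.card
    rw [hc, show 3 = 1 + 2 from rfl, pow_add, mul_left_inj' (pow_pos pp.pos 2).ne'] at this
    rw [← this, m.mcard (k := 1) rfl])
  have eD : M (t + 2) = D := deq_of_idx (m.gen (m.ms1 a1 xS) (m.msn le_rfl a1 a2 xS s1) ▸
    sup_le (eC.le.trans q.cd) (zpowers_le.2 (comm_symm (q.ed xE sN)))) q.de i1 q.i1
  subst eC eD
  obtain ⟨τ, t1, t2, t3, -, w1, w2, w3⟩ := q.neg
  exact C2.fin m hF hE ex h t3 (q.le xE) (m.m0 ▸ s1) ((w2 x xE).mono (m.manti (Nat.zero_le _)))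
    (q.le (l1 v1)) le_rfl v1 v2 (w1 v v1)
    (LL_le (NS_le.trans m.cZ') (centralizer_le q.ce) (fun g hg => norm_Cn (q.nc hg)) t1)

end CF.Mh
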