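import Cfsg.Agent.Mh.B1
import Cfsg.Agent.Mh.C1

/-! Passing to the quotient by the centre. -/

set_option autoImplicit false
set_option linter.unusedSectionVars false
set_option linter.unusedVariables false

namespace CF.Mh

open Cfsg Subgroup CF.Fus CF.FusC CF.Mxc CF.Mg Module
open CF.Fgs2 (MaxC)
open scoped commutatorElement

universe u

variable {G : Type u} [Group G] {p t : ℕ} {E S Z Γ : Subgroup G} {L K M : ℕ → Subgroup G} {g : G}
  [Fact p.Prime] [Finite G]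

theorem D1.sat (hF : Sat (FT S) p) (hZ : Z ≤ S) (sN : S ≤ Nm Z) : Sat (FG (Nm Z) S sN) p := by
  have e := NS_eq_of_norm sN
  have a := hF.isNS (Q := Z) (fn_iff.2 ⟨hZ, fun _ _ _ => by rw [e]; exact card_le_of_le NS_le⟩) (isNS_G hZ)
  have b : ∀ (H T : Subgroup G) (h : T ≤ H), H = Nm Z → T = S → Sat (FG H T h) p → Sat (FG (Nm Z) S sN) p := by
    rintro _ _ _ rfl rfl c; exact c
  exact b _ _ _ NS_top e a

theorem quot_ess (hF : Sat (FT S) p) (hE : (FT S).IsEssential p E) (se : SE E (NS S E) Γ) (hZ : Z ≤ E)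
    (cZ : Nat.card Z = p) (sZ : S ≤ Cn Z) (hg : g ∈ Nm E) (gZ : g ∈ Nm Z) (gΓ : g ∉ Γ) :
    ∃ (G' : Type u) (_ : Group G') (_ : Finite G') (π : G → G'), MulOn π S ∧ (∀ x ∈ S, π x = 1 ↔ x ∈ Z) ∧
      Sat (FT (img π S)) p ∧ (FT (img π S)).IsEssential p (img π E) := by
  have lt := hF.ess_lt hE
  have le := lt.le
  have sN : S ≤ Nm Z := sZ.trans Cn_le_Nm
  have ZS := hZ.trans le
  have h1 := D1.sat hF ZS sN
  obtain ⟨Q, _, _, π, hπ, hk⟩ := exists_quot Z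
  have mS : MulOn π S := hπ.mono sN
  have ker : pre π S ⊥ = Z := Subgroup.ext fun x => mS.mem_ker.trans
    ⟨fun a => (hk x (sN a.1)).1 a.2, fun a => ⟨ZS a, (hk x (sN (ZS a))).2 a⟩⟩
  have kE : pre π S ⊥ ≤ E := ker ▸ hZ
  have sc : (FG (Nm Z) S sN).StronglyClosed (pre π S ⊥) :=
    ker.symm ▸ (scG_iff.2 ⟨ZS, fun x hx s hs _ => conj_mem_of_norm hs hx⟩ : (FG (Nm Z) S sN).StronglyClosed Z)
  obtain ⟨F2, fac⟩ := exists_fac mS sc rfl
  have sat2 := fac.sat h1 sc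
  obtain ⟨G', _, _, ι, iso⟩ := exists_real F2
  have ess2 : F2.IsEssential p (img π E) := by
    refine sat2.ess_of_HF_ne (fac.fn_img sc ⟨le, fun R c => (hF.ess_fn hE).2 R ?_⟩ kE)
      (lt_of_le_of_ne (img_mono le) fun e => lt.not_ge fun x hx => mS.mem_of_mem_img le kE hx
        (e ▸ mem_img_of_mem hx)) fun h => ?_
    · obtain ⟨a, b, s, -, c⟩ := isConjG_iff.1 c
      exact isConjG_iff.2 ⟨a, b, s, mem_top s, c⟩
    obtain ⟨β, hβ, e⟩ := fac.aut_push sc le kE rfl (α := cA E g) (by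
      rw [autGroup_ofSubgroup _ le]; exact cA_mem_autInducedBy gZ)
    obtain ⟨γ, a, b, c⟩ : ∃ γ ∈ Γ, γ ∈ Nm Z ∧ ∀ x ∈ E, fn β (π x) = π (γ * x * γ⁻¹) := by
      refine HF_induction (C := fun β => ∃ γ ∈ Γ, γ ∈ Nm Z ∧ ∀ x ∈ E, fn β (π x) = π (γ * x * γ⁻¹))
        ⟨1, one_mem _, one_mem _, fun x hx => by simp⟩ ?_ ?_ (h.ge hβ)
      · rintro α β - - ⟨γ, a, b, c⟩ ⟨δ, a', b', c'⟩
        refine ⟨γ * δ, mul_mem a a', mul_mem b b', fun x hx => ?_⟩
        rw [fn_mul, c' x hx, c _ (conj_mem_of_norm (se.le a') hx)]; simp [mul_assoc]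
      intro α R f a b c
      obtain ⟨f', hf, d⟩ := fac.lift b
      obtain ⟨γ, hγ, e⟩ := morG_elt hf
      have eR : E ≤ pre π S R := le_pre le a.le
      have k : ∀ x ∈ E, fn α (π x) = π (γ * x * γ⁻¹) := fun x hx => by
        rw [← c _ (mem_img_of_mem hx), d x (eR hx), e x (eR hx)]
      have n : γ ∈ Nm E := norm_of_Cj_le (img_le_iff.2 fun x hx => mS.mem_of_mem_img le kE
        (by rw [cj_apply, ← e x (eR hx)]; exact hf.maps (eR hx)) (by
          rw [cj_apply, ← k x hx]; exact fn_mem α (mem_img_of_mem hx)))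
      obtain ⟨x, x1, x2⟩ := SetLike.exists_of_lt (lt_NS (hF.pgroup pre_le) (lt_of_le_of_ne eR fun e =>
        a.ne (by rw [e, fac.img_pre b.le])))
      exact ⟨γ, se.g3 x ⟨pre_le x1.1, x1.2⟩ x2 γ n (se.nG ⟨e x x1.1 ▸ hf.maps x1.1,
        conj_mem_of_norm (norm_Nm n) x1.2⟩), hγ, k⟩
    have n := se.le a
    have kN : γ⁻¹ * g ∈ Nm E := mul_mem (inv_mem n) hg
    have kZ : γ⁻¹ * g ∈ Nm Z := mul_mem (inv_mem b) gZ
    have kT : γ⁻¹ * g ∈ Tr E Z := ⟨kN, kZ, fun x hx => by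
      have := (quot_eq hπ hk (sN (le (conj_mem_of_norm n hx))) (sN (le (conj_mem_of_norm hg hx)))).2
        (by rw [← c x hx, e x hx, fn_cA hg hx])
      simpa [mul_assoc] using conj_mem_of_norm' b this⟩
    have O : Tr E Z ⊓ Cn Z ≤ Γ := (syl_le (O := Tr E Z ⊓ Cn Z) hF (hF.ess_fn hE) (fun _ a => Tr.n1 a.1)
      (fun x hx => norm_inf (norm_Tr hx.2 (sN hx.1)) (norm_Cn (sN hx.1))) fun y hy =>
        (exists_cop p y).imp fun k d => mem_Tr_bot.1 (d.tr (hF.pgroup ZS) (pow_mem hy.1 _)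
          (mem_Tr_bot.2 (pow_mem hy.2 _)))).trans (sup_le se.nG se.cG)
    obtain ⟨x, x1, x2⟩ := SetLike.exists_of_lt (hF.ess_NS hE)
    refine gΓ ((mul_mem_cancel_left (inv_mem a)).1 (se.g3 x x1 x2 _ kN
      ((mul_mem_cancel_right (inv_mem (se.nG x1))).1 (O (mem_inf.2 ⟨?_, mul_mem (conj_mem_of_norm (norm_Cn kZ) (sZ x1.1))
        (inv_mem (sZ x1.1))⟩)))))
    have := mul_mem kT (Tr.conj x1.2 (sN x1.1) (inv_mem kT))
    simpa only [mul_assoc] using this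
  have mι := iso.mul
  refine ⟨G', inferInstance, inferInstance, ι ∘ π, mS.comp mι fun _ => mem_img_of_mem, fun x hx => ?_, ?_⟩
  · rw [← hk x (sN hx)]
    exact iso.piso.eq_one_iff (mem_img_of_mem hx)
  · rw [← mS.img_img, ← (mS.mono le).img_img]
    exact ⟨iso.sat' sat2, iso.ess sat2 ess2⟩

theorem exists_mz (h : MaxC p (t + 5) S) : ∃ L K M, MZ p t S L K M :=
  let ⟨_, _, m⟩ := exists_my h; ⟨_, _, _, (mz1_of m h).mz0.mz⟩

theorem D1.lcs {G' : Type*} [Group G'] {π : G → G'} (h : MulOn π S) :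
    ∀ i, img π (S.lowerCentralSeries i) = (img π S).lowerCentralSeries i
  | 0 => rfl
  | i + 1 => by
    rw [Subgroup.lowerCentralSeries_succ, Subgroup.lowerCentralSeries_succ, h.img_commutator (lcs_le S i) le_rfl,
      D1.lcs h i]

theorem MZ.red (m : MZ p t S L K M) (ih : ∀ r, t = r + 1 → T1.{u} p r) (hF : Sat (FT S) p)
    (hE : (FT S).IsEssential p E) (le : E ≤ M 0) (se : SE E (NS S E) Γ) (hg : g ∈ Nm E) (gZ : g ∈ Nm (M (t + 3)))
    (gΓ : g ∉ Γ) : E = M 0 := by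
  have cZ : Nat.card (M (t + 3)) = p := (m.mcard (k := 1) rfl).trans (pow_one p)
  obtain ⟨G', _, _, π, hπ, hk, sat, ess⟩ := quot_ess hF hE se (m.zle' hF hE) cZ m.cZ' hg gZ gΓ
  have ker : pre π S ⊥ = M (t + 3) := Subgroup.ext fun x => hπ.mem_ker.trans
    ⟨fun a => (hk x a.1).1 a.2, fun a => ⟨m.mle a, (hk x (m.mle a)).2 a⟩⟩
  have kE : pre π S ⊥ ≤ E := ker ▸ m.zle' hF hE
  have lS := le.trans m.mle
  rcases t with _ | r
  · refine le.antisymm fun x hx => hπ.mem_of_mem_img lS kE (m.mle hx) (sat.ess_centric ess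
      ⟨mem_img_of_mem (m.mle hx), mem_Cn_comm.2 fun y hy => ?_⟩)
    obtain ⟨y, hy', rfl⟩ := (hπ.mono lS).mem_img.1 hy
    have := m.c3 (le hy') hx
    rw [← hπ.map_comm (lS hy') (m.mle hx), hk _ (m.mle this)]
    exact this
  have pp := (Fact.out : p.Prime).pos
  have eL : ∀ i, img π (L i) = (img π S).lowerCentralSeries i := fun i => m.lcs i ▸ D1.lcs hπ i
  have c1 := hπ.card_eq
  rw [ker, cZ, m.card, show r + 1 + 5 = r + 5 + 1 by omega, pow_succ'] at c1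
  obtain ⟨L', K', M', m'⟩ := exists_mz ((maxC_iff (Nat.eq_of_mul_eq_mul_left pp c1).symm (by omega)).2 (by
    rw [← eL, Ne, hπ.img_eq_bot_iff m.toMX.le, ker, ← m.ms (by omega)]
    exact not_le_of_prime (m.midx (j := r + 3) (by omega))))
  have e := ih r rfl G' _ L' K' M' _ m' sat ess (img_le_iff.2 fun x hx => m'.m0.ge (m'.mk'.2
    ⟨mem_img_of_mem (lS hx), fun y hy => by
      rw [m'.lcs, ← eL] at hy ⊢
      obtain ⟨y, hy', rfl⟩ := (hπ.mono m.toMX.le).mem_img.1 hy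
      rw [← hπ.map_comm (m.toMX.le hy') (lS hx)]
      exact mem_img_of_mem ((m.mk'.1 (m.m0.le (le hx))).2 y hy')⟩))
  refine eq_of_le_of_card_ge le ?_
  rw [hπ.card_of_ker_le lS kE, ker, cZ, e, m'.mcard (k := r + 4) (by omega), m.mcard (k := r + 4 + 1) (by omega),
    pow_succ']

end CF.Mh
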