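import Cfsg.Agent.Mh.A

/-! Two lemmas on self-centralizing elements of order `p`. -/

set_option autoImplicit false
set_option linter.unusedSectionVars false
set_option linter.unusedVariables false

namespace CF.Mh

open Cfsg Subgroup CF.Fus CF.FusC CF.Mxc CF.Mg Module

section lin
variable {p : ℕ} [Fact p.Prime] {V : Type*} [AddCommGroup V] [Module (ZMod p) V] [Finite V]
  {R : Subgroup (End (ZMod p) V)ˣ} {s : (End (ZMod p) V)ˣ}

theorem L3.geom {A : Type*} [Ring A] [Algebra (ZMod p) A] (x : A) :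
    ∑ i ∈ Finset.range p, x ^ i = (x - 1) ^ (p - 1) := by
  have hp : p - 1 + 1 = p := Nat.sub_add_cancel (Fact.out : p.Prime).one_le
  have : (∑ i ∈ Finset.range p, (Polynomial.X : Polynomial (ZMod p)) ^ i) = (Polynomial.X - 1) ^ (p - 1) := by
    refine mul_right_cancel₀ (b := Polynomial.X - 1) (by simpa using Polynomial.X_sub_C_ne_zero (1 : ZMod p)) ?_
    rw [geom_sum_mul, ← pow_succ, hp, sub_pow_char, one_pow]
  simpa [map_sum] using congrArg (Polynomial.aeval x) this

theorem fb (hR : ¬ p ∣ Nat.card R) (hs : s ∈ Nm R) (sp : (s.val - 1) ^ (p - 1) = 0)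
    (c : ∀ r ∈ R, Commute r s → r = 1) : R = ⊥ := by
  classical
  haveI : Finite (End (ZMod p) V) := Finite.of_injective _ DFunLike.coe_injective
  haveI := Fintype.ofFinite R
  have g0 : ∑ i ∈ Finset.range p, s.val ^ i = 0 := (L3.geom _).trans sp
  have s1 : s ^ p = 1 := Units.ext (by
    have := geom_sum_mul s.val p
    rw [g0, zero_mul] at this
    simpa using (sub_eq_zero.1 this.symm))
  set e : End (ZMod p) V := ∑ r : R, (r : (End (ZMod p) V)ˣ).val with he
  have key : ∀ i, 0 < i → i < p →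
      ∑ r : R, ((r : (End (ZMod p) V)ˣ) * s ^ i * (r : (End (ZMod p) V)ˣ)⁻¹).val = e * s.val ^ i := by
    intro i h0 h1
    have hz : s ∈ zpowers (s ^ i) := mem_zpowers_pow_iff.2
      (Nat.Coprime.coprime_dvd_right (orderOf_dvd_of_pow_eq_one s1)
        (Nat.coprime_of_lt_prime h0.ne' h1 Fact.out).symm)
    let φ : R → R := fun r => ⟨r * (s ^ i * (r : (End (ZMod p) V)ˣ)⁻¹ * (s ^ i)⁻¹),
      mul_mem r.2 (conj_mem_of_norm (pow_mem hs i) (inv_mem r.2))⟩
    have hφ : Function.Injective φ := fun a b hab => by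
      have h2 := congrArg Subtype.val hab
      simp only [φ] at h2
      have h3 : Commute ((b : (End (ZMod p) V)ˣ)⁻¹ * a) (s ^ i) := by
        change _ = _
        calc (b : (End (ZMod p) V)ˣ)⁻¹ * a * s ^ i
            = (b : (End (ZMod p) V)ˣ)⁻¹ * (a * (s ^ i * (a : (End (ZMod p) V)ˣ)⁻¹ * (s ^ i)⁻¹)) * s ^ i * a := by group
          _ = _ := by rw [h2]; group
      obtain ⟨n, hn⟩ := hz
      have h4 := c _ (mul_mem (inv_mem b.2) a.2) (by rw [← hn]; exact h3.zpow_right n)
      exact Subtype.ext (inv_mul_eq_one.1 h4).symm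
    rw [he, ← (Finite.injective_iff_bijective.1 hφ).sum_comp (fun r : R => (r : (End (ZMod p) V)ˣ).val),
      Finset.sum_mul]
    refine Finset.sum_congr rfl fun r _ => ?_
    rw [← Units.val_pow_eq_pow_val, ← Units.val_mul]
    congr 1
    simp only [φ]; group
  have h5 : ∑ r : R, ∑ i ∈ Finset.range p,
      ((r : (End (ZMod p) V)ˣ) * s ^ i * (r : (End (ZMod p) V)ˣ)⁻¹).val = 0 := by
    refine Finset.sum_eq_zero fun r _ => ?_
    simp only [Units.val_mul, Units.val_pow_eq_pow_val]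
    rw [← Finset.sum_mul, ← Finset.mul_sum, g0, mul_zero, zero_mul]
  obtain ⟨q, hq⟩ : ∃ q, p = q + 1 := ⟨p - 1, (Nat.sub_add_cancel (Fact.out : p.Prime).one_le).symm⟩
  rw [Finset.sum_comm] at h5
  have h6 : e = (Nat.card R : ZMod p) • (1 : End (ZMod p) V) := by
    have a1 : ∑ i ∈ Finset.range q, s.val ^ (i + 1) = -1 := by
      have := g0
      rw [show Finset.range p = Finset.range (q + 1) by rw [← hq], Finset.sum_range_succ', pow_zero] at this
      exact eq_neg_of_add_eq_zero_left this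
    rw [show Finset.range p = Finset.range (q + 1) by rw [← hq], Finset.sum_range_succ',
      Finset.sum_congr rfl fun i hi => key (i + 1) i.succ_pos (by have := Finset.mem_range.1 hi; omega),
      ← Finset.mul_sum, a1] at h5
    simp only [pow_zero, mul_one, mul_inv_cancel, Units.val_one, Finset.sum_const, Finset.card_univ, mul_neg] at h5
    rw [Nat.cast_smul_eq_nsmul, Nat.card_eq_fintype_card]
    exact (neg_add_eq_zero.1 h5)
  have h7 : (Nat.card R : ZMod p) ≠ 0 := fun h => hR ((ZMod.natCast_eq_zero_iff _ _).1 h)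
  refine eq_bot_iff.2 fun r hr => mem_bot.2 (Units.ext ?_)
  have h8 : r.val * e = e := by
    rw [he, Finset.mul_sum, ← (Group.mulLeft_bijective (⟨r, hr⟩ : R)).sum_comp
      fun a : R => (a : (End (ZMod p) V)ˣ).val]
    rfl
  rw [h6, mul_smul_comm, mul_one] at h8
  exact smul_right_injective _ h7 h8

theorem SG.bn {Q : Type*} [Group Q] [Finite Q] {X H : Subgroup Q} {s : Q} (h : SG p X s) (hH : H ≤ X) (hs : s ∈ H)
    {χ : Q → (ZMod p)ˣ} (hχ : MulOn χ H) (on : ∀ c, ∃ g ∈ H, χ g = c) : H ≤ Nm (zpowers s) := by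
  have pp : p.Prime := Fact.out
  set K : Subgroup Q := hχ.hom.ker.map H.subtype with hK
  have mK : ∀ {g}, g ∈ K ↔ g ∈ H ∧ χ g = 1 := fun {g} =>
    ⟨fun ⟨a, ha, e⟩ => e ▸ ⟨a.2, ha⟩, fun ⟨a, b⟩ => ⟨⟨g, a⟩, b, rfl⟩⟩
  have KH : K ≤ H := map_subtype_le _
  have nK : H ≤ Nm K := fun g hg => norm_of_Cj_le (img_le_iff.2 fun x hx => mK.2
    ⟨mul_mem (mul_mem hg (KH hx)) (inv_mem hg), by
      rw [cj_apply, hχ.map_conj hg (KH hx), (mK.1 hx).2, mul_one, mul_inv_cancel]⟩)
  have sK : s ∈ K := mK.2 ⟨hs, by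
    have := hχ.map_pow hs p
    rw [h.pw, hχ.map_one] at this
    exact Units.ext (by rw [← ZMod.pow_card (χ s : ZMod p), ← Units.val_pow_eq_pow_val, ← this])⟩
  have sy := h.syl.mono (zpowers_le.2 sK) (KH.trans hH)
  have cs : Nat.card (zpowers s) = p := by rw [Nat.card_zpowers, orderOf_eq_prime h.pw h.ne]
  set N := H ⊓ Nm (zpowers s) with hN
  -- `|N| ≤ p (p - 1)`
  have c1 : Nat.card N ≤ p * (p - 1) := by
    let f : N →* MulAut (zpowers s) := (zpowers s).normalizerMonoidHom.comp (inclusion inf_le_right)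
    have k1 : Nat.card f.ker ≤ p := by
      rw [← card_map_of_injective N.subtype_injective, ← cs]
      refine card_le_of_le ?_
      rintro _ ⟨a, ha, rfl⟩
      have : inclusion (inf_le_right : N ≤ _) a ∈ (zpowers s).normalizerMonoidHom.ker := ha
      rw [normalizerMonoidHom_ker, mem_subgroupOf] at this
      exact h.cen _ (hH a.2.1) (this s (mem_zpowers s)).symm
    have k2 : f.ker.index ≤ p - 1 := by
      rw [index_ker, ← Nat.totient_prime pp, ← cs, ← IsCyclic.card_mulAut]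
      exact card_le_card_group _
    rw [← f.ker.card_mul_index]
    exact Nat.mul_le_mul k1 k2
  have c2 : N ⊓ K = zpowers s := by
    have m : MulOn χ N := hχ.mono inf_le_left
    have k1 : m.hom.range = ⊤ := eq_top_iff.2 fun c _ => by
      obtain ⟨g, hg, rfl⟩ := on c
      obtain ⟨b, hb, hb'⟩ := sy.frattini (nK hg)
      exact ⟨⟨b * g, mul_mem (KH hb) hg, hb'⟩, by
        rw [MulOn.hom_apply, hχ (KH hb) hg, (mK.1 hb).2, one_mul]⟩
    have k2 : Nat.card (N ⊓ K : Subgroup Q) = Nat.card m.hom.ker := by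
      rw [← card_map_of_injective N.subtype_injective]
      congr 2
      ext g
      exact ⟨fun hg => ⟨⟨g, hg.1⟩, (mK.1 hg.2).2, rfl⟩, fun ⟨a, ha, e⟩ => e ▸ ⟨a.2, mK.2 ⟨a.2.1, ha⟩⟩⟩
    have k3 := m.hom.ker.card_mul_index
    rw [index_ker, k1, card_top, Nat.card_eq_fintype_card (α := (ZMod p)ˣ), ZMod.card_units, ← k2] at k3
    refine (eq_of_le_of_card_ge (zpowers_le.2 (mem_inf.2 ⟨mem_inf.2 ⟨hs, le_normalizer (mem_zpowers s)⟩, sK⟩)) ?_).symm
    rw [cs]
    exact Nat.le_of_mul_le_mul_right (k3 ▸ c1) (by have := pp.two_le; omega)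
  -- Burnside in `K`
  have hP : normalizer (sy.toSylow : Set K) ≤ centralizer (sy.toSylow : Set K) := fun g hg => by
    have h1 : (g : Q) ∈ zpowers s := c2 ▸ ⟨⟨KH g.2, norm_of_Cj_le (img_le_iff.2 fun x hx => by
      have := (mem_normalizer_iff.1 hg ⟨x, sy.le hx⟩).1 hx
      exact this)⟩, g.2⟩
    intro y hy
    obtain ⟨a, ha⟩ := h1
    obtain ⟨b, hb⟩ : (y : Q) ∈ zpowers s := hy
    exact Subtype.ext (by simp only [coe_mul, ← ha, ← hb]; exact zpow_mul_comm s b a)
  have hc := MonoidHom.ker_transferSylow_isComplement' sy.toSylow hP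
  set R := (MonoidHom.transferSylow sy.toSylow hP).ker with hR
  have hb : R.map K.subtype = ⊥ := h.fb _ ((map_subtype_le _).trans (KH.trans hH)) (by
    rw [card_map_of_injective K.subtype_injective, ← hc.index_eq_card]; exact sy.toSylow.not_dvd_index)
    (norm_of_Cj_le (img_le_iff.2 (by
      rintro _ ⟨y, hy, rfl⟩
      exact ⟨_, (inferInstance : R.Normal).conj_mem y hy ⟨s, sK⟩, rfl⟩)))
  rw [map_eq_bot_iff_of_injective _ K.subtype_injective] at hb
  have ht := hc.sup_eq_top
  rw [hb, bot_sup_eq] at ht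
  have : K = zpowers s := le_antisymm (fun g hg => by
    have : (⟨g, hg⟩ : K) ∈ (sy.toSylow : Subgroup K) := ht ▸ mem_top _
    exact this) sy.le
  exact this ▸ nK

end lin

end CF.Mh
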