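import Cfsg.Agent.Mh.Q
import Cfsg.Agent.Mh.L3

/-! The action of `N(γ₁)` on the Frattini quotient of `γ₁`. -/

set_option autoImplicit false

namespace CF.Mh

open Cfsg Subgroup CF.Fus CF.FusC CF.Mxc CF.Mg Module
open scoped commutatorElement

universe u

variable {G : Type u} [Group G] {p t : ℕ} {E S W Γ : Subgroup G} {L K M : ℕ → Subgroup G} [Fact p.Prime] [Finite G]

theorem MZ1.zle_of (m : MZ1 p t S L K M) (h : W ≤ M 0) (hn : S ≤ Nm W) (h0 : W ≠ ⊥) : M (t + 3) ≤ W := by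
  obtain ⟨x, x1, x2, -, x3⟩ := exists_fix_mod m.pg (h.trans m.mle) hn (fun _ _ => mem_Nm_bot) (mt le_bot_iff.1 h0)
  obtain ⟨r, -, -, r1, r2, r3⟩ := m.mlev (j := t + 4) (h x1) (m.mbot le_rfl ▸ x2)
  obtain ⟨s, s1, s2⟩ := m.exS
  obtain ⟨y, y1, y2⟩ := SetLike.not_le_iff_exists.1 m.kne
  rcases (show r ≤ t + 1 ∨ r = t + 2 ∨ r = t + 3 by omega) with e | rfl | rfl
  · exact (m.msn e r2 r3 s1 s2 (bot_le (a := M _) (x3 s s1))).elim
  · exact (m.mz2 r2 r3 y1 y2 (x3 y y1)).elim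
  · exact m.zgen r2 x2 ▸ zpowers_le.2 x1

theorem DD.sg (d : DD p t S L K M E Γ)
    (h : ∃ a ∈ M 0, ∃ b ∈ M 0, ⁅a, b⁆ ≠ 1 ∧ (K (t + 2) ≠ K 1 → ⁅a, b⁆ ∉ M (t + 3))) :
    ∃ (Q : Type u) (_ : Group Q) (_ : Finite Q) (π : G → Q), MulOn π (Nm (M 0)) ∧
      (∀ g ∈ Nm (M 0), π g = 1 ↔ g ∈ M 0 ⊔ Cn (M 0)) ∧ ∀ s ∈ S, s ∉ M 0 → SG p (img π (Nm (M 0))) (π s) ∧
        ∀ g ∈ Nm (M 0), π g ∈ Nm (zpowers (π s)) → ∃ n ∈ Nm S, n⁻¹ * g ∈ Cn (M 0) := by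
  have pp : p.Prime := Fact.out
  have m := d.m
  have el := el_Fr (m.pm (j := 0))
  have nS : S ≤ Nm (M 0) := m.nm'
  have NSe := NS_eq_of_norm nS
  have nF : S ≤ Nm (Fr (M 0)) := fun _ c => norm_Fr (nS c)
  obtain ⟨c, rel⟩ := m.rel h
  obtain ⟨a, ha, b, hb, ab, -⟩ := h
  obtain ⟨r, r1, hr⟩ := let ⟨s, s1, s2⟩ := m.exS
    m.inv Fr_le (m.zle_of Fr_le nF fun e => ab (mem_bot.1 (e ▸ el.1 a ha b hb))) s1 s2 (nF s1)
  obtain ⟨e, e1, e2⟩ := exists_of_prime (m.midx (j := 0) (by omega))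
  have r2 : 2 ≤ r := by
    by_contra! c
    have := CF.Coprime.eq_of_sup_frattiniOf (zpowers_le.2 e1) ((m.gen e1 e2).ge.trans
      (sup_le (le_sup_of_le_right ((m.manti (by omega)).trans hr.ge)) le_sup_left))
    obtain ⟨i, rfl⟩ := this.ge ha
    obtain ⟨j, rfl⟩ := this.ge hb
    exact ab (Commute.zpow_zpow_self e i j).commutator_eq
  have r3 : r ≤ p - 1 := by
    by_contra! c
    exact m.pw2 (by omega) e1 e2 (m.manti (by omega) (hr ▸ el.2 e e1))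
  obtain ⟨V, _, _, _, φ, ρ, s⟩ := exists_Sec (H := Nm (M 0)) Fr_le el le_rfl fun _ => norm_Fr
  have := fin_end (p := p) (V := V)
  have mρ := s.mul
  have cn : ∀ {g}, g ∈ Cn (M 0) → ρ g = 1 := fun c => (s.one_tr (Cn_le_Nm c)).2 (Cn_le_Tr Fr_le c)
  have m0 : ∀ {g}, g ∈ M 0 → ρ g = 1 := fun c => (s.one_tr (le_normalizer c)).2 (el.tr Fr_le c)
  have k0 : ∀ {g}, g ∈ S → ρ g = 1 → g ∈ M 0 := fun c k => by_contra fun f =>
    m.msn (by omega) e1 e2 c (m.m0 ▸ f) (m.manti r2 (hr ▸ Tr.comm ((s.one_tr (nS c)).1 k) e1))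
  have dec : ∀ {g}, g ∈ S ⊔ Cn (M 0) → ∃ x ∈ S, ∃ y ∈ Cn (M 0), x * y = g :=
    (mem_sup_of_norm fun _ c => norm_Cn (nS c)).1
  have ker : ∀ g ∈ Nm (M 0), ρ g = 1 ↔ g ∈ M 0 ⊔ Cn (M 0) := fun g hg => ⟨fun c => by
    have := syl_ch d.sat m.fn le_rfl Fr_le (NS_le.trans nF) (NS_le.trans nF)
      ⟨⟨(s.one_tr hg).1 c, mem_Tr_same (norm_Fr hg)⟩, mem_Tr_same (norm_Fr hg)⟩
    obtain ⟨x, hx, y, hy, rfl⟩ := dec (NSe ▸ this)
    rw [mρ (nS hx) (Cn_le_Nm hy), cn hy, mul_one] at c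
    exact mul_mem (mem_sup_left (k0 hx c)) (mem_sup_right hy), fun c => by
    obtain ⟨x, hx, y, hy, rfl⟩ := (mem_sup_of_norm fun _ c => norm_Cn (le_normalizer c)).1 c
    rw [mρ (le_normalizer hx) (Cn_le_Nm hy), cn hy, m0 hx, mul_one]⟩
  refine ⟨_, _, inferInstance, ρ, mρ, ker, fun x hx hx' => ?_⟩
  have xp : ρ x ^ p = 1 := by rw [← mρ.map_pow (nS hx), m0 (pow_mem_of_prime nS m.i0 hx)]
  have x1 : ρ x ≠ 1 := fun c => hx' (k0 hx c)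
  have iS : ∀ {g}, g ∈ S ⊔ Cn (M 0) → ρ g ∈ zpowers (ρ x) := fun c => by
    obtain ⟨y, hy, z, hz, rfl⟩ := dec c
    have := hy
    rw [← sup_zpowers_eq m.i0 m.mle hx hx', mem_sup_zpowers (nS hx)] at this
    obtain ⟨v, hv, k, rfl⟩ := this
    rw [mρ (nS hy) (Cn_le_Nm hz), cn hz, mρ (le_normalizer hv) (zpow_mem (nS hx) k), m0 hv, mρ.map_zpow (nS hx)]
    exact ⟨k, by simp⟩
  have ex : ∀ g ∈ Nm (M 0), ρ g ∈ Nm (zpowers (ρ x)) → ∃ n ∈ Nm S, n⁻¹ * g ∈ Cn (M 0) := fun g hg c => by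
    have := ext_norm d.sat m.fn hg (norm_of_Cj_le (img_le_iff.2 fun y hy => by
      rw [NSe] at hy ⊢
      have y1 : y ∈ Nm (M 0) := sup_le nS Cn_le_Nm hy
      have y2 := mul_mem (mul_mem hg y1) (inv_mem hg)
      obtain ⟨k, f⟩ := conj_mem_of_norm c (iS hy)
      have := zpow_mem hx k
      refine mem_of_inv_mul (mem_sup_left this) (sup_le_sup_right m.mle _
        ((ker _ (mul_mem (inv_mem (nS this)) y2)).1 ?_))
      rw [mρ.map_inv_mul (nS this) y2, mρ.map_conj hg y1, ← f, mρ.map_zpow (nS hx), inv_mul_cancel]))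
    rwa [NSe] at this
  have cen : ∀ g ∈ img ρ (Nm (M 0)), Commute g (ρ x) → g ∈ zpowers (ρ x) := fun _ h1 f => by
    obtain ⟨g, hg, rfl⟩ := mρ.mem_img.1 h1
    obtain ⟨n, n1, n2⟩ := ex g hg (norm_zpowers (by rw [f.eq, mul_inv_cancel_right]))
    obtain ⟨μ, ν, w⟩ := m.wt n1
    have n3 := m.mch (j := 0) n1
    have n4 : ρ g = ρ n := by
      have := cn n2
      rwa [mρ.map_inv_mul n3 hg, inv_mul_eq_one, eq_comm] at this
    have h2 : (p : ℤ) ∣ μ - 1 := by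
      have := m0 (w.w0 x hx)
      rw [mρ.map_inv_mul (zpow_mem (nS hx) _) (mul_mem (mul_mem n3 (nS hx)) (inv_mem n3)), mρ.map_conj n3 (nS hx),
        ← n4, f.eq, mul_inv_cancel_right, mρ.map_zpow (nS hx), inv_mul_eq_one] at this
      rw [← orderOf_eq_prime xp x1, orderOf_dvd_iff_zpow_eq_one, zpow_sub, this, zpow_one, mul_inv_cancel]
    exact n4 ▸ iS (m.triv d.sat w h2 (by
      simpa only [sub_add_sub_cancel, one_pow] using (rel n μ ν w).add (h2.trans (sub_dvd_pow_sub_pow μ 1 c))))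
  obtain ⟨T, t1, t2, t3⟩ := exists_T d.sat (m.fn (j := 0))
  rw [NSe] at t2 t3
  refine ⟨⟨mem_img_of_mem (nS hx), x1, xp, ?_, cen, fun R hR rp rn => fb rp rn ?_ fun y hy f => ?_⟩, ex⟩
  · rw [show zpowers (ρ x) = img ρ T from le_antisymm (zpowers_le.2 (mem_img_of_mem (t2 hx))) (img_le_iff.2
      fun y hy => let ⟨_, a, b⟩ := t3 y hy; iS (mem_of_inv_mul (mem_sup_left a) (mem_sup_right b)))]
    exact t1.img_mulOn mρ
  · rw [hr] at s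
    exact (s.fg m.toMZ1 (Nat.zero_le _) (by omega)).zero
      (Dg.pow1 (s.dg m.toMZ1 (nS hx) fun _ _ _ c => m.ms1 c hx) _) r3
  · obtain ⟨k, rfl⟩ := cen y (hR hy) f
    have a1 : (ρ x ^ k) ^ p = 1 := by rw [← zpow_natCast, ← zpow_mul, mul_comm, zpow_mul, zpow_natCast, xp, one_zpow]
    have := pow_gcd_eq_one.2 ⟨a1, congrArg Subtype.val (pow_card_eq_one' (x := (⟨_, hy⟩ : R)))⟩
    rwa [Nat.Coprime.gcd_eq_one (pp.coprime_iff_not_dvd.2 rp), pow_one] at this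

end CF.Mh
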