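import Cfsg.Agent.Mh.L1

/-! A quadratic element and a strongly embedded subgroup: Weyl and torus elements. -/

set_option autoImplicit false
set_option linter.unusedSectionVars false
set_option linter.unusedVariables false

namespace CF.Mh

open Cfsg Subgroup CF.Fus CF.FusC CF.Mxc CF.Mg Module

namespace L2

variable {k A : Type*} [Field k] [Ring A] [Algebra k A] {a b : A}

/-- the matrix `[[α, β], [γ, δ]]` in the matrix units `ab, a, b, ba` -/
def mx (a b : A) (α β γ δ : k) : A := 1 + (α - 1) • (a * b) + β • a + γ • b + (δ - 1) • (b * a)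

theorem mm (ha : a * a = 0) (hb : b * b = 0) (e1 : a * b * a = a) (e2 : b * a * b = b) (α β γ δ α' β' γ' δ' : k) :
    mx a b α β γ δ * mx a b α' β' γ' δ' =
      mx a b (α * α' + β * γ') (α * β' + β * δ') (γ * α' + δ * γ') (γ * β' + δ * δ') := by
  have f1 : ∀ x, a * (a * x) = 0 := fun x => by rw [← mul_assoc, ha, zero_mul]
  have f2 : ∀ x, b * (b * x) = 0 := fun x => by rw [← mul_assoc, hb, zero_mul]
  have f3 : ∀ x, a * (b * (a * x)) = a * x := fun x => by rw [← mul_assoc, ← mul_assoc, e1]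
  have f4 : ∀ x, b * (a * (b * x)) = b * x := fun x => by rw [← mul_assoc, ← mul_assoc, e2]
  rw [mul_assoc] at e1 e2
  simp only [mx, add_mul, mul_add, smul_mul_assoc, mul_smul_comm, mul_assoc, one_mul, mul_one, ha, hb, f1, f2, f3, f4,
    e1, e2, mul_zero, smul_zero]
  module

theorem m1 : mx a b (1 : k) 0 0 1 = 1 := by simp [mx]

end L2

section lin
variable {p : ℕ} [Fact p.Prime] {V : Type*} [AddCommGroup V] [Module (ZMod p) V] [Finite V]
  {X P Γ : Subgroup (End (ZMod p) V)ˣ} {z : (End (ZMod p) V)ˣ} {l : (ZMod p)ˣ}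

open L2 in
theorem ql (hp : 5 ≤ p) (hP : SylIn p P X) (h1 : P ≤ Γ) (ex : ∃ g ∈ X, g ∉ Γ)
    (se : ∀ x ∈ P, x ≠ 1 → ∀ g ∈ X, g * x * g⁻¹ ∈ Γ → g ∈ Γ) (zP : z ∈ P) (z1 : z ≠ 1)
    (zc : ∀ x ∈ P, Commute x z) (zq : (z.val - 1) * (z.val - 1) = 0) (l1 : l ≠ 1) :
    ∃ w h, TL p X P Γ z w h l := by
  haveI : Finite (End (ZMod p) V) := Finite.of_injective _ DFunLike.coe_injective
  haveI : Nontrivial (End (ZMod p) V) := ⟨⟨z.val, 1, fun e => z1 (Units.ext e)⟩⟩
  obtain ⟨b, ib, e1, e2, hw⟩ := ql1 hp hP h1 ex se zP z1 zq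
  have zX := hP.le zP
  have hz : z.val = 1 + (z.val - 1) := by abel
  have cP : ∀ x ∈ P, x.val * (z.val - 1) = (z.val - 1) * x.val := fun x hx => by
    have := congrArg Units.val (zc x hx).eq
    rw [Units.val_mul, Units.val_mul] at this
    rw [mul_sub, sub_mul, this, mul_one, one_mul]
  set a := z.val - 1 with ha
  have M := mm (k := ZMod p) zq ib.sq e1 e2
  have vz : z.val = mx a b (1 : ZMod p) 1 0 1 := by rw [hz]; simp [mx]
  have inv : ∀ (g : (End (ZMod p) V)ˣ) (α β γ δ : ZMod p), g.val = mx a b α β γ δ → α * δ - β * γ = 1 →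
      (g⁻¹).val = mx a b δ (-β) (-γ) α := fun g α β γ δ e d => Units.inv_eq_of_mul_eq_one_right (by
    rw [e, M, ← m1 (k := ZMod p) (a := a) (b := b)]
    congr 1
    · linear_combination d
    · ring
    · ring
    · linear_combination d)
  have zp : ∀ n : ℤ, (z ^ n).val = mx a b (1 : ZMod p) n 0 1 := fun n => by
    induction n using Int.induction_on with
    | zero => simp [m1]
    | succ n ih => rw [zpow_add_one, Units.val_mul, ih, vz, M]; congr 1 <;> push_cast <;> ring
    | pred n ih =>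
      rw [zpow_sub_one, Units.val_mul, ih, inv z _ _ _ _ vz (by ring), M]; congr 1 <;> push_cast <;> ring
  have wc : ∀ c d : ZMod p, c * d = 1 → ∃ w ∈ X, w.val = mx a b 0 c (-d) 0 := fun c d cd => by
    obtain ⟨y, hy, vy⟩ := ib.mem (-d)
    have vy' : y.val = mx a b (1 : ZMod p) 0 (-d) 1 := by
      rw [vy, mx, sub_self, zero_smul, zero_smul, zero_smul, add_zero, add_zero, add_zero]
    refine ⟨z ^ (c.val : ℤ) * y * z ^ (c.val : ℤ), mul_mem (mul_mem (zpow_mem zX _) hy) (zpow_mem zX _), ?_⟩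
    rw [Units.val_mul, Units.val_mul, zp, vy', M, M, Int.cast_natCast, ZMod.natCast_zmod_val]
    congr 1
    · linear_combination (-1) * cd
    · linear_combination (-c) * cd
    · ring
    · linear_combination (-1) * cd
  have ll : (l : ZMod p) * ((l⁻¹ : (ZMod p)ˣ) : ZMod p) = 1 := l.mul_inv
  obtain ⟨w, wX, vw⟩ := wc 1 1 (one_mul 1)
  obtain ⟨u, uX, vu⟩ := wc l _ ll
  have vw' := inv w _ _ _ _ vw (by ring)
  have vh : (u * w⁻¹).val = mx a b (l : ZMod p) 0 0 ((l⁻¹ : (ZMod p)ˣ) : ZMod p) := by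
    rw [Units.val_mul, vu, vw', M]; congr 1 <;> ring
  have hX := mul_mem uX (inv_mem wX)
  generalize u * w⁻¹ = h at vh hX
  have vh' := inv h _ _ _ _ vh (by linear_combination ll)
  have vj : ∀ j : ℕ, (h ^ j).val = mx a b ((l : ZMod p) ^ j) 0 0 (((l⁻¹ : (ZMod p)ˣ) : ZMod p) ^ j) := fun j => by
    induction j with
    | zero => rw [pow_zero, pow_zero, pow_zero, m1, Units.val_one]
    | succ j ih => rw [pow_succ, Units.val_mul, ih, vh, M]; congr 1 <;> ring
  have l0 : (l : ZMod p) - 1 ≠ 0 := sub_ne_zero.2 fun e => l1 (Units.ext e)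
  have ap : ∀ (α β γ δ : ZMod p) (v : V), a v = 0 → mx a b α β γ δ v = v + (α - 1) • a (b v) + γ • b v :=
    fun α β γ δ v hv => by simp [mx, hv]
  have ra : ∀ α δ : ZMod p, mx a b α 0 0 δ * a = α • a := fun α δ => by
    simp only [mx, add_mul, smul_mul_assoc, one_mul, e1, mul_assoc b, zq, mul_zero]; module
  have la : ∀ α δ : ZMod p, a * mx a b α 0 0 δ = δ • a := fun α δ => by
    simp only [mx, mul_add, mul_smul_comm, mul_one, ← mul_assoc, e1, zq, zero_mul]; module
  have rb : ∀ α δ : ZMod p, mx a b α 0 0 δ * b = δ • b := fun α δ => by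
    simp only [mx, add_mul, smul_mul_assoc, one_mul, e2, mul_assoc a, ib.sq, mul_zero]; module
  refine ⟨w, h, hX, ?_, wX, hw w wX ?_, fun v hv => ⟨((l : ZMod p) - 1) • b v, ?_⟩, by rw [vh, ra], fun v hv e => ?_,
    fun v hv e => ?_, Units.ext ?_, fun n e => ?_, ?_, fun j n n' e e' => Units.ext ?_⟩
  · -- `h` normalizes `P`
    obtain ⟨e0, he0⟩ : ∃ e0, e0 = 1 - a * b - b * a := ⟨_, rfl⟩
    have a1 : e0 * a = 0 := by rw [he0, sub_mul, sub_mul, one_mul, e1, mul_assoc, zq, mul_zero, sub_self, sub_zero]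
    have a2 : a * e0 = 0 := by
      rw [he0, mul_sub, mul_sub, mul_one, ← mul_assoc, ← mul_assoc, e1, zq, zero_mul, sub_zero, sub_self]
    let N : Submodule (ZMod p) (End (ZMod p) V) :=
      { carrier := {f | a * f = 0 ∧ f * a = 0 ∧ e0 * f * e0 = 0}
        zero_mem' := by simp
        add_mem' := fun {f g} hf hg => by
          simp only [Set.mem_ofPred_eq, mul_add, add_mul, hf.1, hf.2.1, hf.2.2, hg.1, hg.2.1, hg.2.2, add_zero, and_self]
        smul_mem' := fun c f hf => by
          simp only [Set.mem_ofPred_eq, mul_smul_comm, smul_mul_assoc, hf.1, hf.2.1, hf.2.2, smul_zero, and_self] }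
    have ins : ∀ f g : End (ZMod p) V, f * a = 0 → a * g = 0 → f * g = f * e0 * g := fun f g hf hg => by
      rw [he0, mul_sub, mul_sub, sub_mul, sub_mul, mul_one, ← mul_assoc, hf, ← mul_assoc, mul_assoc _ a, hg]
      simp
    have n1 : N * N ≤ N := Submodule.mul_le.2 fun f hf g hg => ⟨by rw [← mul_assoc, hf.1, zero_mul],
      by rw [mul_assoc, hg.2.1, mul_zero], by
        rw [ins f g hf.2.1 hg.1, ← mul_assoc, ← mul_assoc, hf.2.2, zero_mul, zero_mul]⟩
    have n2 : N ^ 3 = ⊥ := by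
      rw [pow_succ, pow_two, eq_bot_iff, Submodule.mul_le]
      intro t ht g hg
      refine Submodule.mul_induction_on ht (fun f hf f' hf' => ?_) fun u v hu hv => by
        rw [add_mul]; exact add_mem hu hv
      rw [Submodule.mem_bot, ins f f' hf.2.1 hf'.1, mul_assoc, ins f' g hf'.2.1 hg.1]
      calc _ = f * (e0 * f' * e0) * g := by simp only [mul_assoc]
        _ = 0 := by rw [hf'.2.2, mul_zero, zero_mul]
    have hU : X ⊓ QP.oneAdd N n1 ⟨3, n2⟩ ≤ P := hP.le_of_norm inf_le_left
      ((L1.pg_oneAdd N n1 ⟨3, n2⟩).to_le inf_le_right) fun x hx => norm_of_Cj_le (img_le_iff.2 fun g hg => by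
        refine ⟨X.mul_mem (X.mul_mem (hP.le hx) hg.1) (X.inv_mem (hP.le hx)), ?_⟩
        have hf : g.val - 1 ∈ N := hg.2
        have : (x * g * x⁻¹).val - 1 = x.val * (g.val - 1) * (x⁻¹).val := by
          rw [mul_sub, sub_mul, mul_one, Units.mul_inv, Units.val_mul, Units.val_mul]
        change (x * g * x⁻¹).val - 1 ∈ N
        rw [this]
        generalize g.val - 1 = f at hf
        refine ⟨by rw [← mul_assoc, ← mul_assoc, ← cP x hx, mul_assoc _ a, hf.1, mul_zero, zero_mul],
          by rw [mul_assoc, cP _ (inv_mem hx), mul_assoc, ← mul_assoc f, hf.2.1, zero_mul, mul_zero], ?_⟩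
        have b1 := ins (e0 * x.val) f (by rw [mul_assoc, cP x hx, ← mul_assoc, a1, zero_mul]) hf.1
        have b2 := ins f ((x⁻¹).val * e0) hf.2.1 (by rw [← mul_assoc, ← cP _ (inv_mem hx), mul_assoc, a2, mul_zero])
        calc _ = e0 * x.val * (f * ((x⁻¹).val * e0)) := by simp only [mul_assoc]
          _ = e0 * x.val * f * e0 * ((x⁻¹).val * e0) := by rw [b2]; simp only [mul_assoc]
          _ = e0 * x.val * (e0 * f * e0) * ((x⁻¹).val * e0) := by rw [b1]; simp only [mul_assoc]
          _ = 0 := by rw [hf.2.2, mul_zero, zero_mul])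
    refine norm_of_Cj_le (img_le_iff.2 fun x hx => ?_)
    have hg : h * x * h⁻¹ * x⁻¹ ∈ P := hU ⟨X.mul_mem (X.mul_mem (X.mul_mem hX (hP.le hx)) (X.inv_mem hX)) (X.inv_mem (hP.le hx)), by
      change (h * x * h⁻¹ * x⁻¹).val - 1 ∈ N
      simp only [Units.val_mul]
      refine ⟨?_, ?_, ?_⟩
      · rw [mul_sub, mul_one, ← mul_assoc, ← mul_assoc, ← mul_assoc, vh, la, vh', smul_mul_assoc, ← cP x hx,
          smul_mul_assoc, mul_assoc x.val, neg_zero, la, mul_smul_comm, smul_smul, Units.inv_mul, one_smul, cP x hx,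
          Units.mul_inv_cancel_right, sub_self]
      · rw [sub_mul, one_mul, mul_assoc, cP _ (inv_mem hx), ← mul_assoc, mul_assoc _ _ a, vh', neg_zero, ra,
          mul_smul_comm, mul_assoc _ _ a, cP x hx, ← mul_assoc, vh, ra, smul_mul_assoc, smul_mul_assoc,
          smul_mul_assoc, smul_smul, Units.inv_mul, one_smul, Units.mul_inv_cancel_right, sub_self]
      · have b0 : e0 * h.val = e0 := by
          rw [vh, mx]
          simp only [mul_add, mul_smul_comm, ← mul_assoc, a1, zero_mul, zero_smul, smul_zero, mul_one, add_zero]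
          rw [show e0 * b = 0 by rw [he0, sub_mul, sub_mul, one_mul, e2, mul_assoc, ib.sq, mul_zero, sub_zero, sub_self]]
          simp only [zero_mul, smul_zero, add_zero]
        have b1 : e0 * x.val * a = 0 := by rw [mul_assoc, cP x hx, ← mul_assoc, a1, zero_mul]
        have b2 : a * ((x⁻¹).val * e0) = 0 := by rw [← mul_assoc, ← cP _ (inv_mem hx), mul_assoc, a2, mul_zero]
        rw [mul_sub, sub_mul, ← mul_assoc, ← mul_assoc, ← mul_assoc, b0, mul_assoc _ _ e0, vh', mx]
        simp only [mul_add, add_mul, mul_smul_comm, smul_mul_assoc, ← mul_assoc _ a b, b1, neg_zero, zero_smul,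
          zero_mul, smul_zero, add_zero, mul_one, mul_assoc _ (b * a), mul_assoc b a, b2, mul_zero]
        rw [mul_assoc, Units.mul_inv_cancel_left, sub_self]⟩
    simpa [cj_apply] using mul_mem hg hx
  · rw [vw, vz, show 1 - b = mx a b (1 : ZMod p) 0 (-1) 1 by simp [mx, sub_eq_add_neg], M, M]
    congr 1 <;> ring
  · rw [vh, ap _ _ _ _ v hv, map_smul, zero_smul, add_zero, add_sub_cancel_left]
  · rw [vh, ap _ _ _ _ v hv, zero_smul, add_zero, add_eq_left, smul_eq_zero_iff_right l0] at e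
    have : b v = 0 := by rw [← e2]; simp [e]
    rw [vw, ap _ _ _ _ v hv, this]; simp
  · rw [vh, ap _ _ _ _ v hv, zero_smul, add_zero] at e
    have : a (b v) = v := by
      refine smul_right_injective V l0 ?_
      simp only [sub_smul, one_smul] at e ⊢
      rw [← e]; abel
    have h2 : w.val v = -b v := by rw [vw, ap _ _ _ _ v hv, this]; simp
    rw [h2, map_neg, ← Module.End.mul_apply, vh, rb, smul_neg, LinearMap.smul_apply]
  · rw [vj, ← Units.val_pow_eq_pow_val, ← Units.val_pow_eq_pow_val, ZMod.units_pow_card_sub_one_eq_one,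
      ZMod.units_pow_card_sub_one_eq_one, Units.val_one, m1, Units.val_one]
  · rw [mul_inv_eq_iff_eq_mul]
    refine Units.ext ?_
    rw [Units.val_mul, Units.val_mul, zp, vh, vz, M, M, e]
    congr 1
    · ring
    · linear_combination (-(l : ZMod p)) * ll
    · ring
    · ring
  · rw [mul_inv_eq_one]
    refine Units.ext ?_
    rw [Units.val_mul, Units.val_mul, vh, vw, M, M]
    congr 1
    · ring
    · linear_combination ll
    · linear_combination (-1) * ll
    · ring
  · have q : (l : ZMod p) ^ j * ((l⁻¹ : (ZMod p)ˣ) : ZMod p) ^ j = 1 := by rw [← mul_pow, Units.mul_inv, one_pow]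
    simp only [Units.val_mul]
    rw [zp, zp, vj, vw', vw, M, M, M, M, M, e, e']
    congr 1
    · ring
    · linear_combination (-1) * q
    · linear_combination q
    · linear_combination ((l⁻¹ : (ZMod p)ˣ) : ZMod p) ^ j * q

end lin

end CF.Mh
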