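import Cfsg.Agent.Mh.A
import Cfsg.Agent.Classical.L2
import Cfsg.Agent.Classical.KleinCases

/-! Two homologies of order `p - 1` generating a `p'`-group. -/

set_option autoImplicit false

namespace CF.Mh

open Subgroup Module Matrix OnePoint CF.Classical MulAction
open scoped MatrixGroups

namespace L4

variable {k : Type*} [Field k] {p : ℕ}

/-- the homology with ratio `c` -/
def P (h2 : (2 : k) ≠ 0) (c u : kˣ) : PGL(2, k) :=
  pgl (1 + c) ((1 - c) * (u : k)⁻¹) ((1 - c) * u) (1 + c) (by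
    rw [show ((1 : k) + c) * (1 + c) - (1 - c) * (u : k)⁻¹ * ((1 - c) * u) = 2 * 2 * c by field_simp; ring]
    simp [h2])

theorem P_mul (h2 : (2 : k) ≠ 0) (c c' u : kˣ) : P h2 c u * P h2 c' u = P h2 (c * c') u := by
  rw [P, P, P, pgl_mul, eq_comm]
  refine pgl_congr _ _ 2 ?_ ?_ ?_ ?_ <;> simp only [Units.val_mul] <;> field_simp <;> ring

theorem P_one (h2 : (2 : k) ≠ 0) {c u : kˣ} : P h2 c u = 1 ↔ c = 1 := by
  rw [P, pgl_eq_one_iff]
  simp [sub_eq_zero, eq_comm (a := (1 : k))]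

theorem P_pow (h2 : (2 : k) ≠ 0) (c u : kˣ) : ∀ n : ℕ, P h2 c u ^ n = P h2 (c ^ n) u
  | 0 => by rw [pow_zero, pow_zero, eq_comm, P_one]
  | n + 1 => by rw [pow_succ, P_pow h2 c u n, P_mul, pow_succ]

theorem s4 : ∀ a b : Equiv.Perm (Fin 4), a ^ 4 = 1 → b ^ 4 = 1 → (a ^ 2 * b ^ 2) ^ 2 = 1 := by
  decide +kernel

theorem core [IsAlgClosed k] [Fact p.Prime] [CharP k p] (hp : 5 ≤ p) (h2 : (2 : k) ≠ 0) {T : Subgroup PGL(2, k)}
    [Finite T] {N : ℕ} (hN : ¬ p ∣ N) (hT : ∀ g ∈ T, g ^ N = 1) {l ζ : kˣ} (hl : ∀ m, l ^ m = 1 → p - 1 ∣ m)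
    (hm : l ^ ((p - 1) / 2) = -1) {r : ℕ} (hr : Odd r) (z : ζ ^ r = 1) (z1 : ζ ≠ 1) (ha : P h2 l 1 ∈ T)
    (hb : P h2 l ζ ∈ T) : False := by
  have pp : p.Prime := Fact.out
  have po := pp.eq_two_or_odd
  have z4 : ζ ^ 4 ≠ 1 := fun e => z1 (by
    have := pow_gcd_eq_one.2 ⟨e, z⟩
    rwa [Nat.Coprime.gcd_eq_one (Nat.Coprime.pow_left 2 (Nat.coprime_two_left.2 hr)), pow_one] at this)
  have dk : (ζ : k) * (ζ : k)⁻¹ - 0 * 0 ≠ 0 := by simp
  have kk : P h2 l 1 ^ ((p - 1) / 2) * P h2 l ζ ^ ((p - 1) / 2) = pgl (ζ : k) 0 0 (ζ : k)⁻¹ dk := by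
    rw [P_pow, P_pow, hm, P, P, pgl_mul, eq_comm]
    refine pgl_congr _ _ 4 ?_ ?_ ?_ ?_ <;> simp <;> ring
  have o : ∀ m, orderOf (⟨_, ha⟩ : T) ∣ m → p - 1 ∣ m := fun m h => by
    have := congrArg Subtype.val (orderOf_dvd_iff_pow_eq_one.1 h)
    rw [Subgroup.coe_pow, P_pow, Subgroup.coe_one, P_one] at this
    exact hl m this
  have key : ∀ x : OnePoint k, P h2 l 1 • x = x → P h2 l ζ • x = x → False := fun x a b => by
    have a' : P h2 l 1 ^ ((p - 1) / 2) • x = x := pow_mem (S := stabilizer _ x) a _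
    have b' : P h2 l ζ ^ ((p - 1) / 2) • x = x := pow_mem (S := stabilizer _ x) b _
    have c : pgl (ζ : k) 0 0 (ζ : k)⁻¹ dk • x = x := by rw [← kk, mul_smul, b', a']
    rw [P_pow, hm, P] at a'
    cases x with
    | infty => exact h2 (by simpa [one_add_one_eq_two] using pgl_smul_infty_eq_infty.1 a')
    | coe w =>
      rw [pgl_smul_coe_eq_coe] at a' c
      simp [one_add_one_eq_two] at a' c
      have w0 : w ≠ 0 := by rintro rfl; simp at a'; exact h2 a'.symm
      refine z4 (Units.ext ?_)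
      field_simp at c
      push_cast
      linear_combination (-(ζ : k) ^ 2 - 1) * c
  have d : ∀ {m}, p - 1 ∣ m → 0 < m → m < 6 → p = 5 ∧ m = 4 := fun {m} h a b => by
    have := Nat.le_of_dvd a h
    obtain rfl : p = 5 := by omega
    omega
  rcases klein_semisimple_cases (H := T) (X := OnePoint k) (fun x => by
      rw [unip_subgroup_eq_bot_iff, eq_bot_iff]
      rintro g ⟨hg, hu⟩
      have e : ratPt k x = x := by cases x <;> rfl
      have := pow_gcd_eq_one.2 ⟨(isL2_PGL k k).pow_eq_one_of_mem_unip_ratPt p (e.symm ▸ hu), hT g hg⟩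
      rwa [Nat.Coprime.gcd_eq_one (pp.coprime_iff_not_dvd.2 hN), pow_one] at this)
    with ⟨x, e⟩ | ⟨x, e⟩ | ⟨-, e⟩ | ⟨c, e⟩ | ⟨-, e⟩
  · exact key x (e ⟨_, ha⟩) (e ⟨_, hb⟩)
  · obtain ⟨y, hy, h, -⟩ := exists_of_ncard_orbit_eq_two e
    have f : ∀ u (hu : P h2 l u ∈ T), P h2 l u • x = x := fun u hu => (h ⟨_, hu⟩).elim (·.1) fun h => by
      have := congrArg Subtype.val (mul_self_eq_one_of_swap hy.symm h.1 h.2)
      rw [Subgroup.coe_mul, P_mul, Subgroup.coe_one, P_one, ← sq] at this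
      have := d (hl 2 this)
      omega
    exact key x (f _ ha) (f _ hb)
  · rcases e ⟨_, ha⟩ with h | h <;> have := d (o _ h) <;> omega
  · obtain ⟨φ⟩ := equiv_S4_of_card_twentyfour c fun g hg => by have := e g; rw [hg] at this; omega
    obtain rfl : p = 5 := by rcases e ⟨_, ha⟩ with h | h <;> have := d (o _ h) <;> omega
    have l4 : l ^ 4 = 1 := by rw [show 4 = (5 - 1) / 2 * 2 from rfl, pow_mul, hm]; simp
    have f : ∀ u (hu : P h2 l u ∈ T), φ ⟨_, hu⟩ ^ 4 = 1 := fun u hu => by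
      rw [← map_pow, map_eq_one_iff _ φ.injective, Subtype.ext_iff, Subgroup.coe_pow, P_pow, l4]
      exact (P_one h2).2 rfl
    have := s4 _ _ (f _ ha) (f _ hb)
    rw [← map_pow, ← map_pow, ← map_mul, ← map_pow, map_eq_one_iff _ φ.injective, Subtype.ext_iff] at this
    change (P h2 l 1 ^ ((5 - 1) / 2) * P h2 l ζ ^ ((5 - 1) / 2)) ^ 2 = 1 at this
    rw [kk, sq, pgl_mul, pgl_eq_one_iff] at this
    refine z4 (Units.ext ?_)
    have := this.2.2
    field_simp at this
    push_cast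
    linear_combination this
  · rcases e ⟨_, ha⟩ with h | h | h <;> have := d (o _ h) <;> omega

theorem two [IsAlgClosed k] [Fact p.Prime] [CharP k p] (hp : 5 ≤ p) (h2 : (2 : k) ≠ 0) {W : Type*} [AddCommGroup W]
    [Module k W] [FiniteDimensional k W] {H : Subgroup (End k W)ˣ} [Finite H] {N : ℕ} (hN : ¬ p ∣ N)
    (hH : ∀ g ∈ H, g ^ N = 1) {l : kˣ} (hl : ∀ m, l ^ m = 1 → p - 1 ∣ m) (hm : l ^ ((p - 1) / 2) = -1)
    {g g' : (End k W)ˣ} (hg : g ∈ H) (hg' : g' ∈ H) {e e' : End k W} (ee : e * e = e) (ee' : e' * e' = e')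
    (eg : g.val = 1 + ((l : k) - 1) • e) (eg' : g'.val = 1 + ((l : k) - 1) • e') {r : ℕ} (hr : Odd r)
    (hk : ((1 - (2 : k) • e) * (1 - (2 : k) • e')) ^ r = 1) : e = e' := by
  have pw : ∀ {g : (End k W)ˣ} {e : End k W}, e * e = e → g.val = 1 + ((l : k) - 1) • e → ∀ n : ℕ,
      (g ^ n).val = 1 + ((l : k) ^ n - 1) • e := fun {g e} a b n => by
    induction n with
    | zero => simp
    | succ n ih =>
      rw [pow_succ, Units.val_mul, ih, b]
      simp only [add_mul, mul_add, one_mul, mul_one, smul_mul_assoc, mul_smul_comm, a, smul_smul]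
      module
  have iv : ∀ {e : End k W}, e * e = e → ∀ x, (1 - (2 : k) • e) ((1 - (2 : k) • e) x) = x := fun {e} a x => by
    have : e (e x) = e x := DFunLike.congr_fun a x
    simp [this]; module
  have hm' : (l : k) ^ ((p - 1) / 2) = -1 := by rw [← Units.val_pow_eq_pow_val, hm]; rfl
  set τ := 1 - (2 : k) • e with hτ
  set τ' := 1 - (2 : k) • e' with hτ'
  have kN : (τ * τ') ^ N = 1 := by
    have := congrArg Units.val (hH _ (mul_mem (pow_mem hg ((p - 1) / 2)) (pow_mem hg' ((p - 1) / 2))))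
    rw [Units.val_pow_eq_pow_val, Units.val_mul, pw ee eg, pw ee' eg', hm'] at this
    rwa [show (-1 : k) - 1 = -2 by ring, neg_smul, neg_smul, ← sub_eq_add_neg, ← sub_eq_add_neg] at this
  by_contra ne
  have hU : ∀ x ∈ LinearMap.range (τ * τ' - 1), (τ * τ') x ∈ LinearMap.range (τ * τ' - 1) := by
    rintro _ ⟨y, rfl⟩
    exact ⟨(τ * τ') y, by simp⟩
  have : Nontrivial (LinearMap.range (τ * τ' - 1)) := Submodule.nontrivial_iff_ne_bot.2 fun h => ne (by
    ext x
    have h1 : τ (τ' x) = x := sub_eq_zero.1 (DFunLike.congr_fun (LinearMap.range_eq_bot.1 h) x)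
    have h3 : τ' x = τ x := by rw [← iv ee (τ' x)]; exact congrArg τ h1
    simpa [hτ, hτ', h2, eq_comm] using h3)
  obtain ⟨ζ, hζ⟩ := End.exists_eigenvalue ((τ * τ').restrict hU)
  obtain ⟨⟨v, u, hu⟩, hv⟩ := hζ.exists_hasEigenvector
  have v0 : v ≠ 0 := fun h => hv.2 (Subtype.ext h)
  have kv : (τ * τ') v = ζ • v := congrArg Subtype.val hv.apply_eq_smul
  have kn : ∀ n : ℕ, ((τ * τ') ^ n) v = ζ ^ n • v := fun n => by
    induction n with
    | zero => simp
    | succ n ih => rw [pow_succ, End.mul_apply, kv, _root_.map_smul, ih, smul_smul, pow_succ']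
  have zr : ζ ^ r = 1 := by
    have := kn r
    rw [hk, End.one_apply, eq_comm, ← sub_eq_zero] at this
    have : (ζ ^ r - 1) • v = 0 := by rw [sub_smul, one_smul, this]
    exact sub_eq_zero.1 ((smul_eq_zero.1 this).resolve_right v0)
  have z0 : ζ ≠ 0 := by
    rintro rfl
    rw [zero_pow hr.pos.ne'] at zr
    exact zero_ne_one zr
  have z1 : ζ ≠ 1 := by
    rintro rfl
    have a : ∀ n : ℕ, ((τ * τ') ^ n) u = u + (n : k) • v := fun n => by
      induction n with
      | zero => simp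
      | succ n ih =>
        rw [pow_succ', End.mul_apply, ih, map_add, _root_.map_smul, kv, show (τ * τ') u = u + v by rw [← hu]; simp]
        push_cast; module
    have := a N
    rw [kN, End.one_apply, left_eq_add, smul_eq_zero, CharP.cast_eq_zero_iff k p] at this
    exact this.elim hN v0
  have z2 : ζ - ζ⁻¹ ≠ 0 := fun h => z1 (by
    have := pow_gcd_eq_one.2 ⟨show ζ ^ 2 = 1 by field_simp at h; linear_combination h, zr⟩
    rwa [Nat.Coprime.gcd_eq_one (Nat.coprime_two_left.2 hr), pow_one] at this)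
  have t1 : τ' v = ζ • τ v := by rw [← iv ee (τ' v), ← _root_.map_smul, ← kv]; rfl
  have t2 : τ' (τ v) = ζ⁻¹ • v := by
    rw [eq_inv_smul_iff₀ z0, ← _root_.map_smul, ← t1]; exact iv ee' v
  have t3 : τ (τ v) = v := iv ee v
  let ι : (Fin 2 → k) →ₗ[k] W := (LinearMap.proj 0).smulRight v + (LinearMap.proj 1).smulRight (τ v)
  have hι : ∀ x, ι x = x 0 • v + x 1 • τ v := fun x => rfl
  have inj : Function.Injective ι := (injective_iff_map_eq_zero ι).2 fun x h => by
    rw [hι] at h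
    have a := congrArg τ' h
    have b := congrArg τ h
    simp only [map_add, _root_.map_smul, t1, t2, t3, map_zero] at a b
    have c : (x 1 * (ζ - ζ⁻¹)) • v = 0 := by linear_combination (norm := module) ζ • b - a
    have c1 := (mul_eq_zero.1 ((smul_eq_zero.1 c).resolve_right v0)).resolve_right z2
    rw [c1, zero_smul, add_zero] at h
    ext i
    fin_cases i
    exacts [(smul_eq_zero.1 h).resolve_right v0, c1]
  let T : Subgroup (GL (Fin 2) k) :=
    { carrier := {M | ∃ h ∈ H, ∀ x, h.val (ι x) = ι (M.val *ᵥ x)}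
      one_mem' := ⟨1, one_mem _, by simp⟩
      mul_mem' := fun ⟨a, ha, a'⟩ ⟨b, hb, b'⟩ => ⟨a * b, mul_mem ha hb, fun x => by
        rw [Units.val_mul, End.mul_apply, b', a', mulVec_mulVec, Units.val_mul]⟩
      inv_mem' := fun {M} ⟨a, ha, a'⟩ => ⟨a⁻¹, inv_mem ha, fun x => by
        have := a' ((M⁻¹).val *ᵥ x)
        rw [mulVec_mulVec, Units.mul_inv, one_mulVec] at this
        rw [← this, ← End.mul_apply, Units.inv_mul, End.one_apply]⟩ }
  have ex : ∀ {M M' : GL (Fin 2) k}, (∀ x, ι (M.val *ᵥ x) = ι (M'.val *ᵥ x)) → M = M' := fun h =>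
    Units.ext (ext_iff_mulVec.2 fun x => inj (h x))
  have : Finite T := Finite.of_injective (fun M : T => (⟨M.2.choose, M.2.choose_spec.1⟩ : H)) fun M M' h =>
    Subtype.ext (ex fun x => by
      rw [← M.2.choose_spec.2, ← M'.2.choose_spec.2]; exact congrArg (fun y : H => y.1.val (ι x)) h)
  have : Finite (T.map (ProjGenLinGroup.mk (n := Fin 2) (R := k))) :=
    Finite.of_surjective _ (MonoidHom.subgroupMap_surjective _ T)
  have mem : ∀ {g : (End k W)ˣ} {e : End k W} (u : kˣ), g ∈ H → g.val = 1 + ((l : k) - 1) • e →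
      (1 - (2 : k) • e) v = (u : k) • τ v → (1 - (2 : k) • e) (τ v) = (u : k)⁻¹ • v →
      P h2 l u ∈ T.map (ProjGenLinGroup.mk (n := Fin 2) (R := k)) := fun {g e} u a b c d => by
    have D : (1 + (l : k)) / 2 * ((1 + l) / 2) - (1 - l) / 2 * (u : k)⁻¹ * ((1 - l) / 2 * u) ≠ 0 := by
      rw [show (1 + (l : k)) / 2 * ((1 + l) / 2) - (1 - l) / 2 * (u : k)⁻¹ * ((1 - l) / 2 * u) = l by
        field_simp; ring]
      simp
    refine ⟨GeneralLinearGroup.mkOfDetNeZero !![(1 + l) / 2, (1 - l) / 2 * (u : k)⁻¹; (1 - l) / 2 * u, (1 + l) / 2]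
      (by rwa [det_fin_two_of]), ⟨g, a, fun x => ?_⟩, pgl_congr D _ 2 ?_ ?_ ?_ ?_⟩
    · have f : g.val = ((1 + (l : k)) / 2) • 1 + ((1 - (l : k)) / 2) • (1 - (2 : k) • e) := by
        rw [b]; match_scalars <;> field_simp <;> ring
      rw [f, hι, hι]
      generalize 1 - (2 : k) • e = s at c d
      simp [c, d, mulVec, dotProduct]
      module
    all_goals field_simp
  refine core hp h2 hN (l := l) (ζ := Units.mk0 ζ z0) ?_ hl hm hr (Units.ext (by simpa using zr))
    (fun h => z1 (congrArg Units.val h)) (mem 1 hg eg (by simp [hτ]) (by rw [← hτ, t3]; simp)) (mem _ hg' eg' t1 t2)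
  rintro _ ⟨M, ⟨h, a, b⟩, rfl⟩
  have : ∀ (n : ℕ) x, (h ^ n).val (ι x) = ι ((M ^ n).val *ᵥ x) := fun n => by
    induction n with
    | zero => simp
    | succ n ih => intro x; rw [pow_succ, pow_succ, Units.val_mul, End.mul_apply, b, ih, mulVec_mulVec, Units.val_mul]
  rw [← map_pow, ex (M := M ^ N) (M' := 1) fun x => by rw [← this, hH h a]; simp, map_one]

end L4

variable {p : ℕ} [Fact p.Prime] {V : Type*} [AddCommGroup V] [Module (ZMod p) V] [Finite V]
  {H : Subgroup (End (ZMod p) V)ˣ} {g g' : (End (ZMod p) V)ˣ} {e e' : End (ZMod p) V} {l : (ZMod p)ˣ}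

theorem L4.prim (prim : ∀ c, c ∈ zpowers l) : orderOf l = p - 1 := by
  rw [orderOf_eq_card_of_forall_mem_zpowers prim, Nat.card_eq_fintype_card, ZMod.card_units]

theorem L4.half (hp : p ≠ 2) (prim : ∀ c, c ∈ zpowers l) : l ^ ((p - 1) / 2) = -1 := by
  have pp : p.Prime := Fact.out
  have := pp.eq_two_or_odd
  have := pp.two_le
  have a : l ^ ((p - 1) / 2) * l ^ ((p - 1) / 2) = 1 := by
    rw [← pow_add, show (p - 1) / 2 + (p - 1) / 2 = p - 1 by omega, ZMod.units_pow_card_sub_one_eq_one]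
  refine (Units.inv_eq_self_iff _).1 (inv_eq_of_mul_eq_one_right a) |>.resolve_left fun h => ?_
  have := Nat.le_of_dvd (by omega) (L4.prim prim ▸ orderOf_dvd_of_pow_eq_one h)
  omega

theorem kl (hp : 5 ≤ p) (hH : ¬ p ∣ Nat.card H) (hg : g ∈ H) (hg' : g' ∈ H) (prim : ∀ c, c ∈ zpowers l)
    (ee : e * e = e) (ee' : e' * e' = e') (eg : g.val = 1 + ((l : ZMod p) - 1) • e)
    (eg' : g'.val = 1 + ((l : ZMod p) - 1) • e') {r : ℕ} (hr : Odd r)
    (hk : ((1 - 2 • e) * (1 - 2 • e')) ^ r = 1) : e = e' := by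
  let k := AlgebraicClosure (ZMod p)
  have := Module.Finite.of_finite (R := ZMod p) (M := V)
  have := Mg.fin_end (p := p) (V := V)
  let b := Module.finBasis (ZMod p) V
  let φ : End (ZMod p) V →+* End k (Fin _ → k) := (Matrix.toLinAlgEquiv' (R := k)).toRingEquiv.toRingHom.comp
    ((algebraMap (ZMod p) k).mapMatrix.comp (LinearMap.toMatrixAlgEquiv b).toRingEquiv.toRingHom)
  have inj : Function.Injective φ := (Matrix.toLinAlgEquiv' (R := k)).injective.comp
    ((Matrix.map_injective (algebraMap (ZMod p) k).injective).comp (LinearMap.toMatrixAlgEquiv b).injective)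
  have sm : ∀ (c : ZMod p) f, φ (c • f) = algebraMap (ZMod p) k c • φ f := fun c f => by
    obtain ⟨n, rfl⟩ := ZMod.natCast_zmod_surjective c
    rw [map_natCast, Nat.cast_smul_eq_nsmul, Nat.cast_smul_eq_nsmul, map_nsmul]
  let ψ := Units.map (algebraMap (ZMod p) k).toMonoidHom
  have iψ : Function.Injective ψ := Units.map_injective (algebraMap (ZMod p) k).injective
  have : Finite (H.map (Units.map φ.toMonoidHom)) := Finite.of_surjective _ (MonoidHom.subgroupMap_surjective _ H)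
  have eq : ∀ {g : (End (ZMod p) V)ˣ} {e}, g.val = 1 + ((l : ZMod p) - 1) • e →
      (Units.map φ.toMonoidHom g).val = 1 + (((ψ l : kˣ) : k) - 1) • φ e := fun {g e} h => by
    change φ g.val = _
    rw [h, map_add, map_one, sm, map_sub, map_one]; rfl
  refine inj (L4.two (H := H.map (Units.map φ.toMonoidHom)) (l := ψ l) hp ?_ hH ?_ (fun m h => ?_) ?_
    (mem_map_of_mem _ hg) (mem_map_of_mem _ hg') (by rw [← map_mul, ee]) (by rw [← map_mul, ee']) (eq eg) (eq eg')
    hr ?_)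
  · exact fun h => by
      have := Nat.le_of_dvd two_pos ((CharP.cast_eq_zero_iff k p 2).1 h)
      omega
  · rintro _ ⟨x, hx, rfl⟩
    rw [← map_pow, show x ^ Nat.card H = 1 from congrArg Subtype.val (pow_card_eq_one' (x := (⟨x, hx⟩ : H))), map_one]
  · rw [← map_pow, map_eq_one_iff _ iψ] at h
    exact L4.prim prim ▸ orderOf_dvd_of_pow_eq_one h
  · rw [← map_pow, L4.half (by omega) prim]
    exact Units.ext (by simp [ψ])
  · have := congrArg φ hk
    simpa only [map_pow, map_mul, map_sub, map_one, two_smul, map_add] using this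

end CF.Mh
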