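import Cfsg.Agent.Mh.S
import Cfsg.Agent.Mh.L4
import Cfsg.Agent.Mh.L2

/-! Weyl and torus elements in the normalizer of the essential subgroup. -/

set_option autoImplicit false

namespace CF.Mh

open Cfsg Subgroup CF.Fus CF.FusC CF.Mxc CF.Mg Module
open scoped commutatorElement

universe u

variable {G : Type u} [Group G] {p t i : ℕ} {E S Γ : Subgroup G} {L K M : ℕ → Subgroup G} {z : G}
  [Fact p.Prime] [Finite G]

theorem DX.td (d : DX p t S L K M E Γ) (q : ZD p t S M E i z) :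
    ∃ w h l m, TD p E (NS S E) Γ z w h l m ∧ h ∈ Nm (M 0) := by
  obtain ⟨V, _, _, _, φ, ρ, s⟩ := exists_Sec (p := p) bot_le (el_Yo (E := E)) norm_Yo fun _ _ => mem_Nm_bot
  have := fin_end (p := p) (V := V)
  have m := s.mul
  have fn := d.sat.ess_fn d.ess
  have EN : E ≤ NS S E := le_NS d.le
  have ker : ∀ {g}, g ∈ Nm E → (ρ g = 1 ↔ g ∈ Cn (Yo p E)) := fun hg => (s.one_tr hg).trans mem_Tr_bot
  have same : ∀ {a b}, a ∈ Nm E → b ∈ Nm E → (ρ a = ρ b ↔ a⁻¹ * b ∈ Cn (Yo p E)) := fun ha hb => by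
    rw [← ker (mul_mem (inv_mem ha) hb), m.map_inv_mul ha hb, inv_mul_eq_one]
  have cy : Cn E ≤ Cn (Yo p E) := centralizer_le Yo_le
  have mΓ : ∀ {g}, g ∈ Nm E → ρ g ∈ img ρ Γ → g ∈ Γ := fun hg c => by
    obtain ⟨γ, a, b⟩ := (m.mono d.se.le).mem_img.1 c
    exact mem_of_inv_mul a (d.kG (mul_mem (inv_mem (d.se.le a)) hg) ((same (d.se.le a) hg).1 b))
  have mN := m.mono (NS_le_norm (S := S))
  obtain ⟨T, t1, t2, t3⟩ := exists_T d.sat fn
  have tP : img ρ T = img ρ (NS S E) := le_antisymm (img_le_iff.2 fun y hy => by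
    obtain ⟨a, b, c⟩ := t3 y hy
    exact (same b.2 (t1.le hy)).2 (cy c) ▸ mem_img_of_mem b) (img_mono t2)
  obtain ⟨l, prim⟩ := IsCyclic.exists_generator (α := (ZMod p)ˣ)
  have ol := L4.prim prim
  have zE : z ∈ Nm E := q.zN.2
  have p5 := d.p5
  obtain ⟨w', h', τ⟩ := ql (l := l) (Γ := img ρ Γ) (z := ρ z) p5 (tP ▸ t1.img_mulOn m) (img_mono d.se.nG)
    (let ⟨ξ, a, b⟩ := d.se.ex; ⟨_, mem_img_of_mem a, fun c => b (mΓ a c)⟩) (fun _ h1 x1 _ h2 c => by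
      obtain ⟨x, hx, rfl⟩ := mN.mem_img.1 h1
      obtain ⟨g, hg, rfl⟩ := m.mem_img.1 h2
      rw [← m.map_conj hg hx.2] at c
      exact mem_img_of_mem (d.se.g3 x hx (fun e => x1 ((ker hx.2).2 (le_Cn_Yo e))) g hg
        (mΓ (mul_mem (mul_mem hg hx.2) (inv_mem hg)) c)))
    (mem_img_of_mem q.zN) (fun e => q.zE (d.cY q.zN ((ker zE).1 e))) (fun _ h1 => by
      obtain ⟨x, hx, rfl⟩ := mN.mem_img.1 h1
      rw [← commutatorElement_eq_one_iff_commute, ← m.map_comm hx.2 zE]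
      have := q.le (d.m.cw (d.nN hx) q.zM (k := i) (by have := q.i2; omega))
      exact (ker (le_normalizer this)).2 (le_Cn_Yo this))
    (LinearMap.ext fun v => by
      obtain ⟨y, hy, rfl⟩ := s.surj v
      rw [End.mul_apply, s.act zE hy, s.act zE (comm_mem_right (s.nA zE) hy), q.sq y hy]
      exact (s.zero 1 (one_mem _)).2 (one_mem _))
    (by rintro rfl; rw [orderOf_one] at ol; omega)
  obtain ⟨w, wE, rfl⟩ := m.mem_img.1 τ.wX
  obtain ⟨h, hE, hN, h0, rfl⟩ : ∃ h ∈ Nm E, h ∈ Nm (NS S E) ∧ h ∈ Nm (M 0) ∧ ρ h = h' := by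
    obtain ⟨h, hE, rfl⟩ := m.mem_img.1 τ.hX
    obtain ⟨r, r1, r2⟩ := (t1.mono (C := pre ρ (Nm E) (img ρ (NS S E)))
      (fun y hy => mem_pre_of (t1.le hy) (tP ▸ mem_img_of_mem hy)) pre_le).frattini (g := h)
      (norm_of_Cj_le (img_le_iff.2 fun x hx => by
        rw [m.mem_pre] at hx ⊢
        rw [cj_apply, m.map_conj hE hx.1]
        exact ⟨mul_mem (mul_mem hE hx.1) (inv_mem hE), conj_mem_of_norm τ.hP hx.2⟩))
    rw [m.mem_pre] at r1
    obtain ⟨n, n1, n2⟩ := mN.mem_img.1 r1.2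
    have a : n⁻¹ * (r * h) ∈ Nm E := mul_mem (inv_mem n1.2) (mul_mem r1.1 hE)
    obtain ⟨x, x1, x2⟩ := ext_norm d.sat fn a (by
      rw [show NS S E ⊔ Cn E = T ⊔ Cn E from le_antisymm (sup_le_sup_right t2 _) (sup_le (fun y hy =>
        let ⟨_, b, c⟩ := t3 y hy; mem_of_inv_mul (mem_sup_left b) (mem_sup_right c)) le_sup_right)]
      exact norm_sup' (mul_mem (inv_mem (le_normalizer (t2 n1))) r2) (norm_Cn a))
    obtain ⟨y, y1, y2⟩ := d.hx x x1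
    have xE := mem_of_inv_mul' a (Cn_le_Nm x2)
    have y3 : y⁻¹ * x ∈ Cn E := centralizer_le EN y2
    have yE := mem_of_inv_mul' xE (Cn_le_Nm y3)
    refine ⟨y, yE, mem_of_inv_mul' x1 (Cn_le_Nm y2), y1, ?_⟩
    rw [(same yE xE).2 (cy y3), (same xE a).2 (cy x2), m.map_inv_mul n1.2 (mul_mem r1.1 hE), m r1.1 hE, n2,
      inv_mul_cancel_left]
  have inj : ∀ {a b}, a ∈ Yo p E → b ∈ Yo p E → φ a = φ b → a = b := fun ha hb e =>
    (inv_mul_eq_one.1 (mem_bot.1 ((s.eq hb ha).1 e))).symm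
  have cz : ∀ {y}, y ∈ Yo p E → ⁅z, y⁆ ∈ Yo p E := comm_mem_right (s.nA zE)
  have k0 : ∀ {y}, y ∈ Yo p E → ⁅z, y⁆ = 1 → ((ρ z).val - 1) (φ y) = 0 := fun hy e => by
    rw [s.act zE hy, e]; exact (s.zero 1 (one_mem _)).2 (one_mem _)
  obtain ⟨a, ha⟩ := ZMod.intCast_surjective (l : ZMod p)
  obtain ⟨b, hb⟩ := ZMod.intCast_surjective ((l⁻¹ : (ZMod p)ˣ) : ZMod p)
  have zp := fun n : ℤ => zpow_mem zE n
  refine ⟨w, h, a, b, ⟨?_, fun k c => ?_, hE, hN, wE, fun c => τ.wG (mem_img_of_mem c), fun y hy e => ?_,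
    fun v hv => ?_, fun y hy e f => ?_, fun y hy e f => ?_, ?_, ?_, ?_, fun j => ?_⟩, h0⟩
  · rw [← ZMod.intCast_zmod_eq_zero_iff_dvd]; push_cast; rw [ha, hb, Units.mul_inv, sub_self]
  · rw [← ZMod.intCast_zmod_eq_zero_iff_dvd] at c
    push_cast at c
    rw [ha, sub_eq_zero, ← Units.val_pow_eq_pow_val, Units.val_eq_one] at c
    exact ol ▸ orderOf_dvd_of_pow_eq_one c
  · obtain ⟨u, c⟩ := τ.a1 _ (k0 hy e)
    obtain ⟨v, hv, rfl⟩ := s.surj u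
    have f := conj_Yo hE hy
    exact ⟨v, hv, inj (mul_mem (inv_mem hy) f) (cz hv) (by
      rw [s.add _ (inv_mem hy) _ f, s.inv hy, ← s.cj h hE y hy, ← s.act zE hv, ← c, neg_add_eq_sub])⟩
  · refine inj (conj_Yo hE (cz hv)) (zpow_mem (cz hv) a) ?_
    rw [← s.cj h hE _ (cz hv), s.zpow (cz hv), ← s.act zE hv, ha, ← End.mul_apply, τ.a2]; rfl
  · exact inj (conj_Yo wE hy) hy (by rw [← s.cj w wE y hy, τ.b _ (k0 hy e) (by rw [s.cj h hE y hy, f])])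
  · have g := conj_Yo wE hy
    refine inj (conj_Yo hE g) (zpow_mem g b) ?_
    rw [← s.cj h hE _ g, s.zpow g, ← s.cj w wE y hy, hb, τ.c _ (k0 hy e) (by rw [s.cj h hE y hy, f, s.zpow hy, ha])]
  · rw [← ker (pow_mem hE _), m.map_pow hE, τ.r1]
  · rw [← same (zp _) (mul_mem (mul_mem hE zE) (inv_mem hE)), m.map_conj hE zE, m.map_zpow zE,
      τ.r2 (a ^ 2) (by push_cast; rw [ha])]
  · rw [← ker (mul_mem (mul_mem (mul_mem hE wE) hE) (inv_mem wE)),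
      m.map_mul_inv (mul_mem (mul_mem hE wE) hE) wE, m (mul_mem hE wE) hE, m hE wE, τ.r3]
  · have c := mul_mem (mul_mem wE (zp (b ^ j))) (inv_mem wE)
    rw [← same (mul_mem (mul_mem c (pow_mem hE j)) (zp _)) (mul_mem (zp _) wE), m (mul_mem c (pow_mem hE j)) (zp _),
      m c (pow_mem hE j), m.map_conj wE (zp _), m (zp _) wE, m.map_zpow zE, m.map_zpow zE, m.map_pow hE,
      τ.r4 j (-a ^ j) (b ^ j) (by push_cast; rw [ha]) (by rw [Int.cast_pow, hb])]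

end CF.Mh
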