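import Cfsg.Agent.Mh.A

/-! A quadratic element and a strongly embedded subgroup: the opposite root element. -/

set_option autoImplicit false
set_option linter.unusedSectionVars false
set_option linter.unusedVariables false

namespace CF.Mh

open Cfsg Subgroup CF.Fus CF.FusC CF.Mxc CF.Mg Module

namespace L1

theorem idem {A : Type*} [Monoid A] [Finite A] (x : A) : ∃ m : ℕ, x ^ (m + 1) * x ^ (m + 1) = x ^ (m + 1) := by
  obtain ⟨i, j, hij, h⟩ : ∃ i j : ℕ, i < j ∧ x ^ i = x ^ j := by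
    obtain ⟨i, j, hne, h⟩ := Finite.exists_ne_map_eq_of_infinite fun n : ℕ => x ^ n
    rcases lt_or_gt_of_ne hne with h' | h'
    exacts [⟨i, j, h', h⟩, ⟨j, i, h', h.symm⟩]
  obtain ⟨d, rfl⟩ := Nat.exists_eq_add_of_lt hij
  have key : ∀ k, x ^ (i + k * (d + 1)) = x ^ i := fun k => by
    induction k with
    | zero => simp
    | succ k ih => rw [show i + (k + 1) * (d + 1) = i + k * (d + 1) + (d + 1) by ring, pow_add, ih, ← pow_add,
        ← add_assoc, ← h]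
  refine ⟨i * d + i + d, ?_⟩
  rw [← pow_add, show i * d + i + d + 1 + (i * d + i + d + 1) = i + (i + 1) * (d + 1) + (i * d + d + 1) by ring,
    pow_add, key, ← pow_add]
  congr 1; ring

variable {p : ℕ} [Fact p.Prime] {A : Type*} [Ring A] [Algebra (ZMod p) A]

theorem pg_oneAdd [Nontrivial A] (N : Submodule (ZMod p) A) (h : N * N ≤ N) (hn : ∃ n, N ^ n = ⊥) :
    IsPGroup p (QP.oneAdd N h hn) := by
  haveI : CharP A p := charP_of_injective_algebraMap (algebraMap (ZMod p) A).injective p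
  obtain ⟨n, hn'⟩ := hn
  refine isPGroup_iff_mem.2 fun g hg => ⟨n, Units.ext ?_⟩
  have h1 : (g.val - 1) ^ n = 0 := by
    have := Submodule.pow_mem_pow N (show g.val - 1 ∈ N from hg) n
    rwa [hn', Submodule.mem_bot] at this
  have h2 := sub_pow_char_pow_of_commute p n (Commute.one_right g.val)
  rw [pow_eq_zero_of_le (Nat.lt_pow_self (Fact.out : p.Prime).one_lt).le h1, one_pow] at h2
  simpa using sub_eq_zero.1 h2.symm

/-- two square-zero elements with nilpotent anticommutator lie in a `p`-group -/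
theorem pair [Nontrivial A] {a b : A} (ha : a * a = 0) (hb : b * b = 0) {n : ℕ} (hz : QP.zz a b ^ n = 0) :
    ∃ D : Subgroup Aˣ, IsPGroup p D ∧ ∀ g : Aˣ, g.val - 1 = a ∨ g.val - 1 = b → g ∈ D := by
  set B := Submodule.span (ZMod p) {a, b} with hB
  have e1 : a * b * a = QP.zz a b * a := (QP.zz_mul_left ha b).symm
  have e2 : b * a * b = QP.zz a b * b := by rw [QP.zz_comm]; exact (QP.zz_mul_left hb a).symm
  have t3 : ∀ y ∈ B, ∀ u ∈ B, ∀ v ∈ B, ∃ w ∈ B, y * u * v = QP.zz a b * w := fun y hy u hu v hv => by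
    obtain ⟨c1, c2, rfl⟩ := Submodule.mem_span_pair.1 hy
    obtain ⟨c3, c4, rfl⟩ := Submodule.mem_span_pair.1 hu
    obtain ⟨c5, c6, rfl⟩ := Submodule.mem_span_pair.1 hv
    refine ⟨(c1 * c4 * c5) • a + (c2 * c3 * c6) • b, Submodule.mem_span_pair.2 ⟨_, _, rfl⟩, ?_⟩
    simp only [add_mul, mul_add, smul_mul_assoc, mul_smul_comm, ha, hb, smul_zero, zero_add, add_zero, zero_mul,
      ← e1, ← e2, mul_assoc a b b, mul_assoc b a a, mul_zero, smul_smul]
    module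
  have t4 : ∀ j, B ^ (2 * j + 1) ≤ B.map (LinearMap.mulLeft (ZMod p) (QP.zz a b ^ j)) := fun j => by
    induction j with
    | zero => intro x hx; exact ⟨x, by simpa using hx, by simp⟩
    | succ j ih =>
      rw [show 2 * (j + 1) + 1 = 2 * j + 1 + 1 + 1 by ring, pow_succ, pow_succ, mul_assoc]
      refine (QP.mulL ih).trans (Submodule.mul_le.2 ?_)
      rintro _ ⟨y, hy, rfl⟩ t ht
      refine Submodule.mul_induction_on ht (fun u hu v hv => ?_) fun u v hu hv => by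
        rw [mul_add]; exact add_mem hu hv
      obtain ⟨w, hw, e⟩ := t3 y hy u hu v hv
      exact ⟨w, hw, by simp only [LinearMap.mulLeft_apply]; rw [pow_succ, mul_assoc, ← e, mul_assoc, mul_assoc]⟩
  have t5 : B ^ (2 * n + 1) = ⊥ := eq_bot_iff.2 ((t4 n).trans (by
    rintro _ ⟨y, -, rfl⟩; simp [hz]))
  have t6 : ∀ m, (⨆ k, B ^ (k + 1)) ^ (m + 1) ≤ ⨆ k, B ^ (k + m + 1) := fun m => by
    induction m with
    | zero => simp
    | succ m ih =>
      rw [pow_succ]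
      refine (QP.mulL ih).trans ?_
      rw [Submodule.iSup_mul]
      refine iSup_le fun i => ?_
      rw [Submodule.mul_iSup]
      refine iSup_le fun j => le_iSup_of_le (i + j) (le_of_eq ?_)
      rw [← pow_add]; congr 1; ring
  refine ⟨_, pg_oneAdd (⨆ k, B ^ (k + 1)) (((pow_two _).symm.le.trans (t6 1)).trans
    (iSup_le fun k => le_iSup_of_le (k + 1) le_rfl)) ⟨2 * n + 1, eq_bot_iff.2 ((t6 _).trans (iSup_le fun k => ?_))⟩,
    fun g hg => ?_⟩
  · rw [add_assoc, pow_add, t5, Submodule.mul_bot]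
  · refine le_iSup (fun k => B ^ (k + 1)) 0 (show g.val - 1 ∈ B ^ (0 + 1) from ?_)
    rw [zero_add, pow_one]
    rcases hg with e | e <;> rw [e] <;> exact Submodule.subset_span (by simp)

section cos
variable {Q : Type*} [Group Q] [Finite Q] {X P Γ D : Subgroup Q} {x y g g' : Q}

theorem uniq (hP : SylIn p P X) (se : ∀ x ∈ P, x ≠ 1 → ∀ g ∈ X, g * x * g⁻¹ ∈ Γ → g ∈ Γ) (hD : IsPGroup p D)
    (hx : x ∈ D) (xX : x ∈ X) (x1 : x ≠ 1) (hg : g ∈ X) (hg' : g' ∈ X) (f : g⁻¹ * x * g ∈ Γ)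
    (f' : g'⁻¹ * x * g' ∈ Γ) : g⁻¹ * g' ∈ Γ := by
  obtain ⟨k, hk⟩ := isPGroup_iff_mem.1 hD x hx
  obtain ⟨b, hb, h0⟩ := hP.exists_conj_elt xX hk
  have key : ∀ g ∈ X, g⁻¹ * x * g ∈ Γ → (b * g)⁻¹ ∈ Γ := fun g hg f =>
    se _ h0 (by simpa using x1) _ (inv_mem (mul_mem hb hg)) (by simpa [mul_assoc] using f)
  simpa [mul_assoc] using mul_mem (key g hg f) (inv_mem (key g' hg' f'))

theorem same (hP : SylIn p P X) (h1 : P ≤ Γ) (se : ∀ x ∈ P, x ≠ 1 → ∀ g ∈ X, g * x * g⁻¹ ∈ Γ → g ∈ Γ)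
    (hD : IsPGroup p D) (hx : x ∈ D) (xX : x ∈ X) (x1 : x ≠ 1) (hy : y ∈ D) (yX : y ∈ X) (hg : g ∈ X)
    (f : g⁻¹ * x * g ∈ Γ) : g⁻¹ * y * g ∈ Γ := by
  obtain ⟨b, hb, h0⟩ := hP.exists_conj (inf_le_right : D ⊓ X ≤ X) (hD.to_le inf_le_left)
  have a := uniq hP se hD hx xX x1 hg (inv_mem hb) f (by simpa using h1 (h0 x ⟨hx, xX⟩))
  simpa [mul_assoc] using mul_mem (mul_mem a (h1 (h0 y ⟨hy, yX⟩))) (inv_mem a)

end cos

end L1

section lin
variable {p : ℕ} [Fact p.Prime] {V : Type*} [AddCommGroup V] [Module (ZMod p) V] [Finite V]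
  {X P Γ : Subgroup (End (ZMod p) V)ˣ} {z : (End (ZMod p) V)ˣ}

open L1 in
theorem ql1 (hp : 5 ≤ p) (hP : SylIn p P X) (h1 : P ≤ Γ) (ex : ∃ g ∈ X, g ∉ Γ)
    (se : ∀ x ∈ P, x ≠ 1 → ∀ g ∈ X, g * x * g⁻¹ ∈ Γ → g ∈ Γ) (zP : z ∈ P) (z1 : z ≠ 1)
    (zq : (z.val - 1) * (z.val - 1) = 0) :
    ∃ b, QP.InA (ZMod p) X b ∧ (z.val - 1) * b * (z.val - 1) = z.val - 1 ∧ b * (z.val - 1) * b = b ∧
      ∀ w ∈ X, w.val = z.val * (1 - b) * z.val → w ∉ Γ := by
  haveI : Finite (End (ZMod p) V) := Finite.of_injective _ DFunLike.coe_injective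
  haveI : Nontrivial (End (ZMod p) V) := ⟨⟨z.val, 1, fun e => z1 (Units.ext e)⟩⟩
  haveI : Module.Finite (ZMod p) (End (ZMod p) V) := Module.Finite.of_finite
  have bg : QP.BigF (ZMod p) := QP.BigF.mk' (by rw [ZMod.ringChar_zmod_n]; omega) (by rw [Nat.card_zmod]; omega)
  have zX := hP.le zP
  set a := z.val - 1 with ha
  have a0 : a ≠ 0 := fun e => z1 (Units.ext (sub_eq_zero.1 e))
  have ia : QP.InA (ZMod p) X a := ⟨zq, fun c => ⟨z ^ c.val, pow_mem zX _, by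
    rw [Units.val_pow_eq_pow_val, Q3.pw zq, ← Nat.cast_smul_eq_nsmul (ZMod p), ZMod.natCast_zmod_val]⟩⟩
  have cz : ∀ g : (End (ZMod p) V)ˣ, (g * z * g⁻¹).val - 1 = g * a * (g⁻¹ : (End (ZMod p) V)ˣ) := fun g => by
    rw [ha, mul_sub, sub_mul, mul_one, Units.mul_inv, Units.val_mul, Units.val_mul]
  have fz : ∀ g : (End (ZMod p) V)ˣ, g⁻¹ * (g * z * g⁻¹) * g ∈ Γ := fun g => by simpa [mul_assoc] using h1 zP
  have nz : ∀ g : (End (ZMod p) V)ˣ, g * z * g⁻¹ ≠ 1 := fun g => by simpa using z1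
  have fin : ∀ g ∈ X, g ∉ Γ → ∀ m : ℕ, ∀ ζ, ζ = QP.zz a (g * a * (g⁻¹ : (End (ZMod p) V)ˣ)) →
      ζ ^ (m + 1) * ζ ^ (m + 1) = ζ ^ (m + 1) → ζ ^ (m + 1) * a = a →
      ∃ b, QP.InA (ZMod p) X b ∧ a * b * a = a ∧ b * a * b = b ∧
        ∀ w ∈ X, w.val = z.val * (1 - b) * z.val → w ∉ Γ := by
    intro g hg gΓ m ζ hζ hi hπ
    have ib := ia.conj hg
    have cg := cz g
    generalize (g * a * (g⁻¹ : (End (ZMod p) V)ˣ) : End (ZMod p) V) = b0 at hζ ib cg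
    have ca : Commute ζ a := hζ ▸ QP.commute_zz zq b0
    have cb : Commute ζ b0 := by rw [hζ, QP.zz_comm]; exact QP.commute_zz ib.sq a
    have e1 : a * b0 * a = ζ * a := hζ ▸ (QP.zz_mul_left zq b0).symm
    have e2 : b0 * a * b0 = ζ * b0 := by rw [hζ, QP.zz_comm]; exact (QP.zz_mul_left ib.sq a).symm
    have ik := ib.key bg ia (Polynomial.X ^ (2 * m + 1))
    rw [QP.zz_comm, ← hζ, map_pow, Polynomial.aeval_X] at ik
    have f1 : a * (ζ ^ (2 * m + 1) * b0) * a = a := by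
      rw [← mul_assoc, ← (ca.pow_left _).eq, mul_assoc _ a, mul_assoc, e1, ← mul_assoc, ← pow_succ,
        show 2 * m + 1 + 1 = m + 1 + (m + 1) by ring, pow_add, hi, hπ]
    have f2 : ζ ^ (2 * m + 1) * b0 * a * (ζ ^ (2 * m + 1) * b0) = ζ ^ (2 * m + 1) * b0 := by
      calc _ = ζ ^ (2 * m + 1) * (b0 * a * ζ ^ (2 * m + 1)) * b0 := by simp only [mul_assoc]
        _ = ζ ^ (2 * m + 1) * ζ ^ (2 * m + 1) * (ζ * b0) := by
          rw [← ((cb.mul_right ca).pow_left _).eq, ← e2]; simp only [mul_assoc]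
        _ = ζ ^ m * (ζ ^ (m + 1) * ζ ^ (m + 1) * ζ ^ (m + 1)) * b0 := by
          rw [← mul_assoc]; simp only [← pow_add, ← pow_succ]; congr 2; ring
        _ = _ := by rw [hi, hi, ← pow_add]; congr 2; ring
    have f3 : ζ ^ (2 * m + 1) * b0 * b0 = 0 := by rw [mul_assoc, ib.sq, mul_zero]
    have f4 : b0 * (ζ ^ (2 * m + 1) * b0) = 0 := by rw [← mul_assoc, ← (cb.pow_left _).eq, f3]
    generalize ζ ^ (2 * m + 1) * b0 = b at ik f1 f2 f3 f4
    refine ⟨b, ik, f1, f2, fun w hw hv wΓ => gΓ ?_⟩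
    have e3 : (w * z * w⁻¹).val - 1 = -b := by
      rw [cz, Units.mul_inv_eq_iff_eq_mul, hv, show z.val = 1 + a by rw [ha]; abel]
      calc (1 + a) * (1 - b) * (1 + a) * a = a - b * a - a * b * a + (1 + a) * (1 - b) * (a * a) + a * a := by
            noncomm_ring
        _ = -b - b * a + b * a * b + b * a * b * a - b * a + b * b * (1 + a) - b * (a * a) := by
            rw [zq, f1, f2, ik.sq]; noncomm_ring
        _ = _ := by noncomm_ring
    obtain ⟨D, hD, mD⟩ := pair (p := p) ib.sq ik.neg.sq (n := 1) (by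
      rw [pow_one, QP.zz, mul_neg, neg_mul, f3, f4, neg_zero, add_zero])
    have yX := mul_mem (mul_mem hw zX) (inv_mem hw)
    have := uniq hP se hD (mD _ (Or.inr e3)) yX (nz w) (one_mem X) hg
      (by simpa using mul_mem (mul_mem wΓ (h1 zP)) (inv_mem wΓ))
      (same hP h1 se hD (mD _ (Or.inl cg)) (mul_mem (mul_mem hg zX) (inv_mem hg)) (nz g) (mD _ (Or.inr e3)) yX hg (fz g))
    simpa using this
  obtain ⟨g, hg, gΓ⟩ := ex
  have ib := ia.conj hg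
  obtain ⟨m, hi⟩ := idem (QP.zz a (g * a * (g⁻¹ : (End (ZMod p) V)ˣ)))
  by_cases c1 : QP.zz a (g * a * (g⁻¹ : (End (ZMod p) V)ˣ)) ^ (m + 1) * a = a
  · exact fin g hg gΓ m _ rfl hi c1
  by_cases c2 : QP.zz a (g * a * (g⁻¹ : (End (ZMod p) V)ˣ)) ^ (m + 1) * (g * a * (g⁻¹ : (End (ZMod p) V)ˣ)) =
      g * a * (g⁻¹ : (End (ZMod p) V)ˣ)
  · have e : QP.zz a ((g⁻¹ : (End (ZMod p) V)ˣ) * a * (g⁻¹⁻¹ : (End (ZMod p) V)ˣ)) =
        (g⁻¹ : (End (ZMod p) V)ˣ) * QP.zz a (g * a * (g⁻¹ : (End (ZMod p) V)ˣ)) * (g⁻¹⁻¹ : (End (ZMod p) V)ˣ) := by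
      simp only [QP.zz, inv_inv, mul_add, add_mul, mul_assoc, Units.inv_mul_cancel_left, Units.inv_mul, mul_one]
      exact add_comm _ _
    refine fin g⁻¹ (inv_mem hg) (fun h => gΓ (inv_mem_iff.1 h)) m _ rfl ?_ ?_
    · rw [e, Units.conj_pow, inv_inv]
      simp only [mul_assoc, Units.mul_inv_cancel_left]
      rw [← mul_assoc (_ ^ (m + 1)), ← mul_assoc g.val a, hi]
    · rw [e, Units.conj_pow, inv_inv]
      have := congrArg (fun t : End (ZMod p) V => (g⁻¹ : (End (ZMod p) V)ˣ).val * t * g.val) c2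
      simpa only [mul_assoc, Units.inv_mul, mul_one, Units.inv_mul_cancel_left] using this
  exfalso
  have cg := cz g
  generalize (g * a * (g⁻¹ : (End (ZMod p) V)ˣ) : End (ZMod p) V) = b0 at ib hi c1 c2 cg
  have ia' := ia.key bg ib (1 - Polynomial.X ^ (m + 1))
  have ib' := ib.key bg ia (1 - Polynomial.X ^ (m + 1))
  rw [QP.zz_comm] at ib'
  simp only [map_sub, map_one, map_pow, Polynomial.aeval_X] at ia' ib'
  have ca : Commute (QP.zz a b0) a := QP.commute_zz zq b0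
  have cb : Commute (QP.zz a b0) b0 := by rw [QP.zz_comm]; exact QP.commute_zz ib.sq a
  have hz : QP.zz a b0 = a * b0 + b0 * a := rfl
  generalize QP.zz a b0 = ζ at hi c1 c2 ia' ib' ca cb hz
  set ρ := 1 - ζ ^ (m + 1) with hρ
  have ra : Commute ρ a := (Commute.one_left a).sub_left (ca.pow_left _)
  have rb : Commute ρ b0 := (Commute.one_left b0).sub_left (cb.pow_left _)
  have rz : Commute ρ ζ := (Commute.one_left ζ).sub_left ((Commute.refl ζ).pow_left _)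
  have pr : ∀ u : End (ZMod p) V, u * u = 0 → Commute ρ u → QP.zz u (ρ * u) ^ 1 = 0 := fun u h c => by
    rw [pow_one, QP.zz, ← mul_assoc, ← c.eq, mul_assoc, h, mul_zero, add_zero]
  obtain ⟨D1, hD1, m1⟩ := pair (p := p) zq ia'.sq (pr a zq ra)
  obtain ⟨D2, hD2, m2⟩ := pair (p := p) ib.sq ib'.sq (pr b0 ib.sq rb)
  obtain ⟨D3, hD3, m3⟩ := pair (p := p) ia'.sq ib'.sq (n := m + 1) (by
    have : QP.zz (ρ * a) (ρ * b0) = ρ * ρ * ζ := by
      rw [QP.zz, hz, mul_add, ra.symm.mul_mul_mul_comm, rb.symm.mul_mul_mul_comm]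
    have h0 : ρ * ζ ^ (m + 1) = 0 := by rw [hρ, sub_mul, one_mul, hi, sub_self]
    rw [this, (rz.mul_left rz).mul_pow, pow_succ, mul_assoc, mul_assoc ρ, h0, mul_zero, mul_zero])
  have vx : (QP.ex _ ia'.sq).val - 1 = ρ * a := by simp
  have vy : (QP.ex _ ib'.sq).val - 1 = ρ * b0 := by simp
  have x1 : QP.ex _ ia'.sq ≠ 1 := fun e => c1 (by
    rw [e, Units.val_one, sub_self, hρ, sub_mul, one_mul] at vx; exact (sub_eq_zero.1 vx.symm).symm)
  have y1 : QP.ex _ ib'.sq ≠ 1 := fun e => c2 (by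
    rw [e, Units.val_one, sub_self, hρ, sub_mul, one_mul] at vy; exact (sub_eq_zero.1 vy.symm).symm)
  have s1 := same hP h1 se hD1 (m1 z (Or.inl rfl)) zX z1 (m1 _ (Or.inr vx)) ia'.ex_mem' (one_mem X)
    (by simpa using h1 zP)
  have s2 := same hP h1 se hD2 (m2 _ (Or.inl cg)) (mul_mem (mul_mem hg zX) (inv_mem hg)) (nz g) (m2 _ (Or.inr vy))
    ib'.ex_mem' hg (fz g)
  have s3 := same hP h1 se hD3 (m3 _ (Or.inl vx)) ia'.ex_mem' x1 (m3 _ (Or.inr vy)) ib'.ex_mem' (one_mem X) s1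
  exact gΓ (by simpa using uniq hP se hD3 (m3 _ (Or.inr vy)) ib'.ex_mem' y1 (one_mem X) hg s3 s2)

end lin

end CF.Mh
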