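import Cfsg.Agent.Mh.L4

/-! Two idempotents; the Steinberg relations. -/

set_option autoImplicit false

namespace CF.Mh

open Subgroup Module CF.Mg Polynomial

variable {p d : ℕ} [Fact p.Prime] {V : Type*} [AddCommGroup V] [Module (ZMod p) V] [Finite V]
  {F : ℕ → Submodule (ZMod p) V} {g g' h w x z : (End (ZMod p) V)ˣ} {e e' : End (ZMod p) V} {l : (ZMod p)ˣ}

theorem L5.two (hp : p ≠ 2) : (2 : ZMod p) ≠ 0 := fun h =>
  hp ((Nat.prime_dvd_prime_iff_eq Fact.out Nat.prime_two).1 ((CharP.cast_eq_zero_iff (ZMod p) p 2).1 h))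

theorem idem_le_two (hp : p ≠ 2) (fg : Fg d F) (rg : Rg d F (x.val - 1)) (hx : x ∈ zpowers g ⊔ zpowers g')
    (ee : e * e = e) (ee' : e' * e' = e') {a : ZMod p} (eg : g.val = 1 + a • e) (eg' : g'.val = 1 + a • e')
    {r : ℕ} (hr : r.Coprime p) (hk : ((1 - 2 • e) * (1 - 2 • e')) ^ r = 1) : d ≤ 2 := by
  have pp : p.Prime := Fact.out
  by_contra! d3
  have := fin_end (p := p) (V := V)
  have ind : ∀ T : Submonoid (End (ZMod p) V), g.val ∈ T → g'.val ∈ T → x.val ∈ T := fun T b c => by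
    let T' : Subgroup (End (ZMod p) V)ˣ := ⟨T.comap (Units.coeHom _), fun {y} hy => by
      rw [inv_eq_of_mul_eq_one_right (a := y) (b := y ^ (orderOf y - 1)) (by
        rw [← pow_succ', Nat.sub_add_cancel (orderOf_pos y), pow_orderOf_eq_one])]
      exact pow_mem (S := T.comap (Units.coeHom _)) hy _⟩
    exact (sup_le (zpowers_le.2 b) (zpowers_le.2 c) : _ ≤ T') hx
  have e1 : ∀ f, e * (e * f) = e * f := fun f => by rw [← mul_assoc, ee]
  have e2 : ∀ f, e' * (e' * f) = e' * f := fun f => by rw [← mul_assoc, ee']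
  set c := e + e' - e * e' - e' * e with hc
  have c1 : Commute e c := by
    change _ = _
    simp only [hc, mul_sub, sub_mul, mul_add, add_mul, mul_assoc, e1, ee]; abel
  have c2 : Commute e' c := by
    change _ = _
    simp only [hc, mul_sub, sub_mul, mul_add, add_mul, mul_assoc, e2, ee']; abel
  have c3 : Commute x.val c := ind (Submonoid.centralizer {c})
    (by rintro _ rfl; rw [eg]; exact ((Commute.one_left _).add_left (c1.smul_left a)).symm)
    (by rintro _ rfl; rw [eg']; exact ((Commute.one_left _).add_left (c2.smul_left a)).symm) c rfl |>.symm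
  obtain ⟨q, hq⟩ := rg.comm fg (c3.sub_left (Commute.one_left c)).symm
  have nq := fg.aeval_sub rg.dg q
  rw [← hq] at nq
  generalize q.coeff 0 = c0 at nq
  have : Nontrivial (End (ZMod p) V) := ⟨_, _, rg.pow_ne fg d3⟩
  have : CharP (End (ZMod p) V) p := charP_of_injective_algebraMap (algebraMap (ZMod p) _).injective p
  have i1 : (1 - 2 • e) * (1 - 2 • e) = 1 := by
    simp only [two_smul, mul_sub, sub_mul, mul_add, add_mul, ee, one_mul, mul_one]; abel
  have i2 : (1 - 2 • e') * (1 - 2 • e') = 1 := by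
    simp only [two_smul, mul_sub, sub_mul, mul_add, add_mul, ee', one_mul, mul_one]; abel
  have k1 : (1 - 2 • e) * (1 - 2 • e') * ((1 - 2 • e') * (1 - 2 • e)) = 1 := by
    rw [mul_assoc, ← mul_assoc (1 - 2 • e'), i2, one_mul, i1]
  have k2 : (1 - 2 • e') * (1 - 2 • e) * ((1 - 2 • e) * (1 - 2 • e')) = 1 := by
    rw [mul_assoc, ← mul_assoc (1 - 2 • e), i1, one_mul, i2]
  have cm : Commute ((1 - 2 • e) * (1 - 2 • e')) ((1 - 2 • e') * (1 - 2 • e)) := k1.trans k2.symm
  have hk' : ((1 - 2 • e') * (1 - 2 • e)) ^ r = 1 := by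
    have := cm.mul_pow r
    rwa [k1, one_pow, hk, one_mul, eq_comm] at this
  have r0 : 0 < r := Nat.pos_of_ne_zero fun h => pp.ne_one (by simpa [h] using hr)
  have m1 : p ^ (r.totient * d) ≡ 1 [MOD r] := by
    simpa [← pow_mul] using (Nat.ModEq.pow_totient hr.symm).pow d
  have m2 : d ≤ p ^ (r.totient * d) :=
    (Nat.le_mul_of_pos_left d (Nat.totient_pos.2 r0)).trans (Nat.lt_pow_self pp.one_lt).le
  have th := add_pow_char_pow_of_commute p (r.totient * d) cm
  rw [pow_eq_pow_of_modEq m1 hk, pow_eq_pow_of_modEq m1 hk', pow_one, pow_one,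
    show (1 - 2 • e) * (1 - 2 • e') + (1 - 2 • e') * (1 - 2 • e) =
      (2 - 4 * c0) • 1 + (-4 : ZMod p) • (c - c0 • 1) by
      simp only [hc, mul_sub, sub_mul, one_mul, mul_one, smul_mul_assoc, mul_smul_comm]; module,
    add_pow_char_pow_of_commute p _ ((Commute.one_left _).smul_left _), _root_.smul_pow, _root_.smul_pow, one_pow,
    ZMod.pow_card_pow, fg.zero (Dg.pow1 nq _) m2, smul_zero, add_zero, left_eq_add, smul_eq_zero] at th
  have c4 : e' * e = e + e' - e * e' - c0 • 1 := by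
    have := th.resolve_left fun h => L5.two hp (mul_self_eq_zero.1 (by linear_combination -h))
    rw [← sub_eq_zero.1 this, hc]; abel
  have c5 : ∀ f, e' * (e * f) = e * f + e' * f - e * (e' * f) - c0 • f := fun f => by
    rw [← mul_assoc, c4]; simp only [sub_mul, add_mul, mul_assoc, smul_mul_assoc, one_mul]
  have mul : ∀ a b c d a' b' c' d' : ZMod p, (a • 1 + b • e + c • e' + d • (e * e')) *
      (a' • 1 + b' • e + c' • e' + d' • (e * e')) = (a * a' - c * b' * c0) • 1 +
      (a * b' + b * a' + b * b' + c * b' + d * b' * (1 - c0)) • e +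
      (a * c' + c * a' + c * b' + c * c' + c * d' * (1 - c0)) • e' +
      (a * d' + b * c' + b * d' - c * b' + d * a' + d * c' + d * d' * (1 - c0)) • (e * e') := by
    intros
    simp only [mul_sub, mul_add, add_mul, one_mul, mul_one, smul_mul_assoc, mul_smul_comm, mul_assoc, e1, e2, ee,
      ee', c4, c5]
    module
  obtain ⟨a1, a2, a3, a4, hx⟩ := ind
    { carrier := {f | ∃ a b c d : ZMod p, f = a • 1 + b • e + c • e' + d • (e * e')}
      one_mem' := ⟨1, 0, 0, 0, by simp⟩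
      mul_mem' := by rintro _ _ ⟨_, _, _, _, rfl⟩ ⟨_, _, _, _, rfl⟩; exact ⟨_, _, _, _, mul ..⟩ }
    ⟨1, a, 0, 0, by simp [eg]⟩ ⟨1, 0, a, 0, by simp [eg']⟩
  obtain ⟨s, t, sq⟩ : ∃ s t : ZMod p, (x.val - 1) * (x.val - 1) = s • (x.val - 1) + t • 1 := by
    rw [show x.val - 1 = (a1 - 1) • 1 + a2 • e + a3 • e' + a4 • (e * e') by rw [hx]; module, mul]
    exact ⟨2 * (a1 - 1) + a2 + a3 + a4 * (1 - c0),
      -((a1 - 1) ^ 2 + (a2 + a3 + a4 * (1 - c0)) * (a1 - 1) + a2 * a3 * c0), by module⟩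
  obtain ⟨j, rfl⟩ : ∃ j, d = j + 2 := ⟨d - 2, by omega⟩
  have z : ∀ i, j + 2 ≤ i → (x.val - 1) ^ i = 0 := fun i => fg.zero (Dg.pow1 rg.dg i)
  have nz := rg.pow_ne fg (show j + 1 < j + 2 by omega)
  have f : ∀ i, (x.val - 1) ^ (i + 2) = s • (x.val - 1) ^ (i + 1) + t • (x.val - 1) ^ i := fun i => by
    rw [pow_add, _root_.sq, sq, mul_add, mul_smul_comm, mul_smul_comm, mul_one, pow_succ]
  have t0 := f (j + 1)
  rw [z _ (by omega), z _ (by omega), smul_zero, zero_add, eq_comm, smul_eq_zero] at t0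
  have s0 := f j
  rw [z _ le_rfl, t0.resolve_right nz, zero_smul, add_zero, eq_comm, smul_eq_zero] at s0
  exact rg.pow_ne fg d3 (by rw [f 0, t0.resolve_right nz, s0.resolve_right nz]; simp)

theorem L5.rng {M : Type*} [AddCommMonoid M] (f : ℕ → M) : ∑ t : ZMod p, f t.val = ∑ i ∈ Finset.range p, f i :=
  Finset.sum_nbij' (fun t => t.val) (fun i => (i : ZMod p)) (fun t _ => Finset.mem_range.2 t.val_lt)
    (fun _ _ => Finset.mem_univ _) (fun t _ => ZMod.natCast_zmod_val t)
    (fun _ hi => ZMod.val_cast_of_lt (Finset.mem_range.1 hi)) fun _ _ => rfl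

omit [Finite V] in
theorem L5.geom (f : End (ZMod p) V) : ∑ i ∈ Finset.range p, f ^ i = (f - 1) ^ (p - 1) := by
  have pp : p.Prime := Fact.out
  have a : ∑ i ∈ Finset.range p, (X : (ZMod p)[X]) ^ i = (X - 1) ^ (p - 1) :=
    mul_right_cancel₀ (X_sub_C_ne_zero 1) (by
      rw [C_1, geom_sum_mul, ← pow_succ, Nat.sub_add_cancel pp.pos, sub_pow_char, one_pow])
  simpa only [map_sum, map_pow, map_sub, aeval_X, map_one] using congrArg (aeval f) a

omit [Finite V] in
theorem L5.bin {f : End (ZMod p) V} {u : V} {D : ℕ} (h : (f ^ D) u = 0) (m : ℕ) :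
    ((f + 1) ^ m) u = ∑ i ∈ Finset.range D, (m.choose i : ZMod p) • (f ^ i) u := by
  have a : ∀ i, D ≤ i → (f ^ i) u = 0 := fun i hi => by
    obtain ⟨j, rfl⟩ := Nat.exists_eq_add_of_le' hi
    rw [pow_add, End.mul_apply, h, map_zero]
  rw [(Commute.one_right f).add_pow, LinearMap.sum_apply,
    Finset.sum_subset (Finset.range_mono (Nat.le_add_right _ D)) fun i _ hi => by
      rw [Nat.choose_eq_zero_of_lt (by simpa using hi)]; simp,
    Finset.sum_subset (Finset.range_mono (Nat.le_add_left D (m + 1))) fun i _ hi => by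
      rw [a i (by simpa using hi), smul_zero]]
  simp [Nat.cast_smul_eq_nsmul]

theorem L5.sum {β i : ℕ} (h : β + i < p - 1) : ∑ t : ZMod p, t ^ β * ((-t).val.choose i : ZMod p) = 0 := by
  have pp : p.Prime := Fact.out
  have f0 : ((i.factorial : ℕ) : ZMod p) ≠ 0 := fun e => by
    have := pp.dvd_factorial.1 ((CharP.cast_eq_zero_iff (ZMod p) p _).1 e)
    omega
  have dg : ((descPochhammer (ZMod p) i).comp (-X)).natDegree < i + 1 := by
    rw [natDegree_comp, descPochhammer_natDegree]; simp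
  refine (mul_eq_zero.1 ?_).resolve_left f0
  have : ∀ t : ZMod p, (i.factorial : ZMod p) * (t ^ β * ((-t).val.choose i : ZMod p)) =
      ∑ j ∈ Finset.range (i + 1), ((descPochhammer (ZMod p) i).comp (-X)).coeff j * t ^ (β + j) := fun t => by
    rw [mul_left_comm, ← Nat.cast_mul, ← Nat.descFactorial_eq_factorial_mul_choose,
      ← descPochhammer_eval_eq_descFactorial, ZMod.natCast_zmod_val,
      show eval (-t) (descPochhammer (ZMod p) i) = eval t ((descPochhammer (ZMod p) i).comp (-X)) by simp [eval_comp],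
      eval_eq_sum_range' dg, Finset.mul_sum]
    exact Finset.sum_congr rfl fun j _ => by ring
  rw [Finset.mul_sum, Finset.sum_congr rfl fun t _ => this t, Finset.sum_comm]
  refine Finset.sum_eq_zero fun j hj => ?_
  rw [← Finset.mul_sum, FiniteField.sum_pow_lt_card_sub_one _ _ (by
    rw [ZMod.card]; have := Finset.mem_range.1 hj; omega), mul_zero]

theorem L5.eig (prim : ∀ c, c ∈ zpowers l) {f : End (ZMod p) V} (r1 : f ^ (p - 1) = 1) {U : Submodule (ZMod p) V}
    (hU : ∀ u ∈ U, f u ∈ U) (h0 : U ≠ ⊥) : ∃ v ∈ U, v ≠ 0 ∧ ∃ c : ZMod p, f v = c • v := by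
  have pp : p.Prime := Fact.out
  have := pp.two_le
  have := Module.Finite.of_finite (R := ZMod p) (M := V)
  have := Submodule.nontrivial_iff_ne_bot.2 h0
  have pr : IsPrimitiveRoot (l : ZMod p) (p - 1) :=
    IsPrimitiveRoot.coe_units_iff.2 (L4.prim prim ▸ IsPrimitiveRoot.orderOf l)
  have dv : minpoly (ZMod p) (f.restrict hU) ∣ X ^ (p - 1) - 1 := minpoly.dvd _ _ (by
    simp only [map_sub, map_pow, aeval_X, map_one]
    rw [Module.End.pow_restrict, sub_eq_zero]
    ext u
    simp [r1])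
  obtain ⟨c, hc⟩ := ((X_pow_sub_one_splits pr).of_dvd (X_pow_sub_C_ne_zero (by omega) 1) dv).exists_eval_eq_zero
    (minpoly.degree_pos (Algebra.IsIntegral.isIntegral _)).ne'
  obtain ⟨v, hv⟩ := (End.hasEigenvalue_of_isRoot hc).exists_hasEigenvector
  exact ⟨v, v.2, fun h => hv.2 (Subtype.ext h), c, congrArg Subtype.val hv.apply_eq_smul⟩

theorem st (hp : p ≠ 2) (prim : ∀ c, c ∈ zpowers l) (zp : (z.val - 1) ^ (p - 1) = 0) (r1 : h ^ (p - 1) = 1)
    (r2 : ∀ n : ℤ, (n : ZMod p) = (l : ZMod p) ^ 2 → h * z * h⁻¹ = z ^ n) (r3 : h * w * h * w⁻¹ = 1)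
    (r4 : ∀ (j : ℕ) (n n' : ℤ), (n : ZMod p) = -(l : ZMod p) ^ j → (n' : ZMod p) = ((l⁻¹ : (ZMod p)ˣ) : ZMod p) ^ j →
      z ^ n * w = w * z ^ n' * w⁻¹ * h ^ j * z ^ n')
    (inj : ∀ v, h.val v = ((l⁻¹ : (ZMod p)ˣ) : ZMod p) • v → v = 0) : h ^ ((p - 1) / 2) = 1 := by
  have pp : p.Prime := Fact.out
  have po := pp.eq_two_or_odd
  have p2 := pp.two_le
  obtain ⟨n, hn⟩ : ∃ n : ℕ, (n : ZMod p) = (l : ZMod p) ^ 2 := ⟨_, ZMod.natCast_zmod_val _⟩
  have hz : h * z * h⁻¹ = z ^ n := by rw [r2 n (by simpa using hn), zpow_natCast]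
  have gz : ∑ i ∈ Finset.range p, z.val ^ i = 0 := by rw [L5.geom, zp]
  have z1 : z ^ p = 1 := Units.ext (by
    have := geom_sum_mul z.val p
    rw [gz, zero_mul] at this
    exact (sub_eq_zero.1 this.symm))
  have hj : ∀ j : ℕ, h ^ j * z * (h ^ j)⁻¹ = z ^ n ^ j := fun j => by
    induction j with
    | zero => simp
    | succ j ih => rw [pow_succ n, pow_mul, ← ih, conj_pow, ← hz]; group
  obtain ⟨m, hm⟩ : ∃ m, p - 1 = 2 * m := ⟨(p - 1) / 2, by omega⟩
  have hf := L4.half hp prim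
  rw [show (p - 1) / 2 = m by omega] at hf ⊢
  have tz : Commute (h ^ m).val (z.val - 1) := by
    have := hj m
    rw [pow_eq_pow_of_modEq (b := 1) ((ZMod.natCast_eq_natCast_iff _ _ _).1 (by
      rw [Nat.cast_pow, hn, ← pow_mul, ← hm, ZMod.pow_card_sub_one_eq_one l.ne_zero, Nat.cast_one])) z1,
      pow_one, mul_inv_eq_iff_eq_mul] at this
    exact (Commute.sub_right (congrArg Units.val this) (Commute.one_right _))
  have t2 : ∀ u, (h ^ m).val ((h ^ m).val u) = u := fun u => by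
    rw [← End.mul_apply, ← Units.val_mul, ← pow_add, ← two_mul, ← hm, r1]; rfl
  by_contra t1
  obtain ⟨v, ⟨v1, v2⟩, v0, c, hc⟩ := L5.eig prim (f := (h⁻¹).val)
    (by rw [← Units.val_pow_eq_pow_val, inv_pow, r1]; rfl)
    (U := LinearMap.ker ((h ^ m).val + 1) ⊓ LinearMap.ker (z.val - 1)) (fun u ⟨a, b⟩ => by
      have a' : (h ^ m).val u = -u := eq_neg_of_add_eq_zero_left a
      have b' : z • u = u := sub_eq_zero.1 b
      have c : (z ^ n).val u = u := pow_mem (S := MulAction.stabilizer _ u) b' n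
      refine ⟨add_eq_zero_iff_eq_neg.2 ?_, sub_eq_zero.2 ?_⟩
      · rw [← End.mul_apply, ← Units.val_mul, show h ^ m * h⁻¹ = h⁻¹ * h ^ m by group, Units.val_mul,
          End.mul_apply, a', map_neg]; rfl
      · rw [← End.mul_apply, ← Units.val_mul, show z * h⁻¹ = h⁻¹ * z ^ n by rw [← hz]; group, Units.val_mul,
          End.mul_apply, c]; rfl) (by
      obtain ⟨u, hu⟩ : ∃ u, (h ^ m).val u - u ≠ 0 := by
        by_contra! c
        exact t1 (Units.ext (LinearMap.ext fun u => sub_eq_zero.1 (c u)))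
      have ex : ∃ i : ℕ, ((z.val - 1) ^ i) ((h ^ m).val u - u) = 0 := ⟨_, by rw [zp]; rfl⟩
      classical
      obtain ⟨i, hi⟩ : ∃ i, Nat.find ex = i + 1 := Nat.exists_eq_succ_of_ne_zero fun e => hu (by
        have := Nat.find_spec ex
        rwa [e] at this)
      refine (Submodule.ne_bot_iff _).2 ⟨_, ⟨?_, ?_⟩, Nat.find_min ex (m := i) (by omega)⟩
      · change (h ^ m).val _ + _ = 0
        rw [← End.mul_apply, (tz.pow_right i).eq, End.mul_apply, End.one_apply, ← map_add, map_sub, t2]; simp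
      · have := Nat.find_spec ex
        rwa [hi, pow_succ'] at this)
  replace v1 : (h ^ m).val v = -v := eq_neg_of_add_eq_zero_left v1
  replace v2 : z • v = v := sub_eq_zero.1 v2
  have c0 : c ≠ 0 := fun e => v0 (by
    rw [← End.one_apply (R := ZMod p) v, ← h.mul_inv, End.mul_apply, hc, e]; simp)
  obtain ⟨α, a1, a2⟩ := Finset.mem_image.1 (mem_zpowers_iff_mem_range_orderOf.1 (prim (Units.mk0 c c0)⁻¹))
  rw [L4.prim prim, Finset.mem_range] at a1
  replace a2 : (l : ZMod p) ^ α * c = 1 := by rw [← Units.val_pow_eq_pow_val, a2]; simp [c0]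
  have hv : ∀ j : ℕ, (h ^ j).val v = ((l : ZMod p) ^ j) ^ α • v := fun j => by
    induction j with
    | zero => simp
    | succ j ih =>
      have : h.val v = (l : ZMod p) ^ α • v := by
        rw [← End.one_apply (R := ZMod p) ((l : ZMod p) ^ α • v), ← h.mul_inv, End.mul_apply, map_smul, hc,
          smul_smul, a2, one_smul]
      rw [pow_succ, Units.val_mul, End.mul_apply, this, map_smul, ih, smul_smul, pow_succ', mul_pow]
  obtain ⟨j, rfl⟩ : Odd α := Nat.not_even_iff_odd.1 fun e => v0 (by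
    have := hv m
    rw [v1, ← Units.val_pow_eq_pow_val, hf, Units.val_neg, e.neg_pow, Units.val_one, one_pow, one_smul,
      neg_eq_iff_add_eq_zero, ← two_smul (ZMod p), smul_eq_zero] at this
    exact this.resolve_left (L5.two hp))
  have hw : h.val (w.val v) = c • w.val v := by
    rw [← End.mul_apply, ← Units.val_mul, show h * w = w * h⁻¹ by rw [← one_mul (w * h⁻¹), ← r3]; group,
      Units.val_mul, End.mul_apply, hc, map_smul]
  obtain ⟨R, hR⟩ : X ∣ ((X + 1) ^ n - 1 : (ZMod p)[X]) := X_dvd_iff.2 (by simp [coeff_X_add_one_pow])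
  have R0 : R.coeff 0 = (l : ZMod p) ^ 2 := by
    rw [← coeff_X_mul, ← hR, coeff_sub, coeff_X_add_one_pow, coeff_one]; simp [hn]
  let ev : (ZMod p)[X] →ₗ[ZMod p] V := LinearMap.applyₗ (w.val v) ∘ₗ (aeval (z.val - 1)).toLinearMap
  have hev : ∀ P, h.val (ev P) = c • ev (P.comp (X * R)) := fun P => by
    change (h.val * aeval (z.val - 1) P) (w.val v) = c • aeval (z.val - 1) (P.comp (X * R)) (w.val v)
    rw [aeval_comp, ← hR, Q1.cj (g := aeval (z.val - 1) ((X + 1) ^ n - 1 : (ZMod p)[X])), End.mul_apply, hw,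
      map_smul]
    simp only [map_sub, map_pow, map_add, aeval_X, map_one, sub_add_cancel, mul_sub, sub_mul, mul_one, one_mul]
    rw [← Units.val_pow_eq_pow_val, ← hz, ← Units.val_mul, ← Units.val_mul, inv_mul_cancel_right]
  let f := h.val - ((l⁻¹ : (ZMod p)ˣ) : ZMod p) • 1
  have fi : Function.Injective f := (injective_iff_map_eq_zero f).2 fun u e => inj u (sub_eq_zero.1 e)
  let U := LinearMap.range (ev ∘ₗ LinearMap.mulLeft (ZMod p) (X ^ (j + 1)))
  have fe : ∀ P, f (ev P) = ev (C c * P.comp (X * R) - C ((l⁻¹ : (ZMod p)ˣ) : ZMod p) * P) := fun P => by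
    rw [map_sub, C_mul', C_mul', map_smul, map_smul, ← hev]; rfl
  have fU : ∀ u ∈ U, f u ∈ U := by
    rintro _ ⟨q, rfl⟩
    refine ⟨C c * R ^ (j + 1) * q.comp (X * R) - C ((l⁻¹ : (ZMod p)ˣ) : ZMod p) * q, (congrArg ev ?_).trans (fe _).symm⟩
    simp only [LinearMap.mulLeft_apply, mul_comp, pow_comp, X_comp]; ring
  obtain ⟨S, hS⟩ : X ∣ C c * R ^ j - C ((l⁻¹ : (ZMod p)ˣ) : ZMod p) := X_dvd_iff.2 (by
    rw [coeff_sub, mul_coeff_zero, coeff_C_zero, coeff_C_zero, coeff_zero_eq_eval_zero, eval_pow,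
      ← coeff_zero_eq_eval_zero, R0, sub_eq_zero, Units.val_inv_eq_inv_val]
    exact eq_inv_of_mul_eq_one_left (by rw [← a2]; ring))
  obtain ⟨⟨_, q, rfl⟩, hq⟩ := Finite.injective_iff_surjective.1
    (show Function.Injective (f.restrict fU) from fun a b e => Subtype.ext (fi (congrArg Subtype.val e)))
    ⟨f (ev (X ^ j)), S, (congrArg ev (by
      simp only [LinearMap.mulLeft_apply, pow_comp, X_comp]; linear_combination (-X ^ j) * hS)).trans (fe _).symm⟩
  replace hq : ev (X ^ (j + 1) * q) = ev (X ^ j) := fi (congrArg Subtype.val hq)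
  have e0 : ((z.val - 1) ^ j) (w.val v) = 0 := by
    have a : ∀ P Q, ev (P * Q) = aeval (z.val - 1) P (ev Q) := fun P Q => by simp [ev]
    have b : ∀ i : ℕ, ev (X ^ j) = ev (q ^ i * X ^ j * X ^ i) := fun i => by
      induction i with
      | zero => simp
      | succ i ih =>
        rw [show q ^ (i + 1) * X ^ j * X ^ (i + 1) = q ^ i * X ^ i * (X ^ (j + 1) * q) by ring, a, hq, ← a, ih]
        congr 1; ring
    have := b (p - 1)
    rw [a] at this
    simpa [ev, zp] using this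
  have key : ∀ t : ZMod p, t ≠ 0 → t ^ (p - 1 - (2 * j + 1)) • (z.val ^ (-t).val) (w.val v) =
      w.val ((z.val ^ (t⁻¹).val) ((w⁻¹).val v)) := fun t t0 => by
    obtain ⟨i, hi⟩ := mem_powers_iff_mem_zpowers.2 (prim (Units.mk0 t t0))
    have hi' : (l : ZMod p) ^ i = t := by rw [← Units.val_pow_eq_pow_val]; exact congrArg Units.val hi
    have := r4 i (-t).val (t⁻¹).val (by rw [Int.cast_natCast, ZMod.natCast_zmod_val, hi'])
      (by rw [Int.cast_natCast, ZMod.natCast_zmod_val, Units.val_inv_eq_inv_val, inv_pow, hi'])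
    have := congrArg (fun y : (End (ZMod p) V)ˣ => y.val v) this
    simp only [zpow_natCast, Units.val_mul, End.mul_apply] at this
    rw [show (z ^ (t⁻¹).val).val v = v from pow_mem (S := MulAction.stabilizer _ v) v2 _, hv, hi', map_smul,
      map_smul, map_smul, Units.val_pow_eq_pow_val, Units.val_pow_eq_pow_val] at this
    rw [this, smul_smul, ← pow_add, Nat.sub_add_cancel a1.le, ZMod.pow_card_sub_one_eq_one t0, one_smul]
  have s1 : ∑ t : ZMod p, t ^ (p - 1 - (2 * j + 1)) • (z.val ^ (-t).val) (w.val v) = 0 := by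
    rw [Finset.sum_congr rfl fun t _ => by
      rw [← sub_add_cancel z.val 1, L5.bin e0, Finset.smul_sum], Finset.sum_comm]
    refine Finset.sum_eq_zero fun i hi => ?_
    simp only [smul_smul]
    rw [← Finset.sum_smul, L5.sum (by have := Finset.mem_range.1 hi; omega), zero_smul]
  have s2 : ∑ t : ZMod p, w.val ((z.val ^ (t⁻¹).val) ((w⁻¹).val v)) = 0 := by
    rw [← map_sum, ← LinearMap.sum_apply, Fintype.sum_bijective _ inv_involutive.bijective _
      (fun t : ZMod p => z.val ^ t.val) fun _ => rfl, L5.rng fun i => z.val ^ i, gz]; simp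
  have := congrArg₂ (· - ·) s2 s1
  simp only [← Finset.sum_sub_distrib] at this
  rw [Finset.sum_eq_single 0 (fun t _ t0 => by rw [key t t0, sub_self]) (by simp),
    zero_pow (by omega)] at this
  exact v0 (by simpa [← End.mul_apply] using this)

end CF.Mh
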