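import Cfsg.Agent.Mh.L5
import Cfsg.Agent.Mh.L3
import Cfsg.Agent.Invol.BaerSuzuki

/-! A homology of order `p - 1` normalizes a Sylow subgroup. -/

set_option autoImplicit false

namespace CF.Mh

open Subgroup CF.Fus CF.FusC CF.Mg Module

variable {p d : ℕ} [Fact p.Prime] {V : Type*} [AddCommGroup V] [Module (ZMod p) V] [Finite V]
  {F : ℕ → Submodule (ZMod p) V} {l : (ZMod p)ˣ} {Q : Type*} [Group Q] [Finite Q] {X : Subgroup Q} {s g : Q}

theorem SG.cauchy (h : SG p X s) {y : Q} (hy : y ∈ X) (o : orderOf y = p) : ∃ γ ∈ X, γ⁻¹ * s * γ ∈ zpowers y := by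
  have pp : p.Prime := Fact.out
  obtain ⟨γ, a, b⟩ := h.syl.exists_conj_elt hy (k := 1) (by rw [pow_one, ← o, pow_orderOf_eq_one])
  obtain ⟨n, hn⟩ := mem_powers_of_prime_card (G := zpowers s) (p := p)
    (by rw [Nat.card_zpowers, orderOf_eq_prime h.pw h.ne]) (g := ⟨_, b⟩) (g' := ⟨s, mem_zpowers s⟩) (fun e => by
      rw [conj_eq_one_iff.1 (congrArg Subtype.val e), orderOf_one] at o
      exact pp.ne_one o.symm)
  have : (γ * y * γ⁻¹) ^ n = s := congrArg Subtype.val hn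
  exact ⟨γ, a, n, by rw [← this, conj_pow]; simp [mul_assoc]⟩

theorem SG.cauchy' (h : SG p X s) {R : Subgroup Q} (hR : R ≤ X) (o : p ∣ Nat.card R) :
    ∃ γ ∈ X, γ⁻¹ * s * γ ∈ R := by
  obtain ⟨y, hy⟩ := exists_prime_orderOf_dvd_card' p o
  obtain ⟨γ, a, b⟩ := h.cauchy (hR y.2) (by rwa [orderOf_coe])
  exact ⟨γ, a, zpowers_le.2 y.2 b⟩

theorem SG.dih (h : SG p X s) (hp : p ≠ 2) {τ : Q} (hτ : τ ∈ X) (t1 : τ ≠ 1) (t2 : τ * τ = 1) :
    ∃ k ∈ X, ∃ r, r.Prime ∧ Odd r ∧ orderOf k = r ∧ τ * k * τ⁻¹ = k⁻¹ := by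
  have pp : p.Prime := Fact.out
  by_contra! c
  have := CF.Invol.baer_suzuki_elem (p := 2) (x := (⟨τ, hτ⟩ : X)) fun x => by
    let k : X := ⟨τ, hτ⟩ * (x * ⟨τ, hτ⟩ * x⁻¹)
    have t3 : (⟨τ, hτ⟩ : X) * ⟨τ, hτ⟩ = 1 := Subtype.ext t2
    have ik : (⟨τ, hτ⟩ : X) * k * (⟨τ, hτ⟩ : X)⁻¹ = k⁻¹ := by
      simp only [k, mul_inv_rev, inv_inv, inv_eq_of_mul_eq_one_right t3, ← mul_assoc, t3, one_mul]
    obtain ⟨a, n, on, e⟩ := Nat.exists_eq_two_pow_mul_odd (orderOf_pos k).ne'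
    obtain rfl : n = 1 := by
      by_contra n1
      have d1 : n.minFac ∣ orderOf k := e ▸ (n.minFac_dvd).mul_left _
      refine c (k ^ (orderOf k / n.minFac) : X) (Subtype.property _) _ (Nat.minFac_prime n1)
        (on.of_dvd_nat n.minFac_dvd) (by rw [orderOf_coe, orderOf_pow_orderOf_div (orderOf_pos k).ne' d1]) ?_
      have := congrArg (fun y : X => ((y ^ (orderOf k / n.minFac) : X) : Q)) ik
      simp only [conj_pow, inv_pow] at this
      exact this
    refine (isPGroup_sup_of_norm (isPGroup_zpowers (k := 1) (x := (⟨τ, hτ⟩ : X)) (by simpa [sq] using t3))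
      (isPGroup_zpowers (k := a) (x := k) (by rw [← mul_one (2 ^ a), ← e, pow_orderOf_eq_one]))
      (zpowers_le.2 (norm_of_Cj_le (img_le_iff.2 ?_)))).to_le ((closure_le _).2 ?_)
    · rintro _ ⟨n, rfl⟩
      exact ⟨-n, by simp only [cj_apply, ← conj_zpow, ik, inv_zpow']⟩
    · rintro _ (rfl | rfl)
      · exact mem_sup_left (mem_zpowers _)
      · have := mul_mem (mem_sup_left (T := zpowers k) (mem_zpowers (⟨τ, hτ⟩ : X))) (mem_sup_right (mem_zpowers k))
        rwa [← mul_assoc, t3, one_mul] at this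
  have b := h.fb ((normalClosure {(⟨τ, hτ⟩ : X)}).map X.subtype) (map_subtype_le _) (fun d => by
    obtain ⟨n, hn⟩ := IsPGroup.iff_card.1 (this.map X.subtype)
    exact hp ((Nat.prime_dvd_prime_iff_eq pp Nat.prime_two).1 (pp.dvd_of_dvd_pow (hn ▸ d))))
    (norm_of_Cj_le (img_le_iff.2 (by
      rintro _ ⟨y, hy, rfl⟩
      exact ⟨_, normalClosure_normal.conj_mem y hy ⟨s, h.mem⟩, rfl⟩)))
  exact t1 (mem_bot.1 (b ▸ ⟨_, subset_normalClosure rfl, rfl⟩))

theorem SG.hm (h : SG p X s) (hp : 5 ≤ p)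
    {σ : Q → (End (ZMod p) V)ˣ} (hσ : MulOn σ X) (fg : Fg d F) (rg : Rg d F ((σ s).val - 1)) (d1 : 1 ≤ d)
    (hg : g ∈ X) (prim : ∀ c, c ∈ zpowers l) (q : ((σ g).val - (l : ZMod p) • 1) * ((σ g).val - 1) = 0)
    (nf : ∀ γ ∈ X, ∀ u ∈ F (d - 1), u ≠ 0 → (σ g).val ((σ γ).val u) ≠ (σ γ).val u) :
    ∃ γ ∈ X, γ⁻¹ * g * γ ∈ Nm (zpowers s) := by
  classical
  have pp : p.Prime := Fact.out
  obtain ⟨d, rfl⟩ : ∃ j, d = j + 1 := ⟨d - 1, by omega⟩
  simp only [Nat.add_sub_cancel] at nf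
  obtain ⟨u, u1, u0, u2⟩ := fg.st d d.lt_succ_self
  simp only [fg.bot, Submodule.mem_bot, sub_eq_zero] at u0 u2
  have ap : ∀ {a b}, a ∈ X → b ∈ X → ∀ v, (σ (a * b)).val v = (σ a).val ((σ b).val v) := fun ha hb v => by
    rw [hσ ha hb]; rfl
  have a1 : ∀ v, (σ 1).val v = v := fun v => by rw [hσ.map_one]; rfl
  have ai : ∀ {a}, a ∈ X → ∀ v, (σ a⁻¹).val ((σ a).val v) = v := fun ha v => by
    rw [← ap (inv_mem ha) ha, inv_mul_cancel, a1]
  have ai' : ∀ {a}, a ∈ X → ∀ v, (σ a).val ((σ a⁻¹).val v) = v := fun ha v => by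
    rw [← ap ha (inv_mem ha), mul_inv_cancel, a1]
  have su : (σ s).val u = u := sub_eq_zero.1 (fg.eq0 (Dg.app rg.dg u1) le_rfl)
  suffices ∃ γ ∈ X, ∃ c : ZMod p, (σ g).val ((σ γ).val u) = c • (σ γ).val u by
    obtain ⟨γ, hγ, c, e⟩ := this
    let H : Subgroup Q :=
      { carrier := {x | x ∈ X ∧ ∃ c : (ZMod p)ˣ, (σ x).val u = (c : ZMod p) • u}
        one_mem' := ⟨one_mem _, 1, by simp [a1]⟩
        mul_mem' := fun ⟨a, c, e⟩ ⟨b, c', e'⟩ => ⟨mul_mem a b, c * c', by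
          rw [ap a b, e', map_smul, e, smul_smul, mul_comm, Units.val_mul]⟩
        inv_mem' := fun ⟨a, c, e⟩ => ⟨inv_mem a, c⁻¹, by
          rw [← ai a ((c⁻¹ : (ZMod p)ˣ).val • u), map_smul, e, smul_smul, Units.inv_mul, one_smul]⟩ }
    let χ : Q → (ZMod p)ˣ := fun x => if h : ∃ c : (ZMod p)ˣ, (σ x).val u = (c : ZMod p) • u then h.choose else 1
    have hχ : ∀ {x} {c : (ZMod p)ˣ}, (σ x).val u = (c : ZMod p) • u → χ x = c := fun {x c} e => by
      have h : ∃ c : (ZMod p)ˣ, (σ x).val u = (c : ZMod p) • u := ⟨c, e⟩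
      rw [show χ x = h.choose from dif_pos h]
      exact Units.ext (smul_left_injective _ u0 (h.choose_spec.symm.trans e))
    have mχ : MulOn χ H := fun a ⟨ha, c, e⟩ b ⟨hb, c', e'⟩ => by
      rw [hχ e, hχ e', hχ (c := c * c') (by rw [ap ha hb, e', map_smul, e, smul_smul, mul_comm, Units.val_mul])]
    have n0 : (σ γ).val u ≠ 0 := fun z => u0 (by rw [← ai hγ u, z, map_zero])
    obtain rfl : c = l := by
      have := DFunLike.congr_fun q ((σ γ).val u)
      simp only [End.mul_apply, LinearMap.sub_apply, End.one_apply, LinearMap.smul_apply, map_sub, map_smul, e,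
        LinearMap.zero_apply] at this
      have : ((c - l) * (c - 1)) • (σ γ).val u = 0 := by rw [← this]; module
      refine sub_eq_zero.1 ((mul_eq_zero.1 ((smul_eq_zero.1 this).resolve_right n0)).resolve_right fun c1 => ?_)
      exact nf γ hγ u u1 u0 (by rw [e, sub_eq_zero.1 c1, one_smul])
    have e' : (σ (γ⁻¹ * g * γ)).val u = (l : ZMod p) • u := by
      rw [ap (mul_mem (inv_mem hγ) hg) hγ, ap (inv_mem hγ) hg, e, map_smul, ai hγ]
    have m : γ⁻¹ * g * γ ∈ H := ⟨mul_mem (mul_mem (inv_mem hγ) hg) hγ, l, e'⟩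
    refine ⟨γ, hγ, h.bn (H := H) (fun _ a => a.1) ⟨h.mem, 1, by simp [su]⟩ mχ (fun c => ?_) m⟩
    obtain ⟨n, rfl⟩ := prim c
    exact ⟨_, zpow_mem m n, by rw [mχ.map_zpow m, hχ e']⟩
  by_cases g0 : (σ g).val u ∈ F d
  · exact ⟨1, one_mem _, by simpa only [a1] using u2 _ g0⟩
  have d0 : 1 < d + 1 := by
    rcases d with _ | d
    exacts [(g0 (fg.mem0 _)).elim, by omega]
  have inj : ∀ {x}, x ∈ X → σ x = 1 → x = 1 := fun hx e => by
    have n : X ≤ Nm (pre σ X ⊥) := fun y hy => norm_of_Cj_le (img_le_iff.2 fun x hx => by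
      rw [hσ.mem_pre, mem_bot] at hx ⊢
      rw [cj_apply, hσ.map_conj hy hx.1, hx.2]
      exact ⟨mul_mem (mul_mem hy hx.1) (inv_mem hy), by simp⟩)
    refine mem_bot.1 (h.fb _ pre_le (fun c => ?_) (n h.mem) ▸ mem_pre_of hx e)
    obtain ⟨γ, a, b⟩ := h.cauchy' pre_le c
    have := (hσ.mem_pre.1 (conj_mem_of_norm (n a) b)).2
    rw [show γ * (γ⁻¹ * s * γ) * γ⁻¹ = s by group, mem_bot] at this
    exact rg.pow_ne fg d0 (by simp [this])
  have l1 : (l : ZMod p) - 1 ≠ 0 := fun e => by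
    have := L4.prim prim
    rw [show l = 1 from Units.ext (sub_eq_zero.1 e), orderOf_one] at this
    omega
  have h2 := L5.two (p := p) (by omega)
  have id : ∀ γ ∈ X, ∃ e : End (ZMod p) V, e * e = e ∧ (σ (γ * g * γ⁻¹)).val = 1 + ((l : ZMod p) - 1) • e ∧
      (σ (γ * g ^ ((p - 1) / 2) * γ⁻¹)).val = 1 - 2 • e := fun γ hγ => by
    have m := mul_mem (mul_mem hγ hg) (inv_mem hγ)
    have q' : ((σ (γ * g * γ⁻¹)).val - 1) * ((σ (γ * g * γ⁻¹)).val - 1) =
        ((l : ZMod p) - 1) • ((σ (γ * g * γ⁻¹)).val - 1) := LinearMap.ext fun v => by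
      have := congrArg (σ γ).val (DFunLike.congr_fun q ((σ γ⁻¹).val v))
      simp only [End.mul_apply, LinearMap.sub_apply, End.one_apply, LinearMap.smul_apply, map_sub, map_smul,
        LinearMap.zero_apply, map_zero, ai' hγ, ap (mul_mem hγ hg) (inv_mem hγ), ap hγ hg, ai hγ] at this ⊢
      linear_combination (norm := module) this
    rw [← conj_pow, hσ.map_pow m]
    generalize σ (γ * g * γ⁻¹) = y at q'
    obtain ⟨e, ee, ey⟩ : ∃ e : End (ZMod p) V, e * e = e ∧ y.val = 1 + ((l : ZMod p) - 1) • e :=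
      ⟨((l : ZMod p) - 1)⁻¹ • (y.val - 1), by
        rw [smul_mul_assoc, mul_smul_comm, q', inv_smul_smul₀ l1], by rw [smul_inv_smul₀ l1]; simp⟩
    have pw : ∀ n : ℕ, (y ^ n).val = 1 + ((l : ZMod p) ^ n - 1) • e := fun n => by
      induction n with
      | zero => simp
      | succ n ih =>
        rw [pow_succ, Units.val_mul, ih, ey]
        simp only [add_mul, mul_add, one_mul, mul_one, smul_mul_assoc, mul_smul_comm, ee, smul_smul]
        module
    refine ⟨e, ee, ey, ?_⟩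
    rw [pw, ← Units.val_pow_eq_pow_val, L4.half (by omega) prim, Units.val_neg, Units.val_one]
    module
  have iv : ∀ {e : End (ZMod p) V}, e * e = e → (1 - 2 • e) * (1 - 2 • e) = 1 := fun ee => by
    simp only [two_smul, mul_sub, sub_mul, mul_add, add_mul, ee, one_mul, mul_one]; abel
  obtain ⟨e, ee, eg, et⟩ := id 1 (one_mem _)
  simp only [one_mul, inv_one, mul_one] at eg et
  have tX := pow_mem hg ((p - 1) / 2)
  generalize g ^ ((p - 1) / 2) = τ at id et tX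
  have e0 : e u ≠ 0 := fun z => g0 (by simpa [eg, z] using u1)
  have t2 : τ * τ = 1 := inj (mul_mem tX tX) (Units.ext (by rw [hσ tX tX, Units.val_mul, et, iv ee]; rfl))
  obtain ⟨k, kX, r, pr, or, ok, ik⟩ := h.dih (by omega) tX (fun z => e0 (by
    have := DFunLike.congr_fun et u
    rw [z, a1] at this
    rw [LinearMap.sub_apply, End.one_apply, eq_comm, sub_eq_self, two_smul, LinearMap.add_apply,
      ← two_smul (ZMod p), smul_eq_zero] at this
    exact this.resolve_left h2)) t2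
  by_cases rp : r = p
  · obtain ⟨γ, a, n, b⟩ := h.cauchy kX (ok.trans rp)
    have kn := zpow_mem kX n
    replace b : k ^ n = γ⁻¹ * s * γ := b
    have f : (σ (k ^ n)).val ((σ γ⁻¹).val u) = (σ γ⁻¹).val u := by
      rw [b, ap (mul_mem (inv_mem a) h.mem) a, ap (inv_mem a) h.mem, ai' a, su]
    obtain ⟨c, hc⟩ := u2 ((σ γ).val ((σ τ).val ((σ γ⁻¹).val u))) ((rg.ker fg (j := 1) rfl).1 (by
      rw [pow_one, LinearMap.sub_apply, End.one_apply, sub_eq_zero, ← ap h.mem a, ← ap (mul_mem h.mem a) tX,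
        show s * γ * τ = γ * τ * (k ^ n)⁻¹ by
          rw [← inv_zpow, ← ik, conj_zpow, b, inv_eq_of_mul_eq_one_right t2, ← mul_assoc, ← mul_assoc, mul_assoc γ,
            t2]; group,
        ap (mul_mem a tX) (inv_mem kn), ap a tX, ← f, ai kn, f]))
    replace hc := congrArg (σ γ⁻¹).val hc
    rw [ai a, map_smul, et] at hc
    refine ⟨_, inv_mem a, 1 + ((l : ZMod p) - 1) * ((1 - c) / 2), ?_⟩
    generalize (σ γ⁻¹).val u = v at hc
    have : e v = ((1 - c) / 2) • v := by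
      rw [div_eq_inv_mul, mul_smul, eq_inv_smul_iff₀ h2]
      simp only [LinearMap.sub_apply, End.one_apply, LinearMap.smul_apply] at hc
      linear_combination (norm := module) -hc
    simp only [eg, LinearMap.add_apply, End.one_apply, LinearMap.smul_apply, this]
    module
  obtain ⟨j, rfl⟩ := or
  have kr : k ^ (2 * j + 1) = 1 := ok ▸ pow_orderOf_eq_one k
  have yX := pow_mem kX j
  have tk : τ * (k ^ j * τ * (k ^ j)⁻¹) = k := by
    have := congrArg (· ^ j) ik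
    simp only [conj_pow] at this
    rw [inv_eq_of_mul_eq_one_right t2] at this
    rw [← mul_assoc, ← mul_assoc, this, ← mul_one (_ * _), ← kr]; group
  have hk : ∀ γ ∈ X, ∀ {e e' : End (ZMod p) V}, (σ (γ * τ * γ⁻¹)).val = 1 - 2 • e →
      (σ (γ * k ^ j * τ * (γ * k ^ j)⁻¹)).val = 1 - 2 • e' → (1 - 2 • e) * (1 - 2 • e') = (σ (γ * k * γ⁻¹)).val :=
    fun γ a e e' b c => by
      have m := mul_mem a yX
      rw [← b, ← c, ← Units.val_mul, ← hσ (mul_mem (mul_mem a tX) (inv_mem a)) (mul_mem (mul_mem m tX) (inv_mem m))]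
      conv_rhs => rw [← tk]
      congr 2; group
  have hk' : ∀ γ ∈ X, (σ (γ * k * γ⁻¹)).val ^ (2 * j + 1) = 1 := fun γ a => by
    rw [← Units.val_pow_eq_pow_val, ← hσ.map_pow (mul_mem (mul_mem a kX) (inv_mem a)), conj_pow, kr]
    simp [hσ.map_one]
  have gX := mul_mem (mul_mem yX hg) (inv_mem yX)
  have GX : zpowers g ⊔ zpowers (k ^ j * g * (k ^ j)⁻¹) ≤ X := sup_le (zpowers_le.2 hg) (zpowers_le.2 gX)
  obtain rfl : d = 1 := by
    by_cases c : p ∣ Nat.card (zpowers g ⊔ zpowers (k ^ j * g * (k ^ j)⁻¹) :)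
    · obtain ⟨γ, a, b⟩ := h.cauchy' GX c
      obtain ⟨e1, b1, b2, b3⟩ := id γ a
      obtain ⟨e2, c1, c2, c3⟩ := id _ (mul_mem a yX)
      have := idem_le_two (by omega) fg rg ?_ b1 c1 b2 c2 ((Nat.coprime_primes pr pp).2 rp)
        (by rw [hk γ a b3 c3, hk' γ a])
      · omega
      have := MulOn.maps_sup (f := fun x => σ (γ * x * γ⁻¹)) (fun x hx y hy => by
        rw [← hσ (mul_mem (mul_mem a (GX hx)) (inv_mem a)) (mul_mem (mul_mem a (GX hy)) (inv_mem a))]
        congr 1; group) (R := zpowers (σ (γ * g * γ⁻¹)) ⊔ zpowers (σ (γ * k ^ j * g * (γ * k ^ j)⁻¹))) ?_ ?_ _ b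
      · simpa [mul_assoc] using this
      · rintro _ ⟨n, rfl⟩
        exact mem_sup_left ⟨n, by simp only [← conj_zpow, hσ.map_zpow (mul_mem (mul_mem a hg) (inv_mem a))]⟩
      · rintro _ ⟨n, rfl⟩
        exact mem_sup_right ⟨n, by
          simp only [← conj_zpow, hσ.map_zpow (mul_mem (mul_mem a gX) (inv_mem a))]; simp [mul_assoc]⟩
    obtain ⟨e', c1, c2, c3⟩ := id _ yX
    have m := hσ.mono GX
    have k1 := hk 1 (one_mem _) (by simpa using et) (by simpa using c3)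
    obtain rfl := kl (H := img σ _) hp (fun z => c (z.trans (m.img_eq_range ▸ card_range_dvd _)))
      (mem_img_of_mem (mem_sup_left (mem_zpowers _))) (mem_img_of_mem (mem_sup_right (mem_zpowers _))) prim ee c1 eg c2
      ⟨j, rfl⟩ (by rw [k1, hk' 1 (one_mem _)])
    rw [iv ee, one_mul, inv_one, mul_one] at k1
    rw [inj kX (Units.ext k1.symm), orderOf_one] at ok
    exact (pr.ne_one ok.symm).elim
  have ev : (σ g).val (e u) = (l : ZMod p) • e u := by
    have : e (e u) = e u := DFunLike.congr_fun ee u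
    simp only [eg, LinearMap.add_apply, End.one_apply, LinearMap.smul_apply, this]
    module
  obtain ⟨a, ha⟩ := fg.gen (fg.mem0 _) g0 (fg.mem0 (e u))
  obtain ⟨b, hb⟩ := u2 _ ha
  obtain ⟨c, hc⟩ := u2 _ (Dg.app rg.dg (fg.mem0 ((σ g).val u)))
  have c0 : c ≠ 0 := fun z => g0 (rg.inj 0 le_rfl _ (fg.mem0 _) (by rw [hc, z, zero_smul]; exact zero_mem _))
  have a0 : a ≠ 0 := fun z => g0 (by
    rw [z, zero_smul, sub_zero] at ha
    simpa [eg] using add_mem u1 (Submodule.smul_mem _ _ ha))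
  have sw : ∀ n : ℕ, (σ (s ^ n * g)).val u = (σ g).val u + (n * c) • u := fun n => by
    induction n with
    | zero => simp
    | succ n ih =>
      rw [pow_succ', mul_assoc, ap h.mem (mul_mem (pow_mem h.mem n) hg), ih, map_add, map_smul, su,
        eq_add_of_sub_eq hc]
      push_cast; module
  refine ⟨_, mul_mem (pow_mem h.mem (b / (a * c)).val) hg, l, ?_⟩
  have : (σ (s ^ (b / (a * c)).val * g)).val u = a⁻¹ • e u := by
    rw [sw, ZMod.natCast_zmod_val, eq_add_of_sub_eq hb]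
    match_scalars <;> field_simp
  rw [this, map_smul, ev, smul_comm]

end CF.Mh
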