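import Cfsg.Agent.Mh.S
import Cfsg.Agent.Mh.C1
import Cfsg.Agent.Mg.Q1

/-! The quadratic element. -/

set_option autoImplicit false
set_option linter.unusedSectionVars false
set_option linter.unusedVariables false

namespace CF.Mh

open Cfsg Subgroup CF.Fus CF.FusC CF.Mxc CF.Mg Module
open CF.Fgs2 (MaxC)
open scoped commutatorElement

universe u

section lin
open Polynomial
variable {p d : ℕ} [Fact p.Prime] {V : Type*} [AddCommGroup V] [Module (ZMod p) V] [Finite V]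
  {F : ℕ → Submodule (ZMod p) V} {s y z : (End (ZMod p) V)ˣ}

theorem Q.sq (G : Fg d F) (dp : d ≤ p) (R : Rg d F (s.val - 1)) (y2 : y.val - 1 ∈ Dg F 2) (e : y * s * y⁻¹ = z * s)
    (yz : Commute y z) (sz : Commute s z) : (z.val - 1) * (z.val - 1) = 0 := by
  by_cases z1 : z = 1
  · simp [z1]
  have z3 : z.val - 1 ∈ Dg F 3 := by
    have := G.comm (by omega) le_rfl y2 R.dg
    rwa [e, mul_inv_cancel_right] at this
  obtain ⟨m, md, u, u0, a⟩ := R.ord (f := z.val - 1) G (((sz.symm.map (Units.coeHom _)).sub_left (.one_left _)).sub_right (.one_right _))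
    fun c => z1 (Units.ext (sub_eq_zero.1 c))
  have U1 := G.aeval_sub R.dg u
  have m3 := R.le_of_dg G md u0 U1 (a ▸ z3)
  have e1 : y.val * (s.val - 1) = (z.val * s.val - 1) * y.val := by
    rw [mul_sub, sub_mul, ← Units.val_mul z, ← e, ← Units.val_mul, ← Units.val_mul]; simp
  have e2 : y.val * (z.val - 1) = (z.val - 1) * y.val := ((yz.map (Units.coeHom _)).sub_right (.one_right _)).eq
  have s0 : s.val = s.val - 1 + 1 := (sub_add_cancel _ _).symm
  have z0 : z.val = z.val - 1 + 1 := (sub_add_cancel _ _).symm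
  generalize s.val - 1 = N at *
  generalize z.val - 1 = A at *
  have cU : Commute N (aeval N u) := by simpa using (Commute.all Polynomial.X u).map (aeval N)
  have hU := G.unit u0 U1
  have Am : A ∈ Dg F m := a ▸ Dg.mul0 (Dg.pow1 R.dg m) (G.dg0 U1)
  have N0 := G.mono R.dg (Nat.zero_le 1)
  have dm : d ≤ 2 * m - 1 := not_lt.1 fun c => by
    obtain ⟨n, rfl⟩ : ∃ n, m = n + 1 := ⟨m - 1, by omega⟩
    have f1 : z.val * s.val - 1 = N * (1 + N ^ n * aeval N u * (N + 1)) := by rw [z0, s0, a, pow_succ']; noncomm_ring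
    have f2 : z.val * s.val - 1 - N ∈ Dg F (n + 1) := by
      rw [show z.val * s.val - 1 - N = A * (N + 1) by rw [z0, s0]; noncomm_ring]
      exact Dg.mul0 Am (add_mem N0 Dg.one)
    have M0 : z.val * s.val - 1 ∈ Dg F 0 := by simpa using add_mem (G.mono f2 (Nat.zero_le _)) N0
    have f3 := Q1.cj e1 (Polynomial.X ^ (n + 1) * u)
    simp only [map_mul, map_pow, aeval_X] at f3
    rw [← a, e2, y.isUnit.mul_left_inj] at f3
    have f4 := Q1.sub M0 N0 f2 u
    generalize aeval (z.val * s.val - 1) u = W at f3 f4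
    have E : N ^ n * aeval N u * (N + 1) ∈ Dg F n := Dg.mul0 (Dg.mul0 (Dg.pow1 R.dg n) (G.dg0 U1)) (add_mem N0 Dg.one)
    rw [f1, ((Commute.one_right N).add_right ((((Commute.refl N).pow_right n).mul_right cU).mul_right
      ((Commute.refl N).add_right (.one_right N)))).mul_pow] at f3
    have W1 : W - u.coeff 0 • 1 ∈ Dg F 1 := by simpa using add_mem (G.mono f4 (show 1 ≤ n + 1 by omega)) U1
    have k := R.le_of_dg G (m := n + 1 + n) (n := n + 1 + (n + 1)) (c := ((n + 1 : ℕ) : ZMod p) * u.coeff 0 * u.coeff 0)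
      (f := ((n + 1 : ℕ) : ZMod p) • (aeval N u * (N + 1) * W)) (by omega) (mul_ne_zero (mul_ne_zero (fun c => by
        have := Nat.le_of_dvd (by omega) ((ZMod.natCast_eq_zero_iff _ _).1 c)
        omega) u0) u0) ?_ ?_
    · omega
    · rw [mul_assoc ((n + 1 : ℕ) : ZMod p), mul_smul, ← smul_sub]
      refine Submodule.smul_mem _ _ ?_
      rw [show aeval N u * (N + 1) * W - (u.coeff 0 * u.coeff 0) • 1 = (aeval N u - u.coeff 0 • 1) * W + aeval N u * N * W +
        u.coeff 0 • (W - u.coeff 0 • 1) by simp only [mul_add, add_mul, sub_mul, smul_sub, smul_mul_assoc, mul_one, one_mul, mul_smul]; abel]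
      exact add_mem (add_mem (Dg.mul0 U1 (G.dg0 W1)) (Dg.mul0 (Dg.mul0' (G.dg0 U1) R.dg) (G.dg0 W1))) (Submodule.smul_mem _ _ W1)
    have b := Dg.mul0 (Dg.mul (Dg.pow1 R.dg (n + 1)) (Q1.bin G E (n + 1))) (G.dg0 W1)
    have := neg_mem (add_mem (G.mono b (show n + 1 + (n + 1) ≤ _ by omega)) (Dg.mul (Dg.pow1 R.dg (n + 1)) f4))
    rw [mul_sub, mul_sub, sub_mul, sub_mul, ← f3, mul_sub, ← a] at this
    convert this using 1
    simp only [pow_add N (n + 1) n, mul_smul_comm, smul_mul_assoc, mul_assoc, mul_one]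
    abel
  exact G.zero (Dg.mul Am Am) (by omega)
end lin

variable {G : Type u} [Group G] {p t i j k : ℕ} {E S Γ : Subgroup G} {L K M : ℕ → Subgroup G} {x y z : G}
  [Fact p.Prime] [Finite G]

theorem MZ1.le_of (m : MZ1 p t S L K M) (h : M j ≤ M k) (hj : j ≤ t + 3) : k ≤ j := not_lt.1 fun c =>
  let ⟨_, a, b⟩ := exists_of_prime (m.midx hj); b (m.manti c (h a))

theorem MZ1.exS (m : MZ1 p t S L K M) : ∃ s ∈ S, s ∉ K 1 := m.m0 ▸ exists_of_prime m.i0

theorem DD.zd (d : DD p t S L K M E Γ) : ∃ i z, ZD p t S M E i z := by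
  classical
  have m := d.m
  have zE : M (t + 3) ≤ E := d.zY.trans Yo_le
  have ex : ∃ i, M i ≤ E := ⟨_, zE⟩
  have it : Nat.find ex ≤ t + 3 := Nat.find_min' ex zE
  have le := Nat.find_spec ex
  have mn := @Nat.find_min _ _ ex
  generalize Nat.find ex = i at it le mn
  obtain ⟨s, hs, hs'⟩ := m.exS
  have i2 : 2 ≤ i := by
    rcases i with _ | _ | i
    · exact (d.lt.not_ge le).elim
    · rcases eq_or_eq_of_prime (m.midx (j := 0) (by omega)) le d.lt.le with a | a
      · exact (hs' (m.m0.le (d.nN ⟨hs, a ▸ m.nm' hs⟩))).elim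
      · exact (d.lt.ne a).elim
    · omega
  obtain ⟨y1, y1a, y1b⟩ := exists_of_prime (m.midx (j := i - 2) (by omega))
  have z1 : ⁅y1, s⁆ ∈ M (i - 1) := m.manti (by omega) (m.ms1 y1a hs)
  have z2 : ⁅y1, s⁆ ∉ M (i - 1 + 1) := fun c => m.msn (by omega) y1a y1b hs hs' (m.manti (by omega) c)
  have cz : ∀ x ∈ E, ⁅x, ⁅y1, s⁆⁆ ∈ M i := fun x hx => m.cw (d.lt.le hx) z1 (by omega)
  refine ⟨i, ⁅y1, s⁆, i2, it, le, z1, fun c => mn (show i - 1 < i by omega) (m.gen z1 z2 ▸ sup_le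
    ((m.manti (by omega)).trans le) (zpowers_le.2 c)), ⟨m.mle z1, nm_elt fun x hx => le (cz x hx)⟩, fun y hy => ?_⟩
  have yc : y ∈ Cn (M i) := centralizer_le le hy.2.1
  by_cases ne : K (t + 2) = K 1
  swap
  · have : y ∈ M (t + 3 - i) := by_contra fun c => by
      obtain ⟨r, -, r1, -, r2, r3⟩ := m.mlev (d.lt.le hy.1) c
      obtain ⟨x, x1, x2⟩ := exists_of_prime (m.midx (j := t + 2 - r) (by omega))
      exact m.ce ne (by omega) x1 x2 r2 r3 (mem_Cn_comm.1 yc x (m.manti (by omega) x1))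
    exact commutatorElement_eq_one_iff_commute.2
      (commute_of_Cn (m.cZ' (m.mle z1)) (m.cw z1 this (by omega))).symm
  obtain ⟨k, kt, hk⟩ := m.inv (W := M 0 ⊓ Cn (M i)) inf_le_left
    (le_inf (m.manti (Nat.zero_le _)) (Cn_symm (m.mle.trans m.cZ'))) hs hs'
    (norm_inf (m.nm' hs) (norm_Cn (m.nm' hs)))
  have kc : M k ≤ Cn (M i) := hk ▸ inf_le_right
  rcases lt_or_ge k i with ki | ki
  · exact commutatorElement_eq_one_iff_commute.2
      (commute_of_Cn (kc (m.manti (by omega) z1)) (comm_symm (cz y hy.1))).symm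
  have yk : y ∈ M k := hk.le ⟨d.lt.le hy.1, yc⟩
  obtain ⟨l, lt, hl⟩ := m.inv (W := Yo p (M k)) (Yo_le.trans (m.manti (Nat.zero_le _)))
    (fun u hu => ⟨m.manti kt hu, Cn_symm (m.mle.trans m.cZ') hu, m.zp hu⟩) hs hs' (norm_Yo (m.nm' hs))
  have yl : y ∈ M l := hl.le ⟨yk, centralizer_le (m.manti ki) yc, hy.2.2⟩
  have dp : t + 4 - l ≤ p := by
    rcases le_or_gt p (t + 3) with a | a
    · have := m.le_of (j := l) (k := t + 5 - p) (fun u hu =>
        m.pw1 a (m.manti (Nat.zero_le _) hu) (hl.ge hu).2.2) lt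
      omega
    · omega
  obtain ⟨V, _, _, _, φ, ρ, σ⟩ := exists_Sec (p := p) (A := M l) (B := M (t + 4)) (H := S) (m.manti (by omega))
    (by rw [m.mbot le_rfl, ← hl]; exact el_Yo) m.nm' m.nm'
  have tr : ∀ a ∈ S, ∀ b ∈ S, ⁅a, b⁆ ∈ M i → Commute (ρ a) (ρ b) := fun a ha b hb c => by
    rw [← commutatorElement_eq_one_iff_commute, ← σ.mul.map_comm ha hb, σ.one (m.mle c)]
    exact fun x hx => bot_of_Cn (kc (hl.ge hx).1) c
  have y1S := m.mle y1a
  have zS := m.mle z1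
  have q := Q.sq (σ.fg m.toMZ1 (by omega) le_rfl) dp (σ.rg m.toMZ1 le_rfl hs hs hs' fun _ => ne ▸ hs')
    (σ.dg m.toMZ1 (k := 2) y1S fun j _ x hx => m.cn ne hx y1a (by omega)) (z := ρ ⁅y1, s⁆)
    (by rw [← σ.mul zS hs, ← σ.mul.map_inv y1S, ← σ.mul y1S hs, ← σ.mul (mul_mem y1S hs) (inv_mem y1S)]
        congr 1; simp [commutatorElement_def])
    (tr _ y1S _ zS (m.cw y1a z1 (by omega))) (tr _ hs _ zS (comm_symm (m.manti (by omega) (m.ms1 z1 hs))))
  have b := comm_mem_right (σ.nA zS) yl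
  have := (σ.zero _ (comm_mem_right (σ.nA zS) b)).1 (by rw [← σ.act zS b, ← σ.act zS yl, ← End.mul_apply, q]; rfl)
  exact mem_bot.1 (m.mbot le_rfl ▸ this)

end CF.Mh
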