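import Cfsg.Agent.Mh.B3

/-! Modules on elementary abelian sections and their flags. -/

set_option autoImplicit false
set_option linter.unusedSectionVars false
set_option linter.unusedVariables false

namespace CF.Mh

open Cfsg Subgroup CF.Fus CF.FusC CF.Mxc CF.Mg Module
open CF.Mg.R2 (sub mem_sub)
open scoped commutatorElement

universe u

variable {G : Type u} [Group G] {p t a b j k : ℕ} {A B H S : Subgroup G} {L K M : ℕ → Subgroup G} {g h x y : G}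
  [Fact p.Prime] [Finite G]

/-- `V = A / B` as a module for `H` -/
structure Sec {V : Type*} [AddCommGroup V] [Module (ZMod p) V] (H A B : Subgroup G) (φ : G → V)
    (ρ : G → (End (ZMod p) V)ˣ) : Prop where
  le : B ≤ A
  nA : H ≤ Nm A
  nB : H ≤ Nm B
  add : ∀ a ∈ A, ∀ b ∈ A, φ (a * b) = φ a + φ b
  zero : ∀ a ∈ A, φ a = 0 ↔ a ∈ B
  surj : ∀ v, ∃ a ∈ A, φ a = v
  mul : MulOn ρ H
  cj : ∀ h ∈ H, ∀ a ∈ A, (ρ h).val (φ a) = φ (h * a * h⁻¹)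

theorem exists_Sec (h : B ≤ A) (el : El p B A) (h1 : H ≤ Nm A) (h2 : H ≤ Nm B) :
    ∃ (V : Type u) (_ : AddCommGroup V) (_ : Module (ZMod p) V) (_ : Finite V) (φ : G → V)
      (ρ : G → (End (ZMod p) V)ˣ), Sec H A B φ ρ :=
  let ⟨V, _, _, _, φ, ρ, a⟩ := exists_sec h el h1 h2
  ⟨V, _, _, inferInstance, φ, ρ, h, h1, h2, a.1, a.2.1, a.2.2.1, a.2.2.2.1, a.2.2.2.2⟩

variable {V : Type*} [AddCommGroup V] [Module (ZMod p) V] {φ : G → V} {ρ : G → (End (ZMod p) V)ˣ}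

namespace Sec

theorem mφ (s : Sec H A B φ ρ) : MulOn (fun x => Multiplicative.ofAdd (φ x)) A :=
  fun x hx y hy => congrArg _ (s.add x hx y hy)

theorem inv (s : Sec H A B φ ρ) (hx : x ∈ A) : φ x⁻¹ = -φ x := s.mφ.map_inv hx

theorem zpow (s : Sec H A B φ ρ) (hx : x ∈ A) (n : ℤ) : φ (x ^ n) = (n : ZMod p) • φ x :=
  (show φ (x ^ n) = n • φ x from s.mφ.map_zpow hx n).trans (Int.cast_smul_eq_zsmul _ n _).symm

theorem eq (s : Sec H A B φ ρ) (hx : x ∈ A) (hy : y ∈ A) : φ y = φ x ↔ x⁻¹ * y ∈ B := by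
  rw [← s.zero _ (mul_mem (inv_mem hx) hy), s.add _ (inv_mem hx) _ hy, s.inv hx, neg_add_eq_zero, eq_comm]

theorem act (s : Sec H A B φ ρ) (hh : h ∈ H) (hx : x ∈ A) : ((ρ h).val - 1) (φ x) = φ ⁅h, x⁆ := by
  rw [LinearMap.sub_apply, s.cj h hh x hx, End.one_apply, commutatorElement_def,
    s.add _ (conj_mem_of_norm (s.nA hh) hx) _ (inv_mem hx), s.inv hx, sub_eq_add_neg]

theorem one (s : Sec H A B φ ρ) (hh : h ∈ H) : ρ h = 1 ↔ ∀ x ∈ A, ⁅h, x⁆ ∈ B := by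
  rw [Units.ext_iff, Units.val_one, ← sub_eq_zero]
  refine ⟨fun c x hx => (s.zero _ (comm_mem_right (s.nA hh) hx)).1 (by rw [← s.act hh hx, c]; rfl),
    fun c => LinearMap.ext fun v => ?_⟩
  obtain ⟨x, hx, rfl⟩ := s.surj v
  rw [s.act hh hx]; exact (s.zero _ (comm_mem_right (s.nA hh) hx)).2 (c x hx)

theorem one_tr (s : Sec H A B φ ρ) (hh : h ∈ H) : ρ h = 1 ↔ h ∈ Tr A B :=
  (s.one hh).trans ⟨fun c => mem_Tr_of_le s.le fun x hx => comm_symm (c x hx), fun c _ => Tr.comm' c⟩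

theorem wt (s : Sec H A B φ ρ) (hh : h ∈ H) (hx : x ∈ A) {n : ℤ} :
    (ρ h).val (φ x) = (n : ZMod p) • φ x ↔ Wt h B x n := by
  rw [s.cj h hh x hx, ← s.zpow hx, s.eq (zpow_mem hx n) (conj_mem_of_norm (s.nA hh) hx), Wt]

variable (p) in
/-- the flag given by the levels -/
abbrev Fl (φ : G → V) (M : ℕ → Subgroup G) (a : ℕ) : ℕ → Submodule (ZMod p) V := fun j => sub p φ (M (a + j))

theorem mF (s : Sec H (M a) (M b) φ ρ) (m : MZ1 p t S L K M) {v : V} : v ∈ Fl p φ M a j ↔ ∃ x ∈ M (a + j), φ x = v :=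
  mem_sub s.add (m.manti (Nat.le_add_right _ _))

theorem mF' (s : Sec H (M a) (M b) φ ρ) (m : MZ1 p t S L K M) (hj : a + j ≤ b) (hx : x ∈ M a) :
    φ x ∈ Fl p φ M a j ↔ x ∈ M (a + j) := by
  refine ⟨fun h => ?_, fun h => (s.mF m).2 ⟨x, h, rfl⟩⟩
  obtain ⟨y, hy, c⟩ := (s.mF m).1 h
  exact mem_of_inv_mul hy (m.manti hj ((s.eq (m.manti (Nat.le_add_right _ _) hy) hx).1 c.symm))

theorem fg (s : Sec H (M a) (M b) φ ρ) (m : MZ1 p t S L K M) (ab : a ≤ b) (bt : b ≤ t + 4) :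
    Fg (b - a) (Fl p φ M a) := by
  have la : ∀ j, M (a + j) ≤ M a := fun j => m.manti (Nat.le_add_right _ _)
  refine ⟨eq_top_iff.2 fun v _ => (s.mF m).2 (s.surj v), eq_bot_iff.2 fun v hv => ?_, fun i j c v hv => ?_,
    fun j hj => ?_⟩
  · obtain ⟨x, hx, rfl⟩ := (s.mF m).1 hv
    exact (s.zero x (la _ hx)).2 (m.manti (by omega) hx)
  · obtain ⟨x, hx, rfl⟩ := (s.mF m).1 hv
    exact (s.mF m).2 ⟨x, m.manti (by omega) hx, rfl⟩
  · obtain ⟨x, x1, x2⟩ := exists_of_prime (m.midx (j := a + j) (by omega))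
    refine ⟨φ x, (s.mF m).2 ⟨x, x1, rfl⟩, fun c => x2 ((s.mF' m (j := j + 1) (by omega) (la j x1)).1 c),
      fun w hw => ?_⟩
    obtain ⟨y, hy, rfl⟩ := (s.mF m).1 hw
    rw [← m.gen x1 x2, mem_sup_zpowers (m.nm' (m.mle x1))] at hy
    obtain ⟨l, hl, k, rfl⟩ := hy
    refine ⟨k, (s.mF m (j := j + 1)).2 ⟨l, hl, ?_⟩⟩
    rw [s.add _ (la (j + 1) hl) _ (zpow_mem (la j x1) k), s.zpow (la j x1), add_sub_cancel_right]

theorem dg (s : Sec H (M a) (M b) φ ρ) (m : MZ1 p t S L K M) (hh : h ∈ H)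
    (c : ∀ j, a ≤ j → ∀ x ∈ M j, ⁅x, h⁆ ∈ M (j + k)) : (ρ h).val - 1 ∈ Dg (Fl p φ M a) k := fun j v hv => by
  obtain ⟨x, hx, rfl⟩ := (s.mF m).1 hv
  rw [s.act hh (m.manti (Nat.le_add_right _ _) hx)]
  exact (s.mF m).2 ⟨_, comm_symm (add_assoc a j k ▸ c _ (Nat.le_add_right _ _) x hx), rfl⟩

theorem rg (s : Sec H (M a) (M b) φ ρ) (m : MZ1 p t S L K M) (bt : b ≤ t + 4) (hh : h ∈ H) (h1 : h ∈ S) (h2 : h ∉ K 1)
    (h3 : b = t + 4 → h ∉ K (t + 2)) : Rg (b - a) (Fl p φ M a) ((ρ h).val - 1) :=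
  ⟨s.dg m hh fun _ _ _ c => m.ms1 c h1, fun j hj v hv c => by
    obtain ⟨x, hx, rfl⟩ := (s.mF m).1 hv
    have e := m.manti (Nat.le_add_right _ _) hx
    rw [s.act hh e, s.mF' m (by omega) (comm_mem_right (s.nA hh) e)] at c
    refine (s.mF m).2 ⟨x, by_contra fun d => ?_, rfl⟩
    rcases (show a + j ≤ t + 1 ∨ a + j = t + 2 by omega) with f | f
    · exact m.msn f hx d h1 h2 (comm_symm c)
    · rw [← add_assoc, f] at c d
      exact m.mz2 (f ▸ hx) d h1 (h3 (by omega)) (mem_bot.1 (m.mbot le_rfl ▸ comm_symm c))⟩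

end Sec

end CF.Mh
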