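import Cfsg.Agent.Mh.S

/-! The exceptional case: first properties. -/

set_option autoImplicit false
set_option linter.unusedSectionVars false
set_option linter.unusedVariables false

namespace CF.Mh

open Cfsg Subgroup CF.Fus CF.FusC CF.Mxc CF.Mg Module
open CF.Fgs2 (MaxC)
open scoped commutatorElement

universe u

variable {G : Type u} [Group G] {p t i j k : ℕ} {E N S Z Γ : Subgroup G} {L K M : ℕ → Subgroup G}
  {g h s u w x y z : G} {l m μ ν : ℤ} [Fact p.Prime] [Finite G]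

/-- in the exceptional case the centralizer of `M j` in `M 0` -/
theorem MZ0.cex (m : MZ0 p t S L K M) (ex : K (t + 2) ≠ K 1) (hy : y ∈ M 0) (c : y ∈ Cn (M j)) :
    y ∈ M (t + 3 - j) := by_contra fun a => by
  obtain ⟨r, -, r1, -, r2, r3⟩ := m.mlev hy a
  obtain ⟨x, x1, x2⟩ := exists_of_prime (m.midx (j := t + 2 - r) (by omega))
  exact m.ce ex (by omega) x1 x2 r2 r3 (mem_Cn_comm.1 c x (m.manti (by omega) x1))

theorem DD.yle (d : DD p t S L K M E Γ) (ex : K (t + 2) ≠ K 1) (q : ZD p t S M E i z) :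
    Yo p E ≤ M (t + 3 - i) ∧ ∀ y ∈ Yo p E, ⁅z, y⁆ ∈ M (t + 3) :=
  have a : Yo p E ≤ M (t + 3 - i) := fun y hy => d.m.cex ex (d.lt.le hy.1) (centralizer_le q.le hy.2.1)
  ⟨a, fun y hy => d.m.cw q.zM (a hy) (by have := q.i2; have := q.it; omega)⟩

theorem DD.z1 (d : DD p t S L K M E Γ) (q : ZD p t S M E i z) (hu : u ∈ M (t + 3)) (h : u ≠ 1) (hw : w ∈ Nm E)
    (hw' : w ∉ Γ) : ⁅z, w * u * w⁻¹⁆ ≠ 1 := fun c =>
  q.zE (d.cy1 hu h hw hw' q.zN.1 (commutatorElement_eq_one_iff_commute.1 c))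

theorem DD.np (d : DD p t S L K M E Γ) (ex : K (t + 2) ≠ K 1) (q : ZD p t S M E i z) :
    NS S E = E ⊔ zpowers z := by
  refine le_antisymm (fun x hx => ?_) (sup_le (le_NS d.le) (zpowers_le.2 q.zN))
  obtain ⟨w, w1, w2⟩ := d.se.ex
  obtain ⟨u, u1, u2⟩ := d.m.exZ
  have cz : ∀ {a b}, a ∈ M (t + 3) → b ∈ S → Commute a b := fun ha hb => commute_of_Cn (d.m.cZ' hb) ha
  have hy := conj_Yo w1 (d.zY u1)
  have v1 := (d.yle ex q).2 _ hy
  have ha := conj_Yo (inv_mem w1) (d.zY v1)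
  have hb := conj_Yo (inv_mem w1) (conj_Yo hx.2 hy)
  have a1 := (d.yle ex q).2 _ ha
  have b1 := (d.yle ex q).2 _ hb
  obtain ⟨n, hn⟩ := (d.m.zgen a1 (d.z1 q v1 (d.z1 q u1 u2 w1 w2) (inv_mem w1) (mt inv_mem_iff.1 w2))).ge
    (inv_mem b1)
  have g1 : x * z ^ n ∈ NS S E := mul_mem hx (zpow_mem q.zN n)
  have g2 : x * z ^ n ∈ E := by_contra fun c => w2 (inv_mem_iff.1 (d.se.g3 _ g1 c _ (inv_mem w1)
    (by_contra fun e => q.zE (d.cy1 u1 u2 (mul_mem (mul_mem (inv_mem w1) g1.2) (inv_mem (inv_mem w1))) e q.zN.1 ?_))))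
  · exact mem_of_inv_mul' (mem_sup_left g2) (by simpa using mem_sup_right (zpow_mem (mem_zpowers z) n))
  have e1 := comm_zpow_left (cz v1 q.zN.1) n
  have e2 := ((cz v1 hx.1).zpow_left n).eq
  have e3 : w⁻¹ * (x * z ^ n) * w⁻¹⁻¹ * u * (w⁻¹ * (x * z ^ n) * w⁻¹⁻¹)⁻¹ =
      (w⁻¹ * ⁅z, w * u * w⁻¹⁆ * w⁻¹⁻¹) ^ n * (w⁻¹ * (x * (w * u * w⁻¹) * x⁻¹) * w⁻¹⁻¹) := by
    rw [conj_zpow, show w⁻¹ * ⁅z, w * u * w⁻¹⁆ ^ n * w⁻¹⁻¹ * (w⁻¹ * (x * (w * u * w⁻¹) * x⁻¹) * w⁻¹⁻¹) =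
      w⁻¹ * (⁅z, w * u * w⁻¹⁆ ^ n * x) * (w * u * w⁻¹) * x⁻¹ * w by group, e2, ← e1, commutatorElement_def]
    group
  rw [e3, ← commutatorElement_eq_one_iff_commute, comm_mul_right' (cz b1 (zpow_mem (d.le ha.1) n)),
    comm_zpow_right (cz a1 (d.le ha.1)), show _ ^ n = _ from hn, inv_mul_cancel]

theorem DD.zl (d : DD p t S L K M E Γ) (ex : K (t + 2) ≠ K 1) (q : ZD p t S M E i z)
    (τ : TD p E (NS S E) Γ z w h l m) : WtOn h (M (t + 3)) ⊥ l := by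
  obtain ⟨u, u1, u2⟩ := d.m.exZ
  have hy := conj_Yo τ.wE (d.zY u1)
  refine wtOn_of_gen (by rw [bot_sup_eq]; exact d.m.zgen ((d.yle ex q).2 _ hy) (d.z1 q u1 u2 τ.wE τ.wG))
    le_Nm_bot mem_Nm_bot ?_
  rw [Wt, τ.a2 _ hy, inv_mul_cancel]
  exact one_mem _

theorem TD.gen (τ : TD p E N Γ z w h l m) : ∃ a : (ZMod p)ˣ, (a : ZMod p) = l ∧
    ((a⁻¹ : (ZMod p)ˣ) : ZMod p) = m ∧ ∀ c, c ∈ zpowers a := by
  have e : (l : ZMod p) * m = 1 := by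
    have := (ZMod.intCast_zmod_eq_zero_iff_dvd _ p).2 τ.lm
    push_cast at this
    exact sub_eq_zero.1 this
  refine ⟨Units.mkOfMulEqOne _ _ e, rfl, rfl, fun c => ?_⟩
  have := τ.prim (orderOf (Units.mkOfMulEqOne _ _ e)) ((ZMod.intCast_zmod_eq_zero_iff_dvd _ p).1 (by
    have := congrArg Units.val (pow_orderOf_eq_one (Units.mkOfMulEqOne _ _ e))
    push_cast at this ⊢
    exact sub_eq_zero.2 this))
  rw [eq_top_of_le_card (zpowers (Units.mkOfMulEqOne _ _ e)) (by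
    rw [Nat.card_zpowers, Nat.card_eq_fintype_card, ZMod.card_units]
    exact Nat.le_of_dvd (orderOf_pos _) this)]
  exact mem_top c

/-- factoring through a map -/
theorem X2.fac {Q R : Type*} [Group Q] [Group R] {π : G → Q} {ρ : G → R} (h1 : MulOn π N) (h2 : MulOn ρ N)
    (h : ∀ g ∈ N, π g = 1 → ρ g = 1) : ∃ σ : Q → R, MulOn σ (img π N) ∧ ∀ g ∈ N, σ (π g) = ρ g := by
  classical
  have e : ∀ g ∈ N, (if c : ∃ x ∈ N, π x = π g then ρ c.choose else 1) = ρ g := fun g hg => by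
    have c : ∃ x ∈ N, π x = π g := ⟨g, hg, rfl⟩
    have := h _ (mul_mem (inv_mem c.choose_spec.1) hg) (by
      rw [h1.map_inv_mul c.choose_spec.1 hg, c.choose_spec.2, inv_mul_cancel])
    rw [h2.map_inv_mul c.choose_spec.1 hg, inv_mul_eq_one] at this
    rw [dif_pos c, this]
  refine ⟨fun y => if c : ∃ x ∈ N, π x = y then ρ c.choose else 1, fun a ha b hb => ?_, e⟩
  obtain ⟨a, a1, rfl⟩ := h1.mem_img.1 ha
  obtain ⟨b, b1, rfl⟩ := h1.mem_img.1 hb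
  rw [← h1.map_mul a1 b1]
  exact (e _ (mul_mem a1 b1)).trans (by rw [h2.map_mul a1 b1, ← e a a1, ← e b b1])

/-- the action on a subgroup of order `p` -/
theorem X2.chi (hu : u ^ p = 1) (h : u ≠ 1) : ∃ χ : G → (ZMod p)ˣ, MulOn χ (Nm (zpowers u)) ∧
    ∀ g ∈ Nm (zpowers u), ∀ k : ℤ, g * u * g⁻¹ = u ^ k → (χ g : ZMod p) = k := by
  have o : orderOf u = p := orderOf_eq_prime hu h
  have un : ∀ {a b : ℤ}, u ^ a = u ^ b → (a : ZMod p) = b := fun e => by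
    rw [zpow_eq_zpow_iff_modEq, o] at e
    exact (ZMod.intCast_eq_intCast_iff _ _ _).2 e
  have ex : ∀ g : G, ∃ c : (ZMod p)ˣ, g ∈ Nm (zpowers u) → ∃ k : ℤ, g * u * g⁻¹ = u ^ k ∧ (c : ZMod p) = k := fun g => by
    by_cases hg : g ∈ Nm (zpowers u)
    · obtain ⟨k, hk⟩ := conj_mem_of_norm hg (mem_zpowers u)
      refine ⟨Units.mk0 (k : ZMod p) fun c => h ?_, fun _ => ⟨k, hk.symm, rfl⟩⟩
      have : u ^ k = 1 := orderOf_dvd_iff_zpow_eq_one.1 (o ▸ (ZMod.intCast_zmod_eq_zero_iff_dvd _ p).1 c)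
      simpa using (show u ^ k = _ from hk).symm.trans this
    · exact ⟨1, fun c => (hg c).elim⟩
  choose χ hχ using ex
  have e : ∀ g ∈ Nm (zpowers u), ∀ k : ℤ, g * u * g⁻¹ = u ^ k → (χ g : ZMod p) = k := fun g hg k hk =>
    let ⟨j, a, b⟩ := hχ g hg; b.trans (un (a.symm.trans hk))
  refine ⟨χ, fun a ha b hb => Units.ext ?_, e⟩
  obtain ⟨i, i1, i2⟩ := hχ a ha
  obtain ⟨j, j1, j2⟩ := hχ b hb
  rw [Units.val_mul, i2, j2, ← Int.cast_mul]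
  refine e _ (mul_mem ha hb) _ ?_
  rw [zpow_mul, ← i1, conj_zpow, ← j1]; group

theorem X2.eq {A B : Subgroup G} {a : G} {i j : ℤ} (hA : IsPGroup p A) (ha : a ∈ A) (ha' : a ∉ B) (h1 : Wt h B a i)
    (h2 : Wt h B a j) : (i : ZMod p) = j :=
  (ZMod.intCast_eq_intCast_iff_dvd_sub _ _ _).2 (by_contra fun c => ha' (h1.mem hA ha h2 c))

/-- elements of `M 1` act nilpotently -/
theorem Sec.nil {V : Type*} [AddCommGroup V] [Module (ZMod p) V] {φ : G → V} {ρ : G → (End (ZMod p) V)ˣ}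
    {H A B : Subgroup G} (s : Sec H A B φ ρ) (m : MZ1 p t S L K M) (hA : A ≤ M 0) (hz : z ∈ H) (z1 : z ∈ M 1)
    (hk : t + 4 ≤ 2 * k) : ((ρ z).val - 1) ^ k = 0 := by
  have : ∀ n, ∀ a ∈ A, ∃ b ∈ A, b ∈ M (2 * n) ∧ (((ρ z).val - 1) ^ n) (φ a) = φ b := fun n a ha => by
    induction n with
    | zero => exact ⟨a, ha, hA ha, rfl⟩
    | succ n ih =>
      obtain ⟨b, b1, b2, b3⟩ := ih
      exact ⟨_, comm_mem_right (s.nA hz) b1, m.cw z1 b2 (by omega), by rw [pow_succ', End.mul_apply, b3, s.act hz b1]⟩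
  refine LinearMap.ext fun v => ?_
  obtain ⟨a, ha, rfl⟩ := s.surj v
  obtain ⟨b, b1, b2, b3⟩ := this k a ha
  rw [m.mbot hk, mem_bot] at b2
  exact b3.trans ((s.zero b b1).2 (b2 ▸ one_mem _))

end CF.Mh
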