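import Cfsg.Agent.Mh.G
import Cfsg.Agent.Mh.C2
import Cfsg.Agent.Mh.L6
import Cfsg.Agent.Mh.X2a

/-! The non-exceptional case. -/

set_option autoImplicit false
set_option linter.unusedSectionVars false
set_option linter.unusedVariables false

namespace CF.Mh

open Cfsg Subgroup CF.Fus CF.FusC CF.Mxc CF.Mg Module
open CF.Fgs2 (MaxC)
open scoped commutatorElement

universe u

variable {G : Type u} [Group G] {p t i : ℕ} {E S Γ : Subgroup G} {L K M : ℕ → Subgroup G}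
  {h u w y z γ : G} {l m : ℤ} [Fact p.Prime] [Finite G]

theorem W.le (d : DD p t S L K M E Γ) : Yo p (M 0) ≤ Yo p E := fun y hy =>
  have a : y ∈ Cn E := centralizer_le d.lt.le hy.2.1
  ⟨d.cen (d.m.mle hy.1) a, a, hy.2.2⟩

theorem W.zc (d : DD p t S L K M E Γ) (q : ZD p t S M E i z) (hy : y ∈ Yo p (M 0)) : ⁅z, y⁆ = 1 :=
  mem_Cn_comm.1 hy.2.1 z (d.m.manti (Nat.zero_le _) q.zM)

theorem W.zY (d : DD p t S L K M E Γ) : M (t + 3) ≤ Yo p (M 0) := fun u hu =>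
  ⟨d.m.manti (Nat.zero_le _) hu, Cn_symm (d.m.mle.trans d.m.cZ') hu, d.m.zp hu⟩

theorem W.ev (d : DD p t S L K M E Γ) (q : ZD p t S M E i z) (τ : TD p E (NS S E) Γ z w h l m)
    (hy : y ∈ Yo p (M 0)) : h * (y⁻¹ * (h * y * h⁻¹)) * h⁻¹ = (y⁻¹ * (h * y * h⁻¹)) ^ l := by
  obtain ⟨v, a, b⟩ := τ.a1 y (W.le d hy) (W.zc d q hy)
  rw [b]; exact τ.a2 v a

theorem W.nf (d : DD p t S L K M E Γ) (q : ZD p t S M E i z) (τ : TD p E (NS S E) Γ z w h l m) (hγ : γ ∈ Nm (M 0))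
    (hu : u ∈ M (t + 3)) (u1 : u ≠ 1) : h * (γ * u * γ⁻¹) * h⁻¹ ≠ γ * u * γ⁻¹ := fun c =>
  have a := conj_Yo hγ (W.zY d hu)
  τ.wG (d.fix hγ hu u1 τ.wE (mul_inv_eq_iff_eq_mul.1 (τ.b _ (W.le d a) (W.zc d q a) c)))

/-- a conjugate of `h` acts on `γ₁` as an element normalizing `S` -/
theorem W.ext (d : DD p t S L K M E Γ) (ne : K (t + 2) = K 1) (q : ZD p t S M E i z)
    (τ : TD p E (NS S E) Γ z w h l m) (hh : h ∈ Nm (M 0)) :
    ∃ γ ∈ Nm (M 0), ∃ n ∈ Nm S, n⁻¹ * (γ⁻¹ * h * γ) ∈ Cn (M 0) := by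
  have mz := d.m
  obtain ⟨s, hs, hs'⟩ := mz.exS
  have sN : s ∈ Nm (M 0) := mz.nm' hs
  obtain ⟨a, at', ha⟩ := mz.inv Yo_le (W.zY d) hs hs' (norm_Yo sN)
  have nA : Nm (M 0) ≤ Nm (M a) := ha ▸ norm_Yo
  have b4 := mz.mbot (j := t + 4) le_rfl
  obtain ⟨V, _, _, _, φ, ρ, σ⟩ := exists_Sec (p := p) (A := M a) (B := M (t + 4)) (H := Nm (M 0))
    (mz.manti (by omega)) (by rw [b4, ← ha]; exact el_Yo) nA (b4 ▸ le_Nm_bot)
  obtain ⟨Q, _, _, π, hπ, hk, sg⟩ := d.sg (let ⟨a, a1, b, b1, c⟩ := d.na; ⟨a, a1, b, b1, c, fun e => (e ne).elim⟩)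
  obtain ⟨sg, ext⟩ := sg s hs (mz.m0 ▸ hs')
  obtain ⟨ς, hς, e⟩ := X2.fac hπ σ.mul fun g hg c => (σ.one hg).2 fun x hx => comm_symm (bot_of_Cn
    (sup_le le_Cn_Yo (centralizer_le Yo_le) ((hk g hg).1 c)) (ha.ge hx))
  obtain ⟨lu, l1, -, l2⟩ := τ.gen
  obtain ⟨γ', c1, c2⟩ := sg.hm d.p5 hς (σ.fg mz.toMZ1 (by omega) le_rfl)
    (e s sN ▸ σ.rg mz.toMZ1 le_rfl sN hs hs' fun _ => ne ▸ hs') (by omega) (mem_img_of_mem hh) l2
    (LinearMap.ext fun v => by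
      obtain ⟨y, hy, rfl⟩ := σ.surj v
      have y1 := conj_mem_of_norm (nA hh) hy
      have y2 := mul_mem (inv_mem hy) y1
      have : ((ρ h).val - 1) (φ y) = φ (y⁻¹ * (h * y * h⁻¹)) := by
        rw [σ.add _ (inv_mem hy) _ y1, σ.inv hy, ← σ.cj h hh y hy, LinearMap.sub_apply, End.one_apply]; abel
      rw [e h hh, End.mul_apply, this, LinearMap.sub_apply, σ.cj h hh _ y2, W.ev d q τ (ha.ge hy), σ.zpow y2, l1]
      simp)
    (fun γ' c v hv v0 f => by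
      obtain ⟨γ, hγ, rfl⟩ := hπ.mem_img.1 c
      obtain ⟨u, hu, rfl⟩ := (σ.mF mz.toMZ1).1 hv
      rw [show a + (t + 4 - a - 1) = t + 3 by omega] at hu
      have ua : u ∈ M a := mz.manti at' hu
      have y1 := conj_mem_of_norm (nA hγ) ua
      rw [e h hh, e γ hγ, σ.cj γ hγ u ua, σ.cj h hh _ y1, σ.eq y1 (conj_mem_of_norm (nA hh) y1), b4, mem_bot,
        inv_mul_eq_one] at f
      exact W.nf d q τ hγ hu (fun c => v0 ((σ.zero u ua).2 (c ▸ one_mem _))) f.symm)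
  obtain ⟨γ, hγ, rfl⟩ := hπ.mem_img.1 c1
  refine ⟨γ, hγ, ext _ (mul_mem (mul_mem (inv_mem hγ) hh) hγ) ?_⟩
  rwa [hπ (mul_mem (inv_mem hγ) hh) hγ, hπ (inv_mem hγ) hh, hπ.map_inv hγ]

theorem DD.nex (d : DD p t S L K M E Γ) (ne : K (t + 2) = K 1) (q : ZD p t S M E i z)
    (τ : TD p E (NS S E) Γ z w h l m) (hh : h ∈ Nm (M 0)) : False := by
  have mz := d.m
  have p5 := d.p5
  obtain ⟨γ, hγ, n, hn, c⟩ := W.ext d ne q τ hh
  have act : ∀ y ∈ M 0, γ * (n * y * n⁻¹) * γ⁻¹ = h * (γ * y * γ⁻¹) * h⁻¹ := fun y hy => by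
    rw [same_of_Cn c hy]; group
  have wt : ∀ {y : G} {k : ℤ} {B : Subgroup G}, y ∈ M 0 → h * (γ * y * γ⁻¹) * h⁻¹ = (γ * y * γ⁻¹) ^ k → Wt n B y k :=
    fun {y k B} hy e => by
      rw [← act y hy, conj_zpow, mul_left_inj, mul_right_inj] at e
      rw [Wt, e, inv_mul_cancel]; exact one_mem _
  have ev : ∀ {B : Subgroup G}, ∀ y ∈ Yo p (M 0), Wt n B (y⁻¹ * (n * y * n⁻¹)) l := fun y hy =>
    wt (mul_mem (inv_mem hy.1) (conj_mem_of_norm (mz.mch hn) hy.1)) (by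
      have := W.ev d q τ (conj_Yo hγ hy)
      rwa [show (γ * y * γ⁻¹)⁻¹ * (h * (γ * y * γ⁻¹) * h⁻¹) = γ * (y⁻¹ * (n * y * n⁻¹)) * γ⁻¹ by
        rw [← act y hy.1]; group] at this)
  obtain ⟨μ, ν, ws⟩ := mz.wt hn
  obtain ⟨r, rel⟩ := mz.rel (let ⟨a, a1, b, b1, c⟩ := d.na; ⟨a, a1, b, b1, c, fun e => (e ne).elim⟩)
  have r1 : (ν : ZMod p) = μ ^ r := by
    have := (ZMod.intCast_eq_intCast_iff_dvd_sub _ _ p).2 (rel n μ ν ws)
    push_cast at this; exact this.symm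
  have lm : (l : ZMod p) * m = 1 := by
    have := (ZMod.intCast_eq_intCast_iff_dvd_sub _ _ p).2 τ.lm
    push_cast at this; exact this.symm
  have pr : ∀ k : ℕ, (l : ZMod p) ^ k = 1 → p - 1 ∣ k := fun k e => τ.prim k
    ((ZMod.intCast_eq_intCast_iff_dvd_sub _ _ p).1 (by push_cast; exact e.symm))
  obtain ⟨u, u1, u2⟩ := mz.exZ
  have u0 : u ∈ M 0 := mz.manti (Nat.zero_le _) u1
  have b1 : u⁻¹ * (n * u * n⁻¹) ∈ M (t + 3) := mul_mem (inv_mem u1) (conj_mem_of_norm (mz.mch hn) u1)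
  have k1 := wt_eq mz.pm b1 (fun c => W.nf d q τ hγ u1 u2 (by
    rw [← act u u0, ← inv_mul_eq_one.1 (mem_bot.1 c)])) (ws.wn ne _ b1) (ev u (W.zY d u1))
  obtain ⟨v, v1, v2⟩ := exists_of_prime (mz.midx (j := t + 2) (by omega))
  have vY : v ∈ Yo p (M 0) := ⟨mz.manti (Nat.zero_le _) v1, mem_Cn_comm.2 fun x hx =>
    mem_bot.1 (mz.mbot le_rfl ▸ mz.cn ne hx v1 (by omega)),
    mem_bot.1 (mz.mbot (j := t + 2 + p - 1) (by omega) ▸ mz.pw0 (by omega) v1)⟩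
  have b2 : v⁻¹ * (n * v * n⁻¹) ∈ M (t + 2) := mul_mem (inv_mem v1) (conj_mem_of_norm (mz.mch hn) v1)
  push_cast at k1
  have k2 : (μ : ZMod p) = l := by
    by_cases c : v⁻¹ * (n * v * n⁻¹) ∈ M (t + 3)
    · have := wt_eq mz.pm v1 v2 (ws.w1 _ le_rfl v v1) (l := 1) (by simpa [Wt] using c)
      push_cast at this
      rw [← k1, pow_succ, ← mul_assoc, this, one_mul]
    · have := wt_eq mz.pm b2 c (ws.w1 _ le_rfl _ b2) (ev v vY)
      push_cast at this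
      have e : (μ : ZMod p) = 1 := by
        rw [pow_succ, ← mul_assoc, this] at k1
        linear_combination (m : ZMod p) * k1 - ((μ : ZMod p) - 1) * lm
      have := Nat.le_of_dvd one_pos (pr 1 (by rw [pow_one, ← k1, r1, e]; simp))
      omega
  have y0 := conj_Yo hγ (W.zY d u1)
  have y1 := conj_Yo τ.wE (W.le d y0)
  have hy := τ.c _ (W.le d y0) (W.zc d q y0) (by
    have := (ws.wn ne u u1).congr (j := l) (mem_bot.2 (mz.zp u1))
      ((ZMod.intCast_eq_intCast_iff_dvd_sub _ _ p).1 (by push_cast; exact k1.symm))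
    rw [← act u u0, conj_zpow, inv_mul_eq_one.1 (mem_bot.1 this)])
  generalize ey : w * (γ * u * γ⁻¹) * w⁻¹ = y at y1 hy
  have e2 : γ * (γ⁻¹ * y * γ) * γ⁻¹ = y := by group
  have y2 : γ⁻¹ * y * γ ∈ M 0 := conj_mem_of_norm' hγ (d.lt.le y1.1)
  have y3 : γ⁻¹ * y * γ ∉ M (t + 4) := fun c => u2 (by
    rw [mz.mbot le_rfl, mem_bot] at c
    rw [show u = γ⁻¹ * w⁻¹ * γ * (γ⁻¹ * y * γ) * (γ⁻¹ * w⁻¹ * γ)⁻¹ by rw [← ey]; group, c]; simp)
  obtain ⟨j, -, -, jt, j1, j2⟩ := mz.mlev y2 y3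
  have k3 : (ν : ZMod p) * μ ^ j = m := by
    have := wt_eq mz.pm j1 j2 (k := ν * μ ^ j) (by
      rcases jt.lt_or_eq with a | rfl
      · exact ws.w1 j (by omega) _ j1
      · exact (ws.wn ne _ j1).mono bot_le) (wt y2 (e2.symm ▸ hy))
    push_cast at this; exact this
  have jp : t + 3 - j ≤ p - 1 := by
    rcases le_or_gt p (t + 3) with a | a
    · have : t + 5 - p ≤ j := not_lt.1 fun c => j2 (mz.manti c (mz.pw1 a y2 (by
        rw [← mul_left_inj γ⁻¹, ← mul_right_inj γ, ← mul_assoc, ← conj_pow, e2, y1.2.2]; simp)))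
      omega
    · omega
  obtain ⟨k, hk⟩ : ∃ k, t + 3 = j + k := ⟨t + 3 - j, by omega⟩
  rw [hk, pow_add, ← mul_assoc, k3, k2] at k1
  obtain rfl : j = t + 1 := by
    rcases le_or_gt 2 k with a | a
    · obtain ⟨k, rfl⟩ := Nat.exists_eq_add_of_le a
      have := Nat.eq_zero_of_dvd_of_lt (pr k (by
        linear_combination (m : ZMod p) * k1 + (1 - (l : ZMod p) ^ k * (l * m + 1)) * lm)) (by omega)
      omega
    · have : ∃ k', k + k' = 2 ∧ 0 < k' := ⟨2 - k, by omega, by omega⟩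
      obtain ⟨k', a, b⟩ := this
      have := Nat.le_of_dvd b (pr k' (by
        have e : (l : ZMod p) ^ k * l ^ k' = l ^ 2 := by rw [← pow_add, a]
        linear_combination -(m : ZMod p) * l ^ k' * k1 + m ^ 2 * e + (l * m + 1 - (l : ZMod p) ^ k') * lm))
      omega
  have le : Cj γ (M 1) ≤ E := img_le_iff.2 fun x hx => d.cy' hγ u1 u2 τ.wE τ.wG
    (mz.mle (conj_mem_of_norm hγ (mz.manti (Nat.zero_le _) hx))) (by
      rw [ey, ← e2, ← commutatorElement_eq_one_iff_commute, cj_apply, ← conj_comm,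
        show ⁅x, γ⁻¹ * y * γ⁆ = 1 from mem_bot.1 (mz.mbot le_rfl ▸ mz.cn ne hx j1 (by omega))]
      simp)
  have eE : E = Cj γ (M 1) :=
    (eq_or_eq_of_prime ((idx_Cj' hγ).trans (mz.midx (j := 0) (by omega))) le d.lt.le).resolve_right d.lt.ne
  obtain ⟨s, hs, hs'⟩ := mz.exS
  have := (ess_cj d.sat d.ess (g := γ⁻¹) ((Cj_le (inv_mem hγ) d.nN).trans mz.mle)).2
  refine hs' (mz.m0.le (Cj_le (inv_mem hγ) d.nN (this.le ⟨hs, ?_⟩)))
  rw [eE, img_cj_inv]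
  exact mz.nm' hs

end CF.Mh
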