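import Cfsg.Agent.Mh.B3
import Cfsg.Agent.Mxc.C

/-! The exceptional case with `γ₁` of class at most two. -/

set_option autoImplicit false
set_option linter.unusedSectionVars false
set_option linter.unusedVariables false

namespace CF.Mh

open Cfsg Subgroup CF.Fus CF.FusC CF.Mxc CF.Mg Module
open CF.Fgs2 (MaxC)
open scoped commutatorElement

universe u

variable {G : Type u} [Group G] {p t i j k : ℕ} {E N S Z Γ : Subgroup G} {L K M : ℕ → Subgroup G}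
  {g h s u w x y z : G} {l m μ ν : ℤ} [Fact p.Prime] [Finite G]

theorem DD.idx (d : DD p t S L K M E Γ) (hj : j + k = t + 4) (h : ∀ a ∈ M 0, ∀ b ∈ M 0, ⁅a, b⁆ ∈ M j) :
    E.relIndex (M 0) ≤ p ^ k := by
  obtain ⟨w, w1, w2⟩ := d.se.ex
  obtain ⟨u, u1, u2⟩ := d.m.exZ
  rw [← d.m.mcard hj, ← relIndex_bot_left]
  exact idx_le_of_Cm1 le_Nm_bot (fun x hx => h x hx _ (d.lt.le (conj_Yo w1 (d.zY u1)).1)) fun x hx c =>
    d.cy1 u1 u2 w1 w2 (d.m.mle hx) (commutatorElement_eq_one_iff_commute.1 c)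

theorem DD.c3 (d : DD p t S L K M E Γ) : p ^ 3 ≤ Nat.card E := by
  have h1 := card_eq_mul' d.lt.le
  rw [d.m.mcard (zero_add _), show t + 4 = 3 + (t + 1) by ring, pow_add] at h1
  exact Nat.le_of_mul_le_mul_right (h1.le.trans (Nat.mul_le_mul_left _
    (d.idx (by ring) fun _ a _ b => d.m.c3 a b))) (pow_pos (Fact.out : p.Prime).pos _)

theorem DD.nZ (d : DD p t S L K M E Γ) : ¬ Nm E ≤ Nm (M (t + 3)) := fun c =>
  let ⟨w, w1, w2⟩ := d.se.ex; w2 (d.nR 1 (one_mem _) w w1 (by simpa using c w1))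

theorem DD.ne1 (d : DD p t S L K M E Γ) : E ≠ M 1 := fun c => (lt_of_prime d.m.mle d.m.i0).not_ge (by
  have := d.nN
  rwa [c, NS_eq_of_norm d.m.nm'] at this)

theorem X1.ab (d : DD p t S L K M E Γ) (h : ∀ a ∈ E, ∀ b ∈ E, ⁅a, b⁆ ∈ M (t + 3)) : E ≤ Cn E := fun b hb =>
  mem_Cn_comm.2 fun a ha => by_contra fun c => d.nZ fun g hg => by
    rw [show M (t + 3) = ⁅E, E⁆ from le_antisymm (d.m.zgen (h a ha b hb) c ▸ zpowers_le.2
      (commutator_mem_commutator ha hb)) (commutator_le.2 h)]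
    exact norm_commutator hg hg

theorem X1.one (d : DD p t S L K M E Γ) (ex : K (t + 2) ≠ K 1) (h : E ≤ Cn E) (hi : E.relIndex (M 0) ≤ p) : False := by
  have z0 : ∀ {j}, M j ≤ M 0 := fun {j} => d.m.manti (Nat.zero_le j)
  have i1 := le_antisymm hi (le_idx d.m.pm d.lt)
  obtain ⟨a, a1, a2⟩ := SetLike.not_le_iff_exists.1 (not_le_of_ne i1 (d.m.midx (j := 0) (by omega)) z0 d.ne1)
  obtain ⟨b, b1, b2⟩ := exists_of_prime (d.m.midx (j := t + 2) (by omega))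
  have e := sup_zpowers_eq i1 d.lt.le (z0 b1) fun c =>
    d.m.ce ex (zero_add _) (d.lt.le a1) a2 b1 b2 (mem_Cn_comm.1 (h c) a a1)
  have lev : ∀ j, j ≤ t + 1 → ∃ x ∈ E, x ∈ M j ∧ x ∉ M (j + 1) := fun j hj => by
    obtain ⟨x, x1, x2⟩ := exists_of_prime (d.m.midx (j := j) (by omega))
    obtain ⟨y, y1, n, rfl⟩ := (mem_sup_zpowers (norm_of_prime d.m.pm d.lt.le i1 (z0 b1))).1 (e.ge (z0 x1))
    have := zpow_mem (d.m.manti (show j + 1 ≤ t + 2 by omega) b1) n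
    exact ⟨y, y1, (mul_mem_cancel_right (d.m.manti (Nat.le_succ j) this)).1 x1, fun c => x2 (mul_mem c this)⟩
  obtain ⟨x, x1, x2, x3⟩ := lev 1 (by omega)
  obtain ⟨y, y1, y2, y3⟩ := lev (t + 1) le_rfl
  exact d.m.ce ex (by omega) x2 x3 y2 y3 (mem_Cn_comm.1 (h y1) x x1)

theorem DD.exa (d : DD p t S L K M E Γ) (ex : K (t + 2) ≠ K 1)
    (h : t = 1 ∨ ∀ a ∈ M 0, ∀ b ∈ M 0, ⁅a, b⁆ ∈ M (t + 3)) : False := by
  rcases h with rfl | h
  swap
  · exact X1.one d ex (X1.ab d fun a ha b hb => h a (d.lt.le ha) b (d.lt.le hb)) (by simpa using d.idx (k := 1) rfl h)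
  have E0 := d.lt.le
  have c1 : ∀ a ∈ E, a ∉ M 1 → ∀ b ∈ E, ⁅a, b⁆ ∈ M 4 := fun a a1 a2 b b1 => by_contra fun c => by
    obtain ⟨b, b2, n, rfl⟩ := (mem_sup_zpowers (d.m.nm' (d.le a1))).1 ((d.m.gen (E0 a1) a2).ge (E0 b1))
    rw [mul_mem_cancel_right (zpow_mem a1 n)] at b1
    rw [comm_mul_cancel' ((Commute.refl a).zpow_left n)] at c
    have b3 : b ∉ M 2 := fun e => c (d.m.cs (E0 a1) e le_rfl)
    obtain ⟨y, y1, y2⟩ := SetLike.not_le_iff_exists.1 fun e : Yo p E ≤ M 4 =>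
      d.nZ (le_antisymm e d.zY ▸ norm_Yo)
    obtain ⟨r, -, r1, -, r2, r3⟩ := d.m.mlev (E0 y1.1) y2
    have cy := mem_Cn_comm.1 y1.2.1
    interval_cases r
    · exact d.m.ce ex (i := 3) rfl (d.m.c3 (E0 a1) (E0 b1)) c r2 r3 (cy _ (comm_mem_left (le_normalizer b1) a1))
    · obtain ⟨b, b4, n, rfl⟩ := (mem_sup_zpowers (d.m.nm' (d.le y1.1))).1 ((d.m.gen r2 r3).ge b2)
      rw [comm_mul_cancel' ((commute_of_Cn y1.2.1 a1).symm.zpow_left n)] at c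
      exact c (d.m.cs (E0 a1) b4 le_rfl)
    · exact d.m.ce ex (i := 1) rfl b2 b3 r2 r3 (cy b b1)
    · exact d.m.ce ex (i := 0) rfl (E0 a1) a2 r2 r3 (cy a a1)
  have ab := X1.ab d fun a ha b hb => by
    by_cases c : a ∈ M 1
    · by_cases c' : b ∈ M 1
      exacts [d.m.cs c c' le_rfl, comm_symm (c1 b hb c' a ha)]
    · exact c1 a ha c b hb
  refine X1.one d ex ab (by_contra fun c => ?_)
  have h1 := card_eq_mul' d.lt.le
  rw [le_antisymm (d.idx (k := 2) rfl fun _ a _ b => d.m.c3 a b) (sq_le_idx d.m.pm c), d.m.mcard (zero_add _),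
    show 1 + 4 = 3 + 2 from rfl, pow_add, mul_left_inj' (pow_pos (Fact.out : p.Prime).pos _).ne'] at h1
  have el := d.sat.elem_of_le_cube d.ess (le_centralizer_iff_isMulCommutative.1 ab) h1.symm le_rfl
  exact no_cube d.p5 d.m.toMX d.sat d.ess (eq_bot_iff.2 (El.Fr_le (p := p) ⟨fun x hx y hy =>
    mem_Cn_comm.1 (ab hy) x hx, el.2⟩ le_rfl)) h1.symm

end CF.Mh
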