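import Cfsg.Agent.Mh.X2a
import Cfsg.Agent.Mh.G
import Cfsg.Agent.Mh.L5

/-! The exceptional case: control by `N(S)`. -/

set_option autoImplicit false
set_option linter.unusedSectionVars false
set_option linter.unusedVariables false

namespace CF.Mh

open Cfsg Subgroup CF.Fus CF.FusC CF.Mxc CF.Mg Module
open CF.Fgs2 (MaxC)
open scoped commutatorElement

universe u

variable {G : Type u} [Group G] {p t i j k : ℕ} {E N S Z Γ : Subgroup G} {L K M : ℕ → Subgroup G}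
  {g h s u w x y z : G} {l m μ ν : ℤ} [Fact p.Prime] [Finite G]

theorem DD.ctl (d : DD p t S L K M E Γ) (ex : K (t + 2) ≠ K 1) (na : ∃ a ∈ M 0, ∃ b ∈ M 0, ⁅a, b⁆ ∉ M (t + 3))
    (q : ZD p t S M E i z) (τ : TD p E (NS S E) Γ z w h l m) (hh : h ∈ Nm (M 0)) :
    ∀ g ∈ Nm (M 0), ∃ n ∈ Nm S, n⁻¹ * g ∈ Cn (M 0) := by
  obtain ⟨a, ha, b, hb, c⟩ := na
  obtain ⟨Q, _, _, π, p1, p2, p3⟩ := d.sg ⟨a, ha, b, hb, fun e => c (e ▸ one_mem _), fun _ => c⟩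
  obtain ⟨s, s1, s2⟩ := exists_of_prime d.m.i0
  obtain ⟨u, u1, u2⟩ := d.m.exZ
  obtain ⟨χ, c1, c2⟩ := X2.chi (d.m.zp u1) u2
  have z0 : M (t + 3) ≤ M 0 := d.m.manti (Nat.zero_le _)
  have nz : Nm (M 0) ≤ Nm (zpowers u) := fun g hg => by
    rw [d.m.zgen u1 u2, show M (t + 3) = M 0 ⊓ Cn (M 0) from le_antisymm
      (le_inf z0 (Cn_symm (d.m.mle.trans d.m.cZ'))) fun y hy => d.m.cex ex hy.1 hy.2]
    exact norm_inf hg (norm_Cn hg)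
  obtain ⟨σ, t1, t2⟩ := X2.fac p1 (c1.mono nz) fun g hg e => Units.ext ((c2 g (nz hg) 1 (by
    rw [zpow_one]
    exact mem_Cn.1 (sup_le (d.m.mle.trans d.m.cZ') (centralizer_le z0) ((p2 g hg).1 e)) u u1)).trans (by simp))
  obtain ⟨a, a1, -, a2⟩ := τ.gen
  have e : χ h = a := Units.ext ((c2 h (nz hh) l (inv_mul_eq_one.1 (mem_bot.1 (d.zl ex q τ u u1))).symm).trans a1.symm)
  refine fun g hg => (p3 s s1 s2).2 g hg ((p3 s s1 s2).1.bn le_rfl (p3 s s1 s2).1.mem t1 (fun c => ?_)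
    (mem_img_of_mem hg))
  obtain ⟨n, rfl⟩ := a2 c
  exact ⟨_, mem_img_of_mem (zpow_mem hh n), by rw [t2 _ (zpow_mem hh n), c1.map_zpow (nz hh), e]⟩

/-- the weights of the torus element -/
theorem DD.tor (d : DD p t S L K M E Γ) (ex : K (t + 2) ≠ K 1) (na : ∃ a ∈ M 0, ∃ b ∈ M 0, ⁅a, b⁆ ∉ M (t + 3))
    (q : ZD p t S M E i z) (τ : TD p E (NS S E) Γ z w h l m) (hh : h ∈ Nm (M 0)) :
    ∃ (c : ℕ) (μ : ℤ), (∀ g μ ν, Ws p t S K M g μ ν → (ν : ZMod p) = μ ^ c) ∧ (l : ZMod p) = μ ^ (2 * c + t + 2) ∧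
      (∀ j, h ∈ Nm (M j)) ∧ ∀ j, j ≤ t + 2 → WtOn h (M j) (M (j + 1)) (μ ^ (c + j)) := by
  obtain ⟨n, n1, n2⟩ := d.ctl ex na q τ hh h hh
  obtain ⟨a, ha, b, hb, c⟩ := na
  obtain ⟨c, hc⟩ := d.m.rel ⟨a, ha, b, hb, fun e => c (e ▸ one_mem _), fun _ => c⟩
  obtain ⟨μ, ν, v⟩ := d.m.wt n1
  have z0 : ∀ {j}, M j ≤ M 0 := fun {j} => d.m.manti (Nat.zero_le j)
  have hc' : ∀ g μ ν, Ws p t S K M g μ ν → (ν : ZMod p) = μ ^ c := fun g μ ν v => by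
    simpa using ((ZMod.intCast_eq_intCast_iff_dvd_sub _ _ _).2 (hc g μ ν v)).symm
  obtain ⟨u, u1, u2⟩ := d.m.exZ
  refine ⟨c, μ, hc', ?_, fun j => mem_of_inv_mul (d.m.mch n1) (Cn_le_Nm (centralizer_le z0 n2)), fun j hj =>
    ((v.w1 j hj).of_eq fun a ha => (same_of_Cn n2 (z0 ha)).symm).congr (fun _ => d.m.powm) ?_⟩
  · rw [X2.eq d.m.pm u1 (mt mem_bot.1 u2) (d.zl ex q τ u u1)
      ((v.we ex).of_eq (fun a ha => (same_of_Cn n2 (z0 ha)).symm) u u1)]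
    push_cast
    rw [hc' _ _ _ v]; ring
  · rw [show ν * μ ^ j - μ ^ (c + j) = (ν - μ ^ c) * μ ^ j by ring]
    exact (hc _ _ _ v).mul_right _

end CF.Mh
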