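import Cfsg.Agent.Mh.X2

/-! The exceptional case: the action on `Ω₁ Z(E)` is faithful. -/

set_option autoImplicit false
set_option linter.unusedSectionVars false
set_option linter.unusedVariables false

namespace CF.Mh

open Cfsg Subgroup CF.Fus CF.FusC CF.Mxc CF.Mg Module
open CF.Fgs2 (MaxC)
open scoped commutatorElement

universe u

variable {G : Type u} [Group G] {p t i j k : ℕ} {E N S Z Γ : Subgroup G} {L K M : ℕ → Subgroup G}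
  {g h s u w x y z : G} {l m μ ν : ℤ} [Fact p.Prime] [Finite G]

theorem X3.tr (hF : Sat (FT S) p) (hE : (FT S).IsEssential p E) : Tr E (Fr E) ≤ E ⊔ Cn E := fun g hg => by
  obtain ⟨Γ, e⟩ := es_of_ess hF hE
  obtain ⟨n, n1, c, c1, rfl⟩ := (mem_sup_of_norm (NS_le_norm.trans fun _ => norm_Cn)).1 (syl_le hF hE.2.1
    (O := Tr E (Fr E)) (fun _ => Tr.n1) (fun _ c => norm_Tr c.2 (norm_Fr c.2)) (fun x hx =>
      let ⟨k, hk⟩ := exists_cop p x; ⟨k, hk.cent e.pgE (pow_mem hx _)⟩) hg)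
  exact mul_mem_sup (e.mem_tr n1 ((mul_mem_cancel_right (Cn_le_Tr Fr_le c1)).1 hg)) c1

theorem DX.ker (d : DX p t S L K M E Γ) (ex : K (t + 2) ≠ K 1) (na : ∃ a ∈ M 0, ∃ b ∈ M 0, ⁅a, b⁆ ∉ M (t + 3))
    (q : ZD p t S M E i z) (τ : TD p E (NS S E) Γ z w h l m) (hh : h ∈ Nm (M 0)) :
    Nm E ⊓ Cn (Yo p E) ≤ E ⊔ Cn E := by
  obtain ⟨c, μ0, hc, hl, -, -⟩ := d.tor ex na q τ hh
  obtain ⟨-, tp⟩ := d.m.ex ex
  have i2 := q.i2
  obtain ⟨a, a1, -, a3⟩ := τ.gen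
  have gen : ∀ x : ZMod p, x ≠ 0 → ∃ r : ℕ, (l : ZMod p) ^ r = x := fun x hx =>
    let ⟨r, hr⟩ := (mem_powers_iff_mem_zpowers).2 (a3 (Units.mk0 x hx))
    ⟨r, by rw [← a1]; exact congrArg Units.val hr⟩
  have pE : IsPGroup p E := d.m.pg.to_le d.le
  obtain ⟨V, _, _, _, φ, ρ, s⟩ := exists_Sec Fr_le (el_Fr pE) le_rfl fun _ => norm_Fr
  have := fin_end (p := p) (V := V)
  have zN : z ∈ Nm E := q.zN.2
  have k0 : ∀ g ∈ E ⊔ Cn E, ρ g = 1 := fun g hg => (s.one_tr (sup_le le_normalizer Cn_le_Nm hg)).2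
    (sup_le ((el_Fr pE).tr Fr_le) (Cn_le_Tr Fr_le) hg)
  have k1 : ∀ g ∈ Nm E, ρ g = 1 → g ∈ E ⊔ Cn E := fun g hg e => X3.tr d.sat d.ess ((s.one_tr hg).1 e)
  have nK : Nm E ≤ Nm (Nm E ⊓ Cn (Yo p E)) := fun g hg => norm_inf (le_normalizer hg) (norm_Cn (norm_Yo hg))
  have mK := s.mul.mono (inf_le_left (b := Cn (Yo p E)))
  have fin : ∀ {n k}, n ∈ NS S E → k ∈ Cn (Yo p E) → n⁻¹ * k ∈ Cn E → ρ k = 1 := fun n1 k1 e => k0 _
    (mem_of_inv_mul (mem_sup_left (d.cY n1 (mem_of_inv_mul' k1 (centralizer_le Yo_le e)))) (mem_sup_right e))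
  have := fb (R := img ρ (Nm E ⊓ Cn (Yo p E))) (s := ρ z) (fun e => ?_) (norm_of_Cj_le (img_le_iff.2 fun x hx => ?_))
    (s.nil d.m.toMZ1 d.lt.le zN (d.m.manti (by omega) q.zM) (by omega)) fun r hr e => ?_
  · exact fun g hg => k1 g hg.1 (mem_bot.1 (this ▸ mem_img_of_mem hg))
  · obtain ⟨T, t1, -, t2⟩ := exists_T d.sat d.ess.2.1
    refine ((t1.inf_norm' inf_le_left nK).img_mulOn mK).ne_bot e (eq_bot_iff.2 (img_le_iff.2 fun y hy => ?_))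
    obtain ⟨n, n1, n2⟩ := t2 y hy.1
    exact fin n1 hy.2.2 n2
  · obtain ⟨y, hy, rfl⟩ := mK.mem_img.1 hx
    rw [cj_apply, ← s.mul.map_conj zN hy.1]
    exact mem_img_of_mem (conj_mem_of_norm (nK zN) hy)
  obtain ⟨k, hk, rfl⟩ := mK.mem_img.1 hr
  have e1 := k1 _ (comm_mem_right (le_normalizer hk.1) zN) (by
    rw [s.mul.map_comm hk.1 zN]; exact commutatorElement_eq_one_iff_commute.2 e)
  have np := d.np ex q
  obtain ⟨n1, b1, c1⟩ := ext_norm d.sat d.ess.2.1 hk.1 (norm_of_Cj_le (by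
    rw [np, Cj_sup, Cj_sup, Cj_eq hk.1, Cj_eq (norm_Cn hk.1), Cj_zpowers]
    refine sup_le (sup_le (le_sup_left.trans le_sup_left) (zpowers_le.2 ?_)) le_sup_right
    rw [← mul_mem_cancel_right (inv_mem (mem_sup_left (mem_sup_right (mem_zpowers z))))]
    exact sup_le_sup_right (le_sup_left : E ≤ E ⊔ zpowers z) (Cn E) e1))
  obtain ⟨n2, b2, c2⟩ := d.hx n1 b1
  obtain ⟨n, b3, c3⟩ := d.ctl ex na q τ hh n2 b2
  have c4 : n⁻¹ * k ∈ Cn E := by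
    simpa [mul_assoc] using mul_mem (mul_mem (centralizer_le d.lt.le c3) (centralizer_le (le_NS d.le) c2)) c1
  obtain ⟨μ, ν, v⟩ := d.m.wt b3
  obtain ⟨u, u1, u2⟩ := d.m.exZ
  have e2 := X2.eq d.m.pm u1 (mt mem_bot.1 u2) (v.we ex u u1)
    (Cn.wt (centralizer_le d.zY (mem_of_inv_mul' hk.2 (centralizer_le Yo_le c4))) u u1)
  obtain ⟨r, hr⟩ := gen μ (mt (ZMod.intCast_zmod_eq_zero_iff_dvd _ p).1 v.u0)
  obtain ⟨r0, hr0⟩ := gen μ0 fun c => a.ne_zero (by rw [a1, hl, c]; simp)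
  have e3 : (μ : ZMod p) = 1 := by
    have : (μ : ZMod p) ^ (2 * c + t + 2) = 1 := by
      push_cast at e2
      rw [← e2, hc _ _ _ v]; ring
    rw [← hr, hl, ← hr0, ← pow_mul, ← pow_mul, mul_comm r0, mul_comm _ r, pow_mul, pow_mul, hr, this, one_pow]
  obtain ⟨n, n1, c, c5, rfl⟩ := (mem_sup_of_norm (d.m.nm'.trans fun _ => norm_Cn)).1 (d.m.triv d.sat v
    ((ZMod.intCast_eq_intCast_iff_dvd_sub _ _ _).1 (by simp [e3]))
    ((ZMod.intCast_eq_intCast_iff_dvd_sub _ _ _).1 (by simp [hc _ _ _ v, e3])))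
  have c6 : n⁻¹ * k ∈ Cn E := by simpa [mul_assoc] using mul_mem (centralizer_le d.lt.le c5) c4
  exact fin ⟨n1, mem_of_inv_mul' hk.1 (Cn_le_Nm c6)⟩ hk.2 c6

end CF.Mh
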