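import Cfsg.Agent.Mh.X2

/-! The exceptional case: the final contradiction. -/

set_option autoImplicit false
set_option linter.unusedSectionVars false
set_option linter.unusedVariables false

namespace CF.Mh

open Cfsg Subgroup CF.Fus CF.FusC CF.Mxc CF.Mg Module
open CF.Fgs2 (MaxC)
open scoped commutatorElement

universe u

variable {G : Type u} [Group G] {p t i j k : ℕ} {E N S Z Γ : Subgroup G} {L K M : ℕ → Subgroup G}
  {g h s u w x y z : G} {l m μ ν : ℤ} [Fact p.Prime] [Finite G]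

/-- an element of level `i - 2` in `E` -/
theorem DD.low (d : DD p t S L K M E Γ) (ex : K (t + 2) ≠ K 1) (q : ZD p t S M E i z) :
    ∃ x ∈ E, x ∈ M (i - 2) ∧ x ∉ M (i - 2 + 1) := by
  have := q.i2
  have := q.it
  obtain ⟨w, w1, w2⟩ := d.se.ex
  obtain ⟨u, u1, u2⟩ := d.m.exZ
  obtain ⟨x, x1, x2⟩ := exists_of_prime (d.m.midx (j := i - 2) (by omega))
  have hy := conj_Yo w1 (d.zY u1)
  have v1 := (d.yle ex q).2 _ hy
  have cz : ∀ {b}, b ∈ S → Commute ⁅z, w * u * w⁻¹⁆ b := fun hb => commute_of_Cn (d.m.cZ' hb) v1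
  have b1 := d.m.cs x1 ((d.yle ex q).1 hy) (by omega)
  rw [show i - 2 + (t + 3 - i) + 2 = t + 3 by omega] at b1
  obtain ⟨n, hn⟩ := (d.m.zgen v1 (d.z1 q u1 u2 w1 w2)).ge (inv_mem b1)
  have z1 : z ^ n ∈ M (i - 2 + 1) := zpow_mem (d.m.manti (by omega) q.zM) n
  refine ⟨x * z ^ n, d.cy1 u1 u2 w1 w2 (mul_mem (d.m.mle x1) (d.m.mle z1)) ?_,
    mul_mem x1 (d.m.manti (by omega) z1), fun c => x2 ((mul_mem_cancel_right z1).1 c)⟩
  rw [← commutatorElement_eq_one_iff_commute, show ⁅x * z ^ n, w * u * w⁻¹⁆ =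
    x * ⁅z ^ n, w * u * w⁻¹⁆ * x⁻¹ * ⁅x, w * u * w⁻¹⁆ by simp only [commutatorElement_def]; group,
    comm_zpow_left (cz q.zN.1), ← ((cz (d.m.mle x1)).zpow_left n).eq, mul_inv_cancel_right,
    show _ ^ n = _ from hn, inv_mul_cancel]

theorem DD.exb (d : DD p t S L K M E Γ) (ex : K (t + 2) ≠ K 1) (na : ∃ a ∈ M 0, ∃ b ∈ M 0, ⁅a, b⁆ ∉ M (t + 3))
    (q : ZD p t S M E i z) (τ : TD p E (NS S E) Γ z w h l m) (hh : h ∈ Nm (M 0))
    (ker : Nm E ⊓ Cn (Yo p E) ≤ E ⊔ Cn E) : False := by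
  obtain ⟨c, μ, -, hl, nh, wt⟩ := d.tor ex na q τ hh
  obtain ⟨⟨t0, rfl⟩, tp⟩ := d.m.ex ex
  have i2 := q.i2
  have it := q.it
  have p5 := d.p5
  have p2 : p ≠ 2 := by omega
  obtain ⟨e, he⟩ : ∃ e, p = 2 * e + 1 := (Fact.out : p.Prime).odd_of_ne_two p2
  obtain ⟨a, a1, a2, a3⟩ := τ.gen
  have f1 : ∀ k, (μ : ZMod p) ^ k = 1 → p - 1 ∣ k := fun k hk => τ.prim k
    ((ZMod.intCast_zmod_eq_zero_iff_dvd _ p).1 (by push_cast; rw [hl, ← pow_mul, mul_comm, pow_mul, hk]; simp))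
  have f2 : (μ : ZMod p) ≠ 0 := fun c => a.ne_zero (by rw [a1, hl, c]; simp)
  have f3 : (μ : ZMod p) ^ e = -1 := (mul_self_eq_one_iff.1 (by
    rw [← pow_add, ← ZMod.pow_card_sub_one_eq_one f2]; congr 1; omega)).resolve_left fun c => by
      have := Nat.le_of_dvd (by omega) (f1 e c); omega
  have : Fact (2 < p) := ⟨by omega⟩
  have f4 : Odd (c + i) := Nat.not_even_iff_odd.1 fun ⟨r, hr⟩ => by
    have zE := q.zN
    have k1 : Wt h E z (l ^ 2) := d.cY (mul_mem (inv_mem (zpow_mem zE _)) (conj_mem_of_norm τ.hN zE)) τ.r2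
    have k2 : Wt h E z (μ ^ (c + (i - 1))) := (wt (i - 1) (by omega) z q.zM).mono
      (by rw [Nat.sub_add_cancel (by omega)]; exact q.le)
    have := congrArg (· ^ e) (X2.eq d.m.pg zE.1 q.zE k1 k2)
    simp only [Int.cast_pow, hl, ← pow_mul, mul_comm _ e] at this
    rw [pow_mul _ e, pow_mul _ e, f3, Even.neg_one_pow ⟨2 * c + (2 * t0 + 1) + 2, by ring⟩,
      Odd.neg_one_pow ⟨r - 1, by omega⟩] at this
    exact ZMod.neg_one_ne_one this.symm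
  have f5 : ∀ j k, j < k → k ≤ 2 * t0 + 1 + 2 → (μ : ZMod p) ^ (c + j) ≠ μ ^ (c + k) := fun j k h1 h2 h3 => by
    have := Nat.le_of_dvd (by omega) (f1 (k - j) (mul_left_cancel₀ (pow_ne_zero (c + j) f2) (by
      rw [← pow_add, mul_one, h3]; congr 1; omega)))
    omega
  have f6 : ∀ j, Odd (c + j) → ((μ : ZMod p) ^ (c + j)) ^ e ≠ 1 := fun j hj => by
    rw [← pow_mul, mul_comm, pow_mul, f3, hj.neg_one_pow]; exact ZMod.neg_one_ne_one
  have z0 : ∀ {j}, M j ≤ M 0 := fun {j} => d.m.manti (Nat.zero_le j)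
  obtain ⟨u, u1, u2⟩ := d.m.exZ
  have hy := conj_Yo τ.wE (d.zY u1)
  have one : ∀ {j x}, x ∈ M j → 2 * t0 + 1 + 3 - i < j → ⁅z, x⁆ = 1 := fun hx hj =>
    mem_bot.1 (d.m.mbot le_rfl ▸ d.m.cw q.zM hx (by omega))
  have y1 := (d.yle ex q).1 hy
  have y2 : w * u * w⁻¹ ∉ M (2 * t0 + 1 + 3 - i + 1) := fun c => d.z1 q u1 u2 τ.wE τ.wG (one c (by omega))
  have y3 : (m : ZMod p) = μ ^ (c + (2 * t0 + 1 + 3 - i)) := by
    have := X2.eq d.m.pm y1 y2 (i := m) (by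
      rw [Wt, τ.c u (d.zY u1) (one u1 (by omega)) (inv_mul_eq_one.1 (mem_bot.1 (d.zl ex q τ u u1))).symm,
        inv_mul_cancel]; exact one_mem _) (wt _ (by omega) _ y1)
    rwa [Int.cast_pow] at this
  let P : Subgroup G → Prop := fun B => ∀ j, j ≤ 2 * t0 + 1 + 2 → j ≠ 2 * t0 + 1 + 3 - i → Odd (c + j) →
    ∀ b ∈ B, b ∈ M j → b ∈ M (j + 1)
  have PY : P (Yo p E) := fun j h1 h2 h3 b b1 b2 => by_contra fun b3 => by
    have b4 := (d.yle ex q).1 b1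
    obtain ⟨v, v1, v2⟩ := τ.a1 b b1 (one b2 (lt_of_le_of_ne (not_lt.1 fun c => b3 (d.m.manti c b4)) h2.symm))
    have := X2.eq d.m.pm b2 b3 (wt j h1 b b2) (j := 1) (by
      rw [Wt, zpow_one, v2]; exact d.m.manti (by omega) ((d.yle ex q).2 v v1))
    rw [Int.cast_pow] at this
    exact f6 j h3 (by rw [this]; simp)
  obtain ⟨B, ⟨B1, B2, B3, B4⟩, B5⟩ := Set.Finite.exists_maximal
    (Set.toFinite {B | Yo p E ≤ B ∧ B ≤ E ∧ Nm E ≤ Nm B ∧ P B}) ⟨_, le_rfl, Yo_le, norm_Yo, PY⟩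
  have EN : E ≤ Nm E := le_normalizer
  have pE : IsPGroup p E := d.m.pg.to_le d.le
  by_cases cE : E ≤ B
  · obtain ⟨x, x1, x2, x3⟩ := d.low ex q
    by_cases c' : i - 2 = 2 * t0 + 1 + 3 - i
    · obtain ⟨x, x1, x2⟩ := exists_of_prime (d.m.midx (j := i) it)
      exact x2 (B4 i (by omega) (by omega) f4 x (cE (q.le x1)) x1)
    · obtain ⟨r, hr⟩ := f4
      exact x3 (B4 _ (by omega) c' ⟨r - 1, by omega⟩ x (cE x1) x2)
  have EB := EN.trans B3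
  have cl : Cl2 p B (Cm E E B) := cl2_of_comm (Cm_le.trans EB) fun x hx y hy => ((mem_Cm EB).1 hx).2 y (Cm_le hy)
  set A := cl.Pw p2 le_rfl with hA
  have mA : ∀ {a}, a ∈ A ↔ (a ∈ E ∧ ∀ x ∈ E, ⁅a, x⁆ ∈ B) ∧ a ^ p ∈ B := fun {a} => by
    rw [hA, Cl2.mem_Pw, mem_Cm EB]
  have BA : B ≤ A := fun b hb => mA.2 ⟨⟨B2 hb, fun x hx => comm_mem_left (EB hx) hb⟩, pow_mem hb p⟩
  have AE : A ≤ E := fun a ha => (mA.1 ha).1.1
  have nA : Nm E ≤ Nm A := fun g hg => Cl2.norm_Pw (norm_Cm EB hg hg (B3 hg)) (B3 hg)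
  obtain ⟨V, _, _, _, φ, ρ, s⟩ := exists_Sec BA ⟨fun x hx y hy => (mA.1 hx).1.2 y (AE hy), fun x hx => (mA.1 hx).2⟩ nA B3
  have k0 : ∀ g ∈ E, ρ g = 1 := fun g hg => (s.one (EN hg)).2 fun x hx => comm_symm ((mA.1 hx).1.2 g hg)
  have k1 : ∀ {g}, g ∈ Nm E → g ∈ Cn (Yo p E) → ρ g = 1 := fun {g} hg hg' => (s.one_tr hg).2
    (sup_le (fun g hg => (s.one_tr (EN hg)).1 (k0 g hg)) ((centralizer_le AE).trans (Cn_le_Tr BA)) (ker ⟨hg, hg'⟩))
  have zN : z ∈ Nm E := q.zN.2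
  have zp : ∀ {n n' : ℤ}, (n : ZMod p) = n' → ρ z ^ n = ρ z ^ n' := fun e => by
    have : ρ z ^ p = 1 := by
      rw [← s.mul.map_pow zN]
      exact k0 _ (q.le (by have := d.m.powm q.zM; rwa [Nat.sub_add_cancel (by omega)] at this))
    exact zpow_eq_zpow_iff_modEq.2 (((ZMod.intCast_eq_intCast_iff _ _ _).1 e).of_dvd
      (Int.natCast_dvd_natCast.2 (orderOf_dvd_of_pow_eq_one this)))
  have hE := τ.hE
  have wE := τ.wE
  have ZB := d.zY.trans B1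
  have key := st (h := ρ h) (w := ρ w) (z := ρ z) p2 a3
    (s.nil d.m.toMZ1 (AE.trans d.lt.le) zN (d.m.manti (by omega) q.zM) (by omega))
    (by rw [← s.mul.map_pow hE]; exact k1 (pow_mem hE _) τ.r1)
    (fun n hn => by
      have := k1 (mul_mem (inv_mem (zpow_mem zN _)) (mul_mem (mul_mem hE zN) (inv_mem hE))) τ.r2
      rw [s.mul.map_inv_mul (zpow_mem zN _) (mul_mem (mul_mem hE zN) (inv_mem hE)), s.mul.map_conj hE zN,
        s.mul.map_zpow zN, inv_mul_eq_one] at this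
      rw [← this]; exact zp (by rw [hn, a1, Int.cast_pow]))
    (by
      have := k1 (mul_mem (mul_mem (mul_mem hE wE) hE) (inv_mem wE)) τ.r3
      rwa [s.mul.map_mul_inv (mul_mem (mul_mem hE wE) hE) wE, s.mul.map_mul (mul_mem hE wE) hE,
        s.mul.map_mul hE wE] at this)
    (fun j n n' hn hn' => by
      have c1 := zpow_mem zN (m ^ j)
      have c2 := mul_mem (mul_mem (mul_mem wE c1) (inv_mem wE)) (pow_mem hE j)
      have c3 := zpow_mem zN (-l ^ j)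
      have := k1 (mul_mem (inv_mem (mul_mem c2 c1)) (mul_mem c3 wE)) (τ.r4 j)
      rw [s.mul.map_inv_mul (mul_mem c2 c1) (mul_mem c3 wE), s.mul.map_mul c2 c1, s.mul.map_mul c3 wE,
        s.mul.map_mul (mul_mem (mul_mem wE c1) (inv_mem wE)) (pow_mem hE j), s.mul.map_conj wE c1, s.mul.map_pow hE,
        s.mul.map_zpow zN, s.mul.map_zpow zN, inv_mul_eq_one] at this
      rw [zp (n' := -l ^ j) (by rw [hn, a1]; simp), zp (n := n') (n' := m ^ j) (by rw [hn', a2]; simp), this])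
    (fun v hv => by
      obtain ⟨x, hx, rfl⟩ := s.surj v
      refine (s.zero x hx).2 (by_contra fun c0 => ?_)
      have nb : ∀ j, 2 * t0 + 1 + 3 ≤ j → ¬ ∃ y ∈ M j, x⁻¹ * y ∈ B := fun j hj ⟨y, c1, c2⟩ =>
        c0 (mem_of_inv_mul' (ZB (d.m.manti hj c1)) c2)
      obtain ⟨j, ⟨y, c1, c2⟩, c3⟩ := Mh.B3.last (Q := fun j => ∃ y ∈ M j, x⁻¹ * y ∈ B)
        ⟨x, d.lt.le (AE hx), by simp⟩ (nb _ le_rfl)
      have c4 : j ≤ 2 * t0 + 1 + 2 := not_lt.1 fun c => nb j c ⟨y, c1, c2⟩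
      have c5 := mem_of_inv_mul hx (BA c2)
      have c6 : ∀ b ∈ B, b ∈ M j → b ∈ M (j + 1) := fun b b1 b2 => by_contra fun b3 => by
        rw [← d.m.gen b2 b3, mem_sup_zpowers (d.m.nm' (d.m.mle b2))] at c1
        obtain ⟨f, hf, n, rfl⟩ := c1
        exact c3 ⟨f, hf, by simpa [mul_assoc] using mul_mem c2 (inv_mem (zpow_mem b1 n))⟩
      rw [a2, ← (s.eq hx c5).2 c2, s.wt hE c5] at hv
      have c7 := X2.eq d.m.pm c1 (fun c => c3 ⟨y, c, c2⟩) (i := m)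
        (c6 _ hv (mul_mem (inv_mem (zpow_mem c1 _)) (conj_mem_of_norm (nh j) c1))) (wt j c4 y c1)
      rw [Int.cast_pow, y3] at c7
      rcases lt_trichotomy j (2 * t0 + 1 + 3 - i) with c | rfl | c
      exacts [f5 _ _ c (by omega) c7.symm, y2 (c6 _ (B1 hy) y1), f5 _ _ c c4 c7])
  rw [show (p - 1) / 2 = e by omega, ← s.mul.map_pow hE, s.one_tr (pow_mem hE e)] at key
  obtain ⟨x, x1, x2, x3, x4⟩ := exists_fix_mod pE le_rfl EN EB cE
  refine x2 (B5 ⟨B1.trans BA, AE, nA, fun j h1 h2 h3 b b1 b2 => by_contra fun b3 => f6 j h3 ?_⟩ BA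
    (mA.2 ⟨⟨x1, x4⟩, x3⟩))
  have := X2.eq d.m.pm b2 b3 ((wt j h1 b b2).pow (d.m.nm' (d.m.mle b2)) (nh _) e) (j := 1) (by
    rw [Wt, zpow_one]
    exact B4 j h1 h2 h3 _ (Tr.act key b1) (mul_mem (inv_mem b2) (conj_mem_of_norm (pow_mem (nh j) e) b2)))
  simpa using this

end CF.Mh
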