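import Cfsg.Agent.Mh.C2
import Cfsg.Agent.Mh.D1
import Cfsg.Agent.Mh.H
import Cfsg.Agent.Mh.W
import Cfsg.Agent.Mh.X1
import Cfsg.Agent.Mh.X3
import Cfsg.Agent.Mh.X4

/-! Essential subgroups of groups of maximal class: the double induction. -/

set_option autoImplicit false
set_option linter.unusedSectionVars false
set_option linter.unusedVariables false

namespace CF.Mh

open Cfsg Subgroup CF.Fus CF.FusC CF.Mxc CF.Mg Module
open CF.Fgs2 (MaxC)
open scoped commutatorElement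

universe u

variable {G : Type u} [Group G] {p t n : ℕ} {E P S Γ : Subgroup G} {L K M : ℕ → Subgroup G} {x γ : G}
  [Fact p.Prime] [Finite G]

theorem MZ.zle (m : MZ p t S L K M) (hF : Sat (FT S) p) (hE : (FT S).IsEssential p E) : M (t + 3) ≤ E :=
  fun _ hu => hF.ess_centric hE ⟨m.mle hu, Cn_symm ((hF.ess_lt hE).le.trans m.cZ') hu⟩

theorem MZ.nN (m : MZ p t S L K M) (hp : 5 ≤ p) (hF : Sat (FT S) p) (hE : (FT S).IsEssential p E) (lt : E < M 0) :
    NS S E ≤ M 0 := fun s hs => by_contra fun c => by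
  obtain ⟨j, -, rfl⟩ := m.inv lt.le (m.zle hF hE) hs.1 (m.m0 ▸ c) hs.2
  exact lt.ne (deq_of_idx lt.le m.mle (idx_p hp m.mc hF hE (le_normalizer.trans m.mch))
    (m.m0 ▸ m.kidx le_rfl (by omega)))

theorem MZ.small (m : MZ p t S L K M) (hp : p ≤ 3) (hF : Sat (FT S) p) (hE : (FT S).IsEssential p E)
    (se : SE E (NS S E) Γ) (le : E ≤ M 0) (nR : ∀ g ∈ Nm E, g ∈ Nm (M (t + 3)) → g ∈ Γ) : E = M 0 := by
  obtain ⟨ξ, a, b⟩ := se.ex
  obtain ⟨u, u1, u2⟩ := m.exZ
  have ne : K (t + 2) = K 1 := by_contra fun c => by have := (m.ex c).2; omega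
  have y := m.pw1 (by omega) (le (conj_mem_of_norm a (m.zle hF hE u1))) (by rw [conj_pow, m.zp u1]; simp)
  refine le.antisymm fun x hx => cy hF hE se (Cn_symm ((hF.ess_lt hE).le.trans m.cZ') u1)
    (fun k hk c => nR k hk (m.zgen u1 u2 ▸ norm_zpowers (by rw [c.eq]; simp))) a b (m.mle hx)
    (commutatorElement_eq_one_iff_commute.1 (mem_bot.1 (m.mbot le_rfl ▸ m.cn ne hx y (by omega))))

theorem MZ.eqK (m : MZ p t S L K M) (hx : x ∈ K (t + 2)) (hx' : x ∉ K 1) : K (t + 2) = M 1 ⊔ zpowers x := by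
  have a : M 1 ≤ K (t + 2) := m.ms le_rfl ▸ m.toMX.l1 le_rfl
  have b := idx_mul a m.toMX.kS
  rw [m.kidx (by omega) le_rfl, m.ms le_rfl, MY.didx1 m.toMY, sq, ← m.ms le_rfl] at b
  exact (sup_zpowers_eq (Nat.eq_of_mul_eq_mul_right (Fact.out : p.Prime).pos b).symm a hx
    fun c => hx' (m.m0 ▸ m.manti (Nat.zero_le 1) c)).symm

/-- the claim for one essential subgroup -/
def QQ (t : ℕ) (K M : ℕ → Subgroup G) (P : Subgroup G) : Prop :=
  (P ≤ M 0 → P = M 0) ∧ (P ≤ K (t + 2) → ¬ P ≤ K 1 → P = K (t + 2))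

/-- a big essential subgroup is `γ₁` unless `n = 6` -/
theorem MZ.big (m : MZ p t S L K M) (hF : Sat (FT S) p) (hP : (FT S).IsEssential p P) (q : QQ t K M P)
    (h : p ^ 3 < Nat.card P) : P = M 0 ∨ (P = K (t + 2) ∧ K (t + 2) ≠ K 1 ∧ t = 1) := by
  by_cases a : P ≤ K 1
  · exact .inl (q.1 (m.m0 ▸ a))
  by_cases b : P ≤ K (t + 2)
  · obtain ⟨x, x1, x2⟩ := SetLike.not_le_iff_exists.1 a
    have e : K (t + 2) ≠ K 1 := fun e => a (e ▸ b)
    refine .inr ⟨q.2 b a, e, by_contra fun c => ?_⟩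
    obtain ⟨r, hr⟩ := (m.ex e).1
    exact m.chain hF hP (b x1) x2 ((q.2 b a).trans (m.eqK (b x1) x2)) le_rfl (by omega) fun _ => by omega
  · rcases m.outA hF hP a b with c | ⟨c, -⟩ <;> rw [c, Nat.pow_lt_pow_iff_right (Fact.out : p.Prime).one_lt] at h <;> omega

theorem card_lt_cj (hF : Sat (FT S) p) (hE : (FT S).IsEssential p E) (h : Cj γ (NS S E) ≤ P) :
    Nat.card E < Nat.card P := (card_lt_of_lt (hF.ess_NS hE)).trans_le (by
  rw [← (iso_cj' (S := ⊤) (g := γ) le_top le_top).card_eq.symm]; exact card_le_of_le h)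

theorem MZ.t1 (m : MZ p t S L K M) (ih : ∀ r, t = r + 1 → T1.{u} p r) (hF : Sat (FT S) p)
    (hE : (FT S).IsEssential p E) (le : E ≤ M 0)
    (h : ∀ P, (FT S).IsEssential p P → Nat.card E < Nat.card P → QQ t K M P) : E = M 0 := by
  by_contra ne
  have pp : p.Prime := Fact.out
  have lt := lt_of_le_of_ne le ne
  obtain ⟨Γ, se⟩ := se_of_ess hF hE
  by_cases hp : p ≤ 3
  · exact ne (m.small hp hF hE se le fun g a b => by_contra fun c => ne (m.red ih hF hE le se a b c))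
  have p5 : 5 ≤ p := by_contra fun c => by
    obtain rfl : p = 4 := by omega
    exact absurd pp (by norm_num)
  have nN := m.nN p5 hF hE lt
  have d : DD p t S L K M E Γ := ⟨m, p5, hF, hE, se, lt, nN, fun γ hγ g a b => by_contra fun c => by
    obtain ⟨e1, e2⟩ := ess_cj hF hE (g := γ) ((Cj_le hγ nN).trans m.mle)
    have := m.red ih hF e1 (Cj_le hγ le) (e2 ▸ se.cj γ) (g := γ * g * γ⁻¹)
      (norm_of_Cj_le (img_le_iff.2 fun y hy => by
        obtain ⟨y, hy', rfl⟩ := exists_of_Cj hy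
        simpa [mul_assoc] using conj_mem_Cj (g := γ) (conj_mem_of_norm a hy'))) b fun e => c (mem_Cj_iff.1 e)
    exact ne (Cj_inj (this.trans (Cj_eq hγ).symm))⟩
  by_cases a : K (t + 2) ≠ K 1 ∧ (t = 1 ∨ ∀ a ∈ M 0, ∀ b ∈ M 0, ⁅a, b⁆ ∈ M (t + 3))
  · exact d.exa a.1 a.2
  have x : DX p t S L K M E Γ := ⟨d, fun g hg => ax hF NS_le m.mch (fun P γ b c => by
    have e := card_lt_cj hF hE c
    rcases m.big hF b (h P b e) (d.c3.trans_lt e) with rfl | f
    · exact le_rfl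
    · exact (a ⟨f.2.1, .inl f.2.2⟩).elim) ((Cj_eq hg).le.trans NS_le)⟩
  obtain ⟨i, z, q⟩ := d.zd
  obtain ⟨w, h, l, k, τ, hh⟩ := x.td q
  by_cases ex : K (t + 2) = K 1
  · exact d.nex ex q τ hh
  have na : ∃ a ∈ M 0, ∃ b ∈ M 0, ⁅a, b⁆ ∉ M (t + 3) := by
    by_contra c
    push Not at c
    exact a ⟨ex, .inr c⟩
  exact d.exb ex na q τ hh (x.ker ex na q τ hh)

theorem MZ.t2 (m : MZ p t S L K M) (hF : Sat (FT S) p) (hE : (FT S).IsEssential p E) (h1 : E ≤ K (t + 2))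
    (h2 : ¬ E ≤ K 1) (h : ∀ P, (FT S).IsEssential p P → Nat.card E < Nat.card P → QQ t K M P)
    (h' : ∀ P, (FT S).IsEssential p P → Nat.card E = Nat.card P → P ≤ M 0 → P = M 0) : E = K (t + 2) := by
  have pp : p.Prime := Fact.out
  obtain ⟨x, x1, x2⟩ := SetLike.not_le_iff_exists.1 h2
  obtain ⟨k, k1, k2, e, i, -⟩ := m.split hF hE x1 x2
  have ex : K (t + 2) ≠ K 1 := fun e => h2 (e ▸ h1)
  have a := (hF.ess_lt hE).le
  have le : M k ≤ E := e ▸ le_sup_left
  have c : ∀ j, k + j = t + 4 → Nat.card E = p ^ (j + 1) := fun j b => card_up le i (m.mcard b)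
  have z2 : M (t + 2) ≤ Cn E := Cn_symm fun y hy => m.ms (j := t + 2) (by omega) ▸ (m.toMX.mM.1 (h1 hy)).2
  rcases (show k = 1 ∨ (2 ≤ k ∧ k ≤ t) ∨ (2 ≤ k ∧ k = t + 1) ∨ k = t + 2 ∨ k = t + 3 by omega) with
    rfl | b | ⟨b, rfl⟩ | rfl | rfl
  · exact e.trans (m.eqK (h1 x1) x2).symm
  · exact (m.chain hF hE (h1 x1) x2 e k1 b.2 (by omega)).elim
  · refine (m.c2 hF hE (h1 x1) x2 e fun t2 P γ hP d => ?_).elim
    have f := card_lt_cj hF hE d
    rcases m.big hF hP (h P hP f) (lt_trans (by rw [c 3 rfl]; exact Nat.pow_lt_pow_right pp.one_lt (by omega)) f)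
      with rfl | g
    · have g := (iso_cj' (S := ⊤) (P := E) (g := γ) le_top le_top).card_eq
      have := h' _ (ess_cj hF hE (d.trans m.mle)).1 g ((img_mono (le_NS a)).trans d)
      rw [this, c 3 rfl, m.mcard (zero_add _)] at g
      have := Nat.pow_right_injective pp.two_le g
      omega
    · omega
  · have ab : E ≤ Cn E := fun y hy => mem_Cn_comm.2 fun v hv => mem_bot.1 (comm_of_cyc (B := ⊥) (fun _ _ => mem_Nm_bot)
      e.symm (fun u hu w hw => comm_symm (mem_bot.2 (mem_Cn_comm.1 (z2 hu) w hw))) hv hy)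
    have el := hF.elem_of_le_cube hE (le_centralizer_iff_isMulCommutative.1 ab) (c 2 rfl) le_rfl
    exact (no_cube (by have := (m.ex ex).2; obtain ⟨r, hr⟩ := (m.ex ex).1; omega) m.toMX hF hE
      (le_bot_iff.1 (El.Fr_le (p := p) ⟨fun u hu w hw => mem_bot.2 (mem_Cn_comm.1 (ab hw) u hu),
        el.2⟩ le_rfl)) (c 2 rfl)).elim
  · obtain ⟨y, y1, y2⟩ := exists_of_prime (m.midx (j := t + 2) (by omega))
    refine (x2 (m.m0 ▸ le_of_prime i le (m.manti (Nat.zero_le _)) (hF.ess_centric hE ⟨m.mle y1, z2 y1⟩) y2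
      (m.manti (Nat.zero_le _) y1) x1)).elim

theorem MZ.all (m : MZ p t S L K M) (ih : ∀ r, t = r + 1 → T1.{u} p r) (hF : Sat (FT S) p)
    (hE : (FT S).IsEssential p E) : QQ t K M E := by
  have : ∀ k (E : Subgroup G), Nat.card G ≤ Nat.card E + k → (FT S).IsEssential p E → QQ t K M E := fun k => by
    induction k with
    | zero => exact fun E a b => ((card_lt_of_lt ((hF.ess_lt b).trans_le le_top)).not_ge (by simpa using a)).elim
    | succ k h =>
      exact fun E a b => ⟨fun c => m.t1 ih hF b c fun P d e => h P (by omega) d, fun c c' => m.t2 hF b c c'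
        (fun P d e => h P (by omega) d) fun P d e f => m.t1 ih hF d f fun P' d' e' => h P' (by omega) d'⟩
  exact this _ E (Nat.le_add_left _ _) hE

omit [Finite G] in
theorem t1_all : ∀ t, T1.{u} p t
  | 0 => fun _ _ _ _ _ _ _ _ m hF hE => (m.all (fun _ e => by omega) hF hE).1
  | t + 1 => fun _ _ _ _ _ _ _ _ m hF hE => (m.all (fun r e => by obtain rfl : t = r := by omega
                                                                  exact t1_all t) hF hE).1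

theorem MZ.qq (m : MZ p t S L K M) (hF : Sat (FT S) p) (hE : (FT S).IsEssential p E) : QQ t K M E :=
  m.all (fun r _ => t1_all r) hF hE

theorem MZ.cases (m : MZ p t S L K M) (hF : Sat (FT S) p) (hE : (FT S).IsEssential p E) :
    Nat.card E = p ^ 2 ∨ (Nat.card E = p ^ 3 ∧ ¬ E ≤ Cn E) ∨ E = K 1 ∨ E = K (t + 2) := by
  by_cases a : E ≤ K 1
  · exact .inr (.inr (.inl (m.m0 ▸ (m.qq hF hE).1 (m.m0 ▸ a))))
  by_cases b : E ≤ K (t + 2)
  · exact .inr (.inr (.inr ((m.qq hF hE).2 b a)))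
  · exact (m.outA hF hE a b).imp_right .inl

theorem MZ.nop (m : MZ p t S L K M) (hF : Sat (FT S) p) (hE : (FT S).IsEssential p E) (ex : K (t + 2) ≠ K 1)
    (hc : Nat.card E = p ^ 3) : False := by
  have pp : p.Prime := Fact.out
  have k : ∀ r, 1 ≤ r → r ≤ t + 2 → Nat.card (K r) ≠ p ^ 3 := fun r a b c => by
    have := card_up m.toMX.kS (m.kidx a b) c
    rw [m.card] at this
    have := Nat.pow_right_injective pp.two_le this
    omega
  have f : ∀ E, (FT S).IsEssential p E → Nat.card E = p ^ 3 → ¬ E ≤ K 1 ∧ ¬ E ≤ K (t + 2) := fun E hE hc =>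
    have a : ¬ E ≤ K 1 := fun a => k 1 le_rfl (by omega) (m.m0 ▸ (m.qq hF hE).1 (m.m0 ▸ a) ▸ hc)
    ⟨a, fun b => k _ (by omega) le_rfl ((m.qq hF hE).2 b a ▸ hc)⟩
  refine m.nopearl hF hE ex (f E hE hc).1 (f E hE hc).2 hc fun P γ hP d => ?_
  have g := f _ (ess_cj hF hE (d.trans (hF.ess_lt hP).le)).1
    ((iso_cj' (S := ⊤) (P := E) (g := γ) le_top le_top).card_eq.symm.trans hc)
  have e := (img_mono (f := cj γ) (le_NS (hF.ess_lt hE).le)).trans d
  rcases m.big hF hP (m.qq hF hP) (hc ▸ card_lt_cj hF hE d) with rfl | ⟨rfl, -⟩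
  · exact g.1 (m.m0 ▸ e)
  · exact g.2 e

end CF.Mh
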