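import Cfsg.Agent.Mh.Z

/-! Essential subgroups of groups of maximal class: the result for all orders. -/

set_option autoImplicit false
set_option linter.unusedSectionVars false
set_option linter.unusedVariables false

namespace CF.Mh

open Cfsg Subgroup CF.Fus CF.FusC CF.Mxc CF.Mg Module
open CF.Fgs2 (LC MaxC)
open scoped commutatorElement

universe u

theorem q8_of_cube {G : Type u} [Group G] [Finite G] (hc : Nat.card G = 2 ^ 3) (h : ¬ IsMulCommutative G)
    (hn : ¬ CCh 2 (⊤ : Subgroup G)) : Nonempty (G ≃* QuaternionGroup 2) := by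
  obtain ⟨a, b⟩ := sq_of_cube hc h
  have c := (extraspecial_of_cube hc h).1.2.2
  refine (d8_or_q8 hc h).resolve_left fun ⟨f⟩ => hn (a.cch_of_invol (c ▸ a.cch_comm) (c ▸ a.pow_mem)
    (fun _ hx => a.pow_eq_one (c ▸ hx)) (a := f.symm (.sr 0)) (fun d => ?_)
    (by rw [← map_pow]; exact map_one f.symm ▸ rfl))
  have := congrArg f (mem_center_iff.1 d (f.symm (.r 1)))
  simp only [map_mul, MulEquiv.apply_symm_apply] at this
  exact absurd this (by decide)

variable {G : Type u} [Group G] {p t n : ℕ} {E S : Subgroup G} [Fact p.Prime] [Finite G]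

theorem core1 (h4 : 4 ≤ n) (mc : MaxC p n S) (hF : Sat (FT S) p) (hE : (FT S).IsEssential p E) :
    Nat.card E = p ^ 2 ∨ (Nat.card E = p ^ 3 ∧ ¬ E ≤ Cn E) ∨
      (∀ x ∈ S, x ∈ E ↔ ∀ y ∈ S.lowerCentralSeries 1, ⁅x, y⁆ ∈ S.lowerCentralSeries 3) ∨
      ∀ x ∈ S, x ∈ E ↔ x ∈ Cn (ucs S 2) := by
  have pp : p.Prime := Fact.out
  have lt := hF.ess_lt hE
  rcases (show n = 4 ∨ 5 ≤ n by omega) with rfl | h5
  · obtain ⟨j, hj⟩ := IsPGroup.iff_card.1 (hF.pgroup lt.le)
    have := card_lt_of_lt lt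
    rw [hj, mc.card, Nat.pow_lt_pow_iff_right pp.one_lt] at this
    rcases (show j = 0 ∨ j = 1 ∨ j = 2 ∨ j = 3 by omega) with rfl | rfl | rfl | rfl
    · exact (hF.ess_ne_bot hE (card_eq_one.1 hj)).elim
    · exact (hF.not_cch hE (cch_prime (by simpa using hj))).elim
    · exact .inl hj
    by_cases ab : E ≤ Cn E
    · have i := idx_of_card lt.le hj mc.card
      have l1 : S.lowerCentralSeries 1 ≤ E := commutator_le.2 (el_of_idx mc.isP lt.le i.le).1
      have l3 : S.lowerCentralSeries 3 = ⊥ := by rw [← map_LC, show LC S 3 = ⊥ from mc.bot, Subgroup.map_bot]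
      refine .inr (.inr (.inl fun x hx => ⟨fun a y hy => ?_, fun a => by_contra fun b => ?_⟩))
      · rw [mem_Cn_comm.1 (ab (l1 hy)) x a]; exact one_mem _
      · have : S ≤ Cn (S.lowerCentralSeries 1) := le_of_prime i lt.le (fun w hw => Cn_symm (l1.trans ab) hw) hx b
          (mem_Cn_comm.2 fun y hy => mem_bot.1 (comm_symm (l3 ▸ a y hy)))
        exact (maxC_iff mc.card mc.three).1 mc (le_bot_iff.1 (commutator_le.2 fun y hy w hw =>
          mem_bot.2 (mem_Cn_comm.1 (this hw) y hy)))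
    · exact .inr (.inl ⟨hj, ab⟩)
  obtain ⟨t, rfl⟩ : ∃ t, n = t + 5 := ⟨n - 5, by omega⟩
  obtain ⟨L, K, M, m⟩ := exists_mz mc
  refine (m.cases hF hE).imp_right (Or.imp_right (Or.imp ?_ ?_)) <;> rintro rfl x hx
  · rw [m.mk', ← m.lcs, ← m.lcs]
    exact ⟨fun a y hy => comm_symm (a.2 y hy), fun a => ⟨hx, fun y hy => comm_symm (a y hy)⟩⟩
  · rw [m.toMX.mM, MY.ucs2 m.toMY mc]
    exact and_iff_right hx

theorem core2 (h4 : 4 ≤ n) (mc : MaxC p n S) (hF : Sat (FT S) p) (hE : (FT S).IsEssential p E)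
    (hc : Nat.card E = p ^ 3) :
    ∀ x ∈ S, (∀ y ∈ S.lowerCentralSeries 1, ⁅x, y⁆ ∈ S.lowerCentralSeries 3) ↔ x ∈ Cn (ucs S 2) := by
  intro x hx
  rcases (show n = 4 ∨ 5 ≤ n by omega) with rfl | h5
  · have l3 : S.lowerCentralSeries 3 = ⊥ := by rw [← map_LC, show LC S 3 = ⊥ from mc.bot, Subgroup.map_bot]
    have c : ∀ {i y w}, y ∈ S.lowerCentralSeries i → w ∈ S → ⁅y, w⁆ ∈ S.lowerCentralSeries (i + 1) :=
      fun hy hw => commutator_mem_commutator hy hw
    have : S.lowerCentralSeries 1 = ucs S 2 := eq_of_le_of_card_ge (fun y hy => mem_ucs_succ.2 ⟨lcs_le S _ hy,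
      fun w hw => mem_ucs_succ.2 ⟨lcs_le S _ (c hy hw), fun v hv => by rw [ucs_zero, ← l3]; exact c (c hy hw) hv⟩⟩) (by
        rw [← map_LC, card_map_of_injective S.subtype_injective, mc.card_LC le_rfl (by omega)]
        exact card_ucs_le mc (i := 1) le_rfl)
    rw [l3, this, mem_Cn_comm]
    exact ⟨fun a y hy => mem_bot.1 (comm_symm (a y hy)), fun a y hy => comm_symm (mem_bot.2 (a y hy))⟩
  obtain ⟨t, rfl⟩ : ∃ t, n = t + 5 := ⟨n - 5, by omega⟩
  obtain ⟨L, K, M, m⟩ := exists_mz mc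
  have e : K (t + 2) = K 1 := by_contra fun c => m.nop hF hE c hc
  rw [← MY.ucs2 m.toMY mc, ← m.lcs, ← m.lcs, ← and_iff_right hx (b := x ∈ Cn _), ← m.toMX.mM, e, m.mk']
  exact ⟨fun a => ⟨hx, fun y hy => comm_symm (a y hy)⟩, fun a y hy => comm_symm (a.2 y hy)⟩

end CF.Mh
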